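import Mathlib.Algebra.Category.ModuleCat.Sheaf.Abelian
import Mathlib.Algebra.Category.ModuleCat.Sheaf.Colimits
import Mathlib.Algebra.Category.ModuleCat.Presheaf.Colimits
import Mathlib.Algebra.Category.ModuleCat.Sheaf.Limits
import Mathlib.Algebra.Category.Grp.Limits
import Mathlib.Algebra.Category.Grp.Colimits

/-!
# The underlying abelian sheaf functor on sheaves of modules is exact and preserves colimits
-/

universe w' w v v' u' u

open CategoryTheory Limits

namespace Groth.Agent.Lib.Modules.ToSheaf

variable {C : Type u'} [Category.{v'} C] {J : GrothendieckTopology C}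
  (R : Sheaf J RingCat.{u}) [HasSheafify J AddCommGrpCat.{v}]
  [J.WEqualsLocallyBijective AddCommGrpCat.{v}]

/-- `SheafOfModules.toSheaf` preserves the colimits that exist for presheaves of modules. -/
instance toSheaf_preservesColimitsOfShape (K : Type w) [Category.{w'} K]
    [HasColimitsOfShape K AddCommGrpCat.{v}] :
    PreservesColimitsOfShape K (SheafOfModules.toSheaf.{v} R) where
  preservesColimit {F} := by
    let S := PresheafOfModules.sheafification.{v} (𝟙 R.obj)
    let e : F ≅ (F ⋙ SheafOfModules.forget R) ⋙ S :=
      Functor.isoWhiskerLeft F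
        (asIso (PresheafOfModules.sheafificationAdjunction (𝟙 R.obj)).counit).symm
    suffices PreservesColimit ((F ⋙ SheafOfModules.forget R) ⋙ S) (SheafOfModules.toSheaf R) from
      preservesColimit_of_iso_diagram _ e.symm
    have hc := colimit.isColimit (F ⋙ SheafOfModules.forget R)
    haveI : PreservesColimitsOfShape K (presheafToSheaf J AddCommGrpCat.{v}) :=
      (sheafificationAdjunction J _).leftAdjoint_preservesColimits.preservesColimitsOfShape
    haveI : PreservesColimitsOfShape K S :=
      (PresheafOfModules.sheafificationAdjunction
        (𝟙 R.obj)).leftAdjoint_preservesColimits.preservesColimitsOfShape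
    haveI : PreservesColimitsOfShape K (S ⋙ SheafOfModules.toSheaf.{v} R) :=
      preservesColimitsOfShape_of_natIso
        (PresheafOfModules.sheafificationCompToSheaf (𝟙 R.obj)).symm
    exact preservesColimit_of_preserves_colimit_cocone (isColimitOfPreserves S hc)
      (isColimitOfPreserves (S ⋙ SheafOfModules.toSheaf.{v} R) hc)

instance toSheaf_preservesFiniteColimits [HasFiniteColimits AddCommGrpCat.{v}] :
    PreservesFiniteColimits (SheafOfModules.toSheaf.{v} R) where
  preservesFiniteColimits K _ _ := inferInstance

end Groth.Agent.Lib.Modules.ToSheaf
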