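import Mathlib.AlgebraicGeometry.Modules.Sheaf
import Mathlib.Topology.Sheaves.Abelian
import Mathlib.Algebra.Category.Grp.FilteredColimits
import Mathlib.Algebra.Category.Grp.Zero
import Mathlib.Algebra.Homology.ShortComplex.Exact
import Mathlib.CategoryTheory.Preadditive.AdditiveFunctor
import Groth.Agent.Lib.Modules.ToSheaf

/-!
# Stalks of O_X-modules: an exact, colimit preserving, jointly conservative family of functors

`stalkFunctor X x : X.Modules ⥤ Ab`, with `(stalkFunctor X x).obj M = M.presheaf.stalk x` and
`(stalkFunctor X x).map φ = (TopCat.Presheaf.stalkFunctor Ab x).map φ.mapPresheaf` definitionally.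
-/

universe u

open CategoryTheory Limits AlgebraicGeometry Opposite TopologicalSpace

namespace Groth.Agent.Lib.Modules.Stalk

variable (X : Scheme.{u})

/-- The underlying abelian sheaf of an O_X-module, with values in sheaves on the space `X`. -/
noncomputable abbrev toAbSheaf : X.Modules ⥤ TopCat.Sheaf AddCommGrpCat.{u} X :=
  SheafOfModules.toSheaf X.ringCatSheaf

instance toAbSheaf_additive : (toAbSheaf X).Additive :=
  inferInstanceAs (SheafOfModules.toSheaf X.ringCatSheaf).Additive

instance toAbSheaf_preservesFiniteLimits : PreservesFiniteLimits (toAbSheaf X) :=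
  inferInstanceAs (PreservesFiniteLimits (SheafOfModules.toSheaf X.ringCatSheaf))

instance toAbSheaf_preservesColimits : PreservesColimitsOfSize.{u, u} (toAbSheaf X) where
  preservesColimitsOfShape {K} _ :=
    inferInstanceAs (PreservesColimitsOfShape K (SheafOfModules.toSheaf.{u} X.ringCatSheaf))

instance toAbSheaf_preservesFiniteColimits : PreservesFiniteColimits (toAbSheaf X) :=
  inferInstanceAs (PreservesFiniteColimits (SheafOfModules.toSheaf X.ringCatSheaf))

instance toAbSheaf_reflectsIsomorphisms : (toAbSheaf X).ReflectsIsomorphisms :=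
  inferInstanceAs (SheafOfModules.toSheaf X.ringCatSheaf).ReflectsIsomorphisms

instance toAbSheaf_faithful : (toAbSheaf X).Faithful :=
  inferInstanceAs (SheafOfModules.toSheaf X.ringCatSheaf).Faithful

/-- The stalk at `x`, as a functor on O_X-modules with values in abelian groups. -/
noncomputable abbrev stalkFunctor (x : X) : X.Modules ⥤ AddCommGrpCat.{u} :=
  Scheme.Modules.toPresheaf X ⋙ TopCat.Presheaf.stalkFunctor AddCommGrpCat.{u} x

/-- The stalk functor is `toAbSheaf` followed by the stalk functor of sheaves of abelian groups. -/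
noncomputable def stalkFunctorIso (x : X) :
    toAbSheaf X ⋙ TopCat.Sheaf.forget AddCommGrpCat.{u} X ⋙ TopCat.Presheaf.stalkFunctor _ x ≅
      stalkFunctor X x :=
  Iso.refl _

instance toAbSheafStalk_preservesFiniteLimits (x : X) : PreservesFiniteLimits
    (toAbSheaf X ⋙ TopCat.Sheaf.forget AddCommGrpCat.{u} X ⋙ TopCat.Presheaf.stalkFunctor _ x) :=
  comp_preservesFiniteLimits _ _

instance stalkFunctor_preservesFiniteLimits (x : X) : PreservesFiniteLimits (stalkFunctor X x) :=
  preservesFiniteLimits_of_natIso (stalkFunctorIso X x)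

/-- The stalk functor on sheaves of abelian groups is a left adjoint (of the skyscraper functor). -/
lemma sheafStalk_isLeftAdjoint (x : X) :
    (TopCat.Sheaf.forget AddCommGrpCat.{u} X ⋙ TopCat.Presheaf.stalkFunctor _ x).IsLeftAdjoint := by
  classical
  exact (stalkSkyscraperSheafAdjunction x (C := AddCommGrpCat.{u})).isLeftAdjoint

instance stalkFunctor_preservesColimits (x : X) :
    PreservesColimitsOfSize.{u, u} (stalkFunctor X x) := by
  haveI := sheafStalk_isLeftAdjoint X x
  haveI : PreservesColimitsOfSize.{u, u}
      (toAbSheaf X ⋙ TopCat.Sheaf.forget AddCommGrpCat.{u} X ⋙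
        TopCat.Presheaf.stalkFunctor _ x) :=
    comp_preservesColimits _ _
  exact preservesColimits_of_natIso (stalkFunctorIso X x)

instance stalkFunctor_preservesFiniteColimits (x : X) :
    PreservesFiniteColimits (stalkFunctor X x) :=
  PreservesColimits.preservesFiniteColimits _

instance stalkFunctor_additive (x : X) : (stalkFunctor X x).Additive :=
  Functor.additive_of_preserves_binary_products _

variable {X} {M N : X.Modules}

lemma stalkFunctor_map_germ (x : X) (φ : M ⟶ N) {U : X.Opens} (hx : x ∈ U) (s : Γ(M, U)) :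
    (stalkFunctor X x).map φ (M.presheaf.germ U x hx s) = N.presheaf.germ U x hx (φ.app U s) :=
  TopCat.Presheaf.stalkFunctor_map_germ_apply U x hx φ.mapPresheaf s

/-- A morphism is zero iff it is zero on all stalks; so morphisms are determined by stalks. -/
lemma hom_ext_stalk {f g : M ⟶ N}
    (h : ∀ x : X, (stalkFunctor X x).map f = (stalkFunctor X x).map g) : f = g := by
  ext U s
  refine TopCat.Presheaf.section_ext (⟨N.presheaf, N.isSheaf⟩ : TopCat.Sheaf AddCommGrpCat.{u} X)
    U _ _ fun x hx => ?_
  have := ConcreteCategory.congr_hom (h x) (M.presheaf.germ U x hx s)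
  rw [stalkFunctor_map_germ, stalkFunctor_map_germ] at this
  exact this

/-- A morphism of O_X-modules is an isomorphism iff it is one on every stalk. -/
lemma isIso_iff_stalk (f : M ⟶ N) : IsIso f ↔ ∀ x : X, IsIso ((stalkFunctor X x).map f) := by
  refine ⟨fun _ _ => inferInstance, fun h => ?_⟩
  haveI : IsIso ((toAbSheaf X).map f) :=
    (TopCat.Presheaf.isIso_iff_stalkFunctor_map_iso ((toAbSheaf X).map f)).mpr h
  exact isIso_of_reflects_iso f (toAbSheaf X)

/-- A morphism of O_X-modules is an isomorphism iff it is bijective on every stalk. -/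
lemma isIso_iff_stalk_bijective (f : M ⟶ N) :
    IsIso f ↔ ∀ x : X, Function.Bijective ((stalkFunctor X x).map f) := by
  rw [isIso_iff_stalk]
  exact forall_congr' fun x => ConcreteCategory.isIso_iff_bijective _

lemma isZero_iff_stalk : IsZero M ↔ ∀ x : X, IsZero (M.presheaf.stalk x) := by
  refine ⟨fun h x => (stalkFunctor X x).map_isZero h, fun h => ?_⟩
  rw [IsZero.iff_id_eq_zero]
  exact hom_ext_stalk fun x => (h x).eq_of_src _ _

lemma isZero_iff_stalk_subsingleton :
    IsZero M ↔ ∀ x : X, Subsingleton (M.presheaf.stalk x) := by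
  rw [isZero_iff_stalk]
  exact forall_congr' fun x => ⟨fun h => AddCommGrpCat.subsingleton_of_isZero h,
    fun _ => AddCommGrpCat.isZero_of_subsingleton _⟩

lemma mono_iff_stalk (f : M ⟶ N) : Mono f ↔ ∀ x : X, Mono ((stalkFunctor X x).map f) := by
  refine ⟨fun _ _ => inferInstance, fun h => ?_⟩
  refine Preadditive.mono_of_cancel_zero _ fun {K} g hg => hom_ext_stalk fun x => ?_
  haveI := h x
  rw [← cancel_mono ((stalkFunctor X x).map f), ← Functor.map_comp, hg, Functor.map_zero,
    Functor.map_zero, zero_comp]

lemma epi_iff_stalk (f : M ⟶ N) : Epi f ↔ ∀ x : X, Epi ((stalkFunctor X x).map f) := by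
  refine ⟨fun _ _ => inferInstance, fun h => ?_⟩
  refine Preadditive.epi_of_cancel_zero _ fun {K} g hg => hom_ext_stalk fun x => ?_
  haveI := h x
  rw [← cancel_epi ((stalkFunctor X x).map f), ← Functor.map_comp, hg, Functor.map_zero,
    Functor.map_zero, comp_zero]

lemma mono_iff_stalk_injective (f : M ⟶ N) :
    Mono f ↔ ∀ x : X, Function.Injective ((stalkFunctor X x).map f) := by
  rw [mono_iff_stalk]
  exact forall_congr' fun x => AddCommGrpCat.mono_iff_injective _

lemma epi_iff_stalk_surjective (f : M ⟶ N) :
    Epi f ↔ ∀ x : X, Function.Surjective ((stalkFunctor X x).map f) := by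
  rw [epi_iff_stalk]
  exact forall_congr' fun x => AddCommGrpCat.epi_iff_surjective _

/-- Exactness of a complex of O_X-modules can be checked on stalks. -/
lemma exact_iff_stalk (S : ShortComplex X.Modules) :
    S.Exact ↔ ∀ x : X, (S.map (stalkFunctor X x)).Exact := by
  refine ⟨fun h x => h.map (stalkFunctor X x), fun h => ?_⟩
  rw [S.exact_iff_isZero_homology, isZero_iff_stalk]
  exact fun x => ((S.map (stalkFunctor X x)).exact_iff_isZero_homology.mp (h x)).of_iso
    (S.mapHomologyIso (stalkFunctor X x)).symm

lemma shortExact_iff_stalk (S : ShortComplex X.Modules) :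
    S.ShortExact ↔ ∀ x : X, (S.map (stalkFunctor X x)).ShortExact := by
  refine ⟨fun h x => h.map_of_exact (stalkFunctor X x), fun h => ?_⟩
  haveI : Mono S.f := (mono_iff_stalk _).mpr fun x => (h x).mono_f
  haveI : Epi S.g := (epi_iff_stalk _).mpr fun x => (h x).epi_g
  exact { exact := (exact_iff_stalk S).mpr fun x => (h x).exact }

/-- A morphism is a monomorphism iff it is injective on all sections. -/
lemma mono_iff_app_injective (f : M ⟶ N) :
    Mono f ↔ ∀ U, Function.Injective (f.app U) := by
  rw [mono_iff_stalk_injective]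
  refine ⟨fun h U => ?_, fun h x =>
    TopCat.Presheaf.stalkFunctor_map_injective_of_app_injective (f := f.mapPresheaf) h x⟩
  exact TopCat.Presheaf.app_injective_of_stalkFunctor_map_injective
    (F := (⟨M.presheaf, M.isSheaf⟩ : TopCat.Sheaf AddCommGrpCat.{u} X)) f.mapPresheaf U
    fun x _ => h x

/-- A morphism is an isomorphism iff it is bijective on all sections. -/
lemma isIso_iff_app_bijective (f : M ⟶ N) :
    IsIso f ↔ ∀ U, Function.Bijective (f.app U) := by
  rw [Scheme.Modules.Hom.isIso_iff_isIso_app]
  exact forall_congr' fun U => ConcreteCategory.isIso_iff_bijective _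

end Groth.Agent.Lib.Modules.Stalk
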