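import Mathlib.Algebra.Homology.ShortComplex.ExactFunctor
import Mathlib.CategoryTheory.Abelian.Exact
import Groth.Agent.Lib.Modules.Stalk

/-!
# Restriction to opens is exact; being iso/mono/epi/zero/exact is local
-/

universe u

open CategoryTheory Limits AlgebraicGeometry Opposite TopologicalSpace

namespace Groth.Agent.Lib.Modules.Local

open Groth.Agent.Lib.Modules Groth.Agent.Lib.Modules.Stalk

variable {X Y : Scheme.{u}} (f : X ⟶ Y) [IsOpenImmersion f]

/-- Stalks of the restriction along an open immersion. -/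
noncomputable def restrictStalkIso (x : X) :
    Scheme.Modules.restrictFunctor f ⋙ stalkFunctor X x ≅ stalkFunctor Y (f x) :=
  Scheme.Modules.restrictStalkNatIso f x

lemma restrictStalkIso_hom_germ (x : X) (M : Y.Modules) {U : X.Opens} (hx : x ∈ U)
    (s : Γ(M, f ''ᵁ U)) :
    (restrictStalkIso f x).hom.app M ((M.restrict f).presheaf.germ U x hx s) =
      M.presheaf.germ (f ''ᵁ U) (f x) (by simpa) s :=
  ConcreteCategory.congr_hom (Scheme.Modules.germ_restrictStalkNatIso_hom_app f x M hx) s

instance restrictFunctor_additive : (Scheme.Modules.restrictFunctor f).Additive where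
  map_add {M N φ ψ} := Scheme.Modules.hom_ext _ _ fun U => rfl

lemma restrict_map_exact (S : ShortComplex Y.Modules) (h : S.Exact) :
    (S.map (Scheme.Modules.restrictFunctor f)).Exact := by
  rw [exact_iff_stalk]
  intro x
  exact (ShortComplex.exact_iff_of_iso
    (S.mapNatIso (restrictStalkIso f x))).mpr (h.map (stalkFunctor Y (f x)))

instance restrictFunctor_preservesHomology :
    (Scheme.Modules.restrictFunctor f).PreservesHomology :=
  Functor.preservesHomology_of_map_exact _ (restrict_map_exact f)

instance restrictFunctor_preservesFiniteLimits :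
    PreservesFiniteLimits (Scheme.Modules.restrictFunctor f) :=
  Functor.preservesFiniteLimits_of_preservesHomology _

instance restrictFunctor_preservesFiniteColimits :
    PreservesFiniteColimits (Scheme.Modules.restrictFunctor f) :=
  PreservesColimits.preservesFiniteColimits _

section Cover

variable {X : Scheme.{u}} {ι : Type*} (U : ι → X.Opens) (hU : ⨆ i, U i = ⊤)

include hU

lemma exists_mem_cover (x : X) : ∃ i, ∃ y : (U i : Scheme.{u}), (U i).ι y = x := by
  obtain ⟨i, hi⟩ := Opens.mem_iSup.mp (hU ▸ trivial : x ∈ ⨆ i, U i)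
  exact ⟨i, ⟨x, hi⟩, rfl⟩

variable {M N : X.Modules}

/-- Being an isomorphism of O_X-modules is local. -/
lemma isIso_of_restrict (φ : M ⟶ N)
    (h : ∀ i, IsIso ((Scheme.Modules.restrictFunctor (U i).ι).map φ)) : IsIso φ := by
  refine (isIso_iff_stalk φ).mpr fun x => ?_
  obtain ⟨i, y, rfl⟩ := exists_mem_cover U hU x
  haveI := h i
  haveI : IsIso ((Scheme.Modules.restrictFunctor (U i).ι ⋙
      stalkFunctor (U i : Scheme.{u}) y).map φ) :=
    Functor.map_isIso (stalkFunctor (U i : Scheme.{u}) y)
      ((Scheme.Modules.restrictFunctor (U i).ι).map φ)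
  exact (NatIso.isIso_map_iff (restrictStalkIso (U i).ι y) φ).mp inferInstance

/-- Being a monomorphism of O_X-modules is local. -/
lemma mono_of_restrict (φ : M ⟶ N)
    (h : ∀ i, Mono ((Scheme.Modules.restrictFunctor (U i).ι).map φ)) : Mono φ := by
  refine (mono_iff_stalk φ).mpr fun x => ?_
  obtain ⟨i, y, rfl⟩ := exists_mem_cover U hU x
  haveI := h i
  let e : Arrow.mk ((Scheme.Modules.restrictFunctor (U i).ι ⋙
      stalkFunctor (U i : Scheme.{u}) y).map φ) ≅
      Arrow.mk ((stalkFunctor X ((U i).ι y)).map φ) :=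
    Arrow.isoMk ((restrictStalkIso (U i).ι y).app M) ((restrictStalkIso (U i).ι y).app N)
      ((restrictStalkIso (U i).ι y).hom.naturality φ).symm
  exact ((MorphismProperty.monomorphisms AddCommGrpCat.{u}).arrow_mk_iso_iff e).mp
    (Functor.map_mono (stalkFunctor (U i : Scheme.{u}) y)
      ((Scheme.Modules.restrictFunctor (U i).ι).map φ))

/-- Being an epimorphism of O_X-modules is local. -/
lemma epi_of_restrict (φ : M ⟶ N)
    (h : ∀ i, Epi ((Scheme.Modules.restrictFunctor (U i).ι).map φ)) : Epi φ := by
  refine (epi_iff_stalk φ).mpr fun x => ?_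
  obtain ⟨i, y, rfl⟩ := exists_mem_cover U hU x
  haveI := h i
  let e : Arrow.mk ((Scheme.Modules.restrictFunctor (U i).ι ⋙
      stalkFunctor (U i : Scheme.{u}) y).map φ) ≅
      Arrow.mk ((stalkFunctor X ((U i).ι y)).map φ) :=
    Arrow.isoMk ((restrictStalkIso (U i).ι y).app M) ((restrictStalkIso (U i).ι y).app N)
      ((restrictStalkIso (U i).ι y).hom.naturality φ).symm
  exact ((MorphismProperty.epimorphisms AddCommGrpCat.{u}).arrow_mk_iso_iff e).mp
    (Functor.map_epi (stalkFunctor (U i : Scheme.{u}) y)
      ((Scheme.Modules.restrictFunctor (U i).ι).map φ))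

/-- Morphisms of O_X-modules agreeing on an open cover are equal. -/
lemma hom_ext_restrict {φ ψ : M ⟶ N}
    (h : ∀ i, (Scheme.Modules.restrictFunctor (U i).ι).map φ =
      (Scheme.Modules.restrictFunctor (U i).ι).map ψ) : φ = ψ := by
  refine hom_ext_stalk fun x => ?_
  obtain ⟨i, y, rfl⟩ := exists_mem_cover U hU x
  rw [← cancel_epi ((restrictStalkIso (U i).ι y).hom.app M)]
  refine (((restrictStalkIso (U i).ι y).hom.naturality φ).symm.trans ?_).trans
    ((restrictStalkIso (U i).ι y).hom.naturality ψ)
  exact congrArg (fun a => (stalkFunctor (U i : Scheme.{u}) y).map a ≫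
    (restrictStalkIso (U i).ι y).hom.app N) (h i)

/-- An O_X-module vanishing on an open cover is zero. -/
lemma isZero_of_restrict (h : ∀ i, IsZero (M.restrict (U i).ι)) : IsZero M := by
  rw [IsZero.iff_id_eq_zero]
  exact hom_ext_restrict U hU fun i => (h i).eq_of_src _ _

/-- Exactness of a complex of O_X-modules is local. -/
lemma exact_of_restrict (S : ShortComplex X.Modules)
    (h : ∀ i, (S.map (Scheme.Modules.restrictFunctor (U i).ι)).Exact) : S.Exact := by
  refine (exact_iff_stalk S).mpr fun x => ?_
  obtain ⟨i, y, rfl⟩ := exists_mem_cover U hU x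
  exact (ShortComplex.exact_iff_of_iso (S.mapNatIso (restrictStalkIso (U i).ι y))).mp
    ((h i).map (stalkFunctor (U i : Scheme.{u}) y))

end Cover

end Groth.Agent.Lib.Modules.Local
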