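import Groth.Prelude.Def_FlatMod2
import Mathlib.Algebra.Category.ModuleCat.Abelian
import Mathlib.Algebra.Category.ModuleCat.EpiMono
import Groth.Agent.Lib.Modules.Stalk

/-!
# The O_{X,x}-module structure on stalks of O_X-modules

Uses the prelude instance `FlatMod.moduleStalk`.
-/

universe u

open CategoryTheory Limits AlgebraicGeometry Opposite TopologicalSpace

namespace Groth.Agent.Lib.Modules.StalkModule

open Groth.Agent.Lib.Modules

variable {X : Scheme.{u}} {M N K : X.Modules}

lemma germ_smul {U : X.Opens} {x : X} (hx : x ∈ U) (r : Γ(X, U)) (m : Γ(M, U)) :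
    M.presheaf.germ U x hx (r • m) =
      X.presheaf.germ U x hx r • M.presheaf.germ U x hx m :=
  PresheafOfModules.germ_smul (R := X.presheaf)
    (show PresheafOfModules (X.presheaf ⋙ forget₂ CommRingCat RingCat) from M.val) x U hx r m

/-- A pair of a germ of a function and a germ of a section is represented on a common open. -/
lemma exists_germ_eq₂ {x : X} (a : X.presheaf.stalk x) (v : M.presheaf.stalk x) :
    ∃ (U : X.Opens) (hx : x ∈ U) (r : Γ(X, U)) (m : Γ(M, U)),
      X.presheaf.germ U x hx r = a ∧ M.presheaf.germ U x hx m = v := by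
  obtain ⟨Ua, ha, r, rfl⟩ := TopCat.Presheaf.exists_germ_eq X.presheaf a
  obtain ⟨Uv, hv, m, rfl⟩ := TopCat.Presheaf.exists_germ_eq M.presheaf v
  exact ⟨Ua ⊓ Uv, ⟨ha, hv⟩, X.presheaf.map (homOfLE inf_le_left).op r,
    M.presheaf.map (homOfLE inf_le_right).op m,
    TopCat.Presheaf.germ_res_apply _ _ _ _ _, TopCat.Presheaf.germ_res_apply _ _ _ _ _⟩

lemma stalkFunctor_map_smul (φ : M ⟶ N) (x : X) (a : X.presheaf.stalk x)
    (v : M.presheaf.stalk x) :
    (show N.presheaf.stalk x from (Stalk.stalkFunctor X x).map φ (a • v)) =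
      a • (show N.presheaf.stalk x from (Stalk.stalkFunctor X x).map φ v) := by
  obtain ⟨U, hx, r, m, rfl, rfl⟩ := exists_germ_eq₂ a v
  rw [← germ_smul hx r m, Stalk.stalkFunctor_map_germ, Scheme.Modules.Hom.app_smul,
    germ_smul hx r, Stalk.stalkFunctor_map_germ]

/-- The map on stalks induced by a morphism of O_X-modules, as an `O_{X,x}`-linear map. -/
noncomputable def stalkMapₗ (φ : M ⟶ N) (x : X) :
    M.presheaf.stalk x →ₗ[X.presheaf.stalk x] N.presheaf.stalk x where
  toFun v := (Stalk.stalkFunctor X x).map φ v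
  map_add' := map_add _
  map_smul' a v := stalkFunctor_map_smul φ x a v

lemma stalkMapₗ_apply (φ : M ⟶ N) (x : X) (v : M.presheaf.stalk x) :
    stalkMapₗ φ x v = (Stalk.stalkFunctor X x).map φ v := rfl

@[simp]
lemma stalkMapₗ_germ (φ : M ⟶ N) {U : X.Opens} {x : X} (hx : x ∈ U) (m : Γ(M, U)) :
    stalkMapₗ φ x (M.presheaf.germ U x hx m) = N.presheaf.germ U x hx (φ.app U m) :=
  Stalk.stalkFunctor_map_germ x φ hx m

@[simp]
lemma stalkMapₗ_id (x : X) : stalkMapₗ (𝟙 M) x = LinearMap.id :=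
  LinearMap.ext fun v => by
    rw [stalkMapₗ_apply, CategoryTheory.Functor.map_id]
    rfl

@[simp]
lemma stalkMapₗ_comp (φ : M ⟶ N) (ψ : N ⟶ K) (x : X) :
    stalkMapₗ (φ ≫ ψ) x = (stalkMapₗ ψ x).comp (stalkMapₗ φ x) :=
  LinearMap.ext fun v => by
    rw [stalkMapₗ_apply, Functor.map_comp]
    rfl

@[simp]
lemma stalkMapₗ_add (φ ψ : M ⟶ N) (x : X) :
    stalkMapₗ (φ + ψ) x = stalkMapₗ φ x + stalkMapₗ ψ x :=
  LinearMap.ext fun v => by
    rw [LinearMap.add_apply, stalkMapₗ_apply, Functor.map_add]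
    rfl

@[simp]
lemma stalkMapₗ_zero (x : X) : stalkMapₗ (0 : M ⟶ N) x = 0 :=
  LinearMap.ext fun v => by
    rw [LinearMap.zero_apply, stalkMapₗ_apply, Functor.map_zero]
    rfl

/-- An isomorphism of O_X-modules gives `O_{X,x}`-linear isomorphisms of stalks. -/
noncomputable def stalkLinearEquiv (e : M ≅ N) (x : X) :
    M.presheaf.stalk x ≃ₗ[X.presheaf.stalk x] N.presheaf.stalk x :=
  LinearEquiv.ofLinearMap (stalkMapₗ e.hom x) (stalkMapₗ e.inv x)
    (by rw [← stalkMapₗ_comp, e.inv_hom_id, stalkMapₗ_id])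
    (by rw [← stalkMapₗ_comp, e.hom_inv_id, stalkMapₗ_id])

variable (X) in
/-- The stalk at `x` as a functor to modules over the local ring. -/
noncomputable def stalkModFunctor (x : X) : X.Modules ⥤ ModuleCat.{u} (X.presheaf.stalk x) where
  obj M := ModuleCat.of (X.presheaf.stalk x) (M.presheaf.stalk x)
  map φ := ModuleCat.ofHom (stalkMapₗ φ x)
  map_id M := by simp
  map_comp φ ψ := by simp

instance stalkModFunctor_additive (x : X) : (stalkModFunctor X x).Additive where
  map_add {M N φ ψ} := by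
    ext v
    exact DFunLike.congr_fun (stalkMapₗ_add φ ψ x) v

/-- Forgetting the module structure gives back the stalk functor. -/
noncomputable def stalkModFunctorForgetIso (x : X) :
    stalkModFunctor X x ⋙ forget₂ (ModuleCat.{u} (X.presheaf.stalk x)) AddCommGrpCat.{u} ≅
      Stalk.stalkFunctor X x :=
  Iso.refl _

instance stalkModFunctor_preservesFiniteLimits (x : X) :
    PreservesFiniteLimits (stalkModFunctor X x) :=
  haveI : PreservesFiniteLimits
      (stalkModFunctor X x ⋙ forget₂ (ModuleCat.{u} (X.presheaf.stalk x)) AddCommGrpCat.{u}) :=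
    preservesFiniteLimits_of_natIso (stalkModFunctorForgetIso x).symm
  preservesFiniteLimits_of_reflects_of_preserves _
    (forget₂ (ModuleCat.{u} (X.presheaf.stalk x)) AddCommGrpCat.{u})

instance stalkModFunctor_preservesColimits (x : X) :
    PreservesColimitsOfSize.{u, u} (stalkModFunctor X x) :=
  haveI : PreservesColimitsOfSize.{u, u}
      (stalkModFunctor X x ⋙ forget₂ (ModuleCat.{u} (X.presheaf.stalk x)) AddCommGrpCat.{u}) :=
    preservesColimits_of_natIso (stalkModFunctorForgetIso x).symm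
  haveI : ReflectsColimitsOfSize.{u, u}
      (forget₂ (ModuleCat.{u} (X.presheaf.stalk x)) AddCommGrpCat.{u}) :=
    reflectsColimits_of_reflectsIsomorphisms
  preservesColimits_of_reflects_of_preserves _
    (forget₂ (ModuleCat.{u} (X.presheaf.stalk x)) AddCommGrpCat.{u})

lemma isIso_iff_stalkMapₗ_bijective (φ : M ⟶ N) :
    IsIso φ ↔ ∀ x : X, Function.Bijective (stalkMapₗ φ x) :=
  Stalk.isIso_iff_stalk_bijective φ

lemma mono_iff_stalkMapₗ_injective (φ : M ⟶ N) :
    Mono φ ↔ ∀ x : X, Function.Injective (stalkMapₗ φ x) :=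
  Stalk.mono_iff_stalk_injective φ

lemma epi_iff_stalkMapₗ_surjective (φ : M ⟶ N) :
    Epi φ ↔ ∀ x : X, Function.Surjective (stalkMapₗ φ x) :=
  Stalk.epi_iff_stalk_surjective φ

lemma hom_ext_stalkMapₗ {φ ψ : M ⟶ N} (h : ∀ x : X, stalkMapₗ φ x = stalkMapₗ ψ x) : φ = ψ :=
  Stalk.hom_ext_stalk fun x => ConcreteCategory.ext_apply fun v => DFunLike.congr_fun (h x) v

end Groth.Agent.Lib.Modules.StalkModule
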