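import Groth.Prelude.Def_FlatMod2
import Groth.Agent.Lib.Modules.StalkModule
import Groth.Agent.Lib.Modules.Local

/-!
# Maps out of finite free modules, their stalks, restriction
-/

universe u

open CategoryTheory Limits AlgebraicGeometry Opposite TopologicalSpace

namespace Groth.Agent.Lib.Modules.Free

open Groth.Agent.Lib.Modules

variable {X Y : Scheme.{u}} {M N : X.Modules}

/-- The morphism `O_X ⟶ M` given by a global section. -/
noncomputable def unitHom (M : X.Modules) (m : Γ(M, ⊤)) : Coh.structureModule X ⟶ M :=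
  (SheafOfModules.unitHomEquiv M).symm (M.val.sectionsMk
    (fun V => M.presheaf.map (homOfLE (le_top (a := V.unop))).op m)
    (fun V W g => by
      change (M.presheaf.map (homOfLE le_top).op ≫ M.presheaf.map g) m = _
      rw [← Functor.map_comp]
      rfl))

lemma unitHom_app (M : X.Modules) (m : Γ(M, ⊤)) (V : X.Opens) (r : Γ(X, V)) :
    (unitHom M m).app V r = r • M.presheaf.map (homOfLE (le_top (a := V))).op m := rfl

lemma map_top_top (M : X.Modules) (m : Γ(M, ⊤)) (h : (⊤ : X.Opens) ≤ ⊤) :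
    M.presheaf.map (homOfLE h).op m = m := by
  rw [show (homOfLE h).op = 𝟙 (op (⊤ : X.Opens)) from rfl, CategoryTheory.Functor.map_id]
  rfl

@[simp]
lemma unitHom_app_one (M : X.Modules) (m : Γ(M, ⊤)) :
    (unitHom M m).app ⊤ (1 : Γ(X, ⊤)) = m := by
  rw [unitHom_app]
  exact (one_smul Γ(X, ⊤) _).trans (map_top_top M m _)

lemma unitHom_ext {φ ψ : Coh.structureModule X ⟶ M}
    (h : φ.app ⊤ (1 : Γ(X, ⊤)) = ψ.app ⊤ (1 : Γ(X, ⊤))) : φ = ψ := by
  refine Scheme.Modules.hom_ext _ _ fun U => ConcreteCategory.ext_apply fun r => ?_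
  have key : ∀ χ : Coh.structureModule X ⟶ M, χ.app U r =
      (show Γ(X, U) from r) •
        M.presheaf.map (homOfLE (le_top (a := U))).op (χ.app ⊤ (1 : Γ(X, ⊤))) := by
    intro χ
    have h1 : M.presheaf.map (homOfLE (le_top (a := U))).op (χ.app ⊤ (1 : Γ(X, ⊤))) =
        χ.app U (1 : Γ(X, U)) :=
      (ConcreteCategory.congr_hom (χ.mapPresheaf.naturality (homOfLE (le_top (a := U))).op)
        (1 : Γ(X, ⊤))).symm.trans
        (congrArg (χ.app U) (map_one (X.presheaf.map (homOfLE (le_top (a := U))).op).hom))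
    rw [h1, ← Scheme.Modules.Hom.app_smul]
    exact congrArg (χ.app U) (mul_one (show Γ(X, U) from r)).symm
  rw [key φ, key ψ, h]

variable {n : ℕ}

/-- The morphism out of a finite free module given by a family of global sections. -/
noncomputable def freeHom (s : Fin n → Γ(M, ⊤)) : FlatMod.freeMod X n ⟶ M :=
  Sigma.desc fun i => unitHom M (s i)

/-- The standard global sections of a finite free module. -/
noncomputable def gen (X : Scheme.{u}) (i : Fin n) : Γ(FlatMod.freeMod X n, ⊤) :=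
  (Sigma.ι (fun _ : Fin n => Coh.structureModule X) i).app ⊤ (1 : Γ(X, ⊤))

@[simp]
lemma freeHom_app_gen (s : Fin n → Γ(M, ⊤)) (i : Fin n) :
    (freeHom s).app ⊤ (gen X i) = s i := by
  change ((Sigma.ι (fun _ : Fin n => Coh.structureModule X) i) ≫ freeHom s).app ⊤ (1 : Γ(X, ⊤)) =
    s i
  rw [freeHom, Sigma.ι_desc, unitHom_app_one]

lemma freeHom_ext {φ ψ : FlatMod.freeMod X n ⟶ M}
    (h : ∀ i, φ.app ⊤ (gen X i) = ψ.app ⊤ (gen X i)) : φ = ψ :=
  Sigma.hom_ext _ _ fun i => unitHom_ext (h i)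

lemma freeHom_comp (s : Fin n → Γ(M, ⊤)) (p : M ⟶ N) :
    freeHom s ≫ p = freeHom fun i => p.app ⊤ (s i) :=
  freeHom_ext fun i => by
    rw [Scheme.Modules.Hom.comp_app, CategoryTheory.comp_apply, freeHom_app_gen, freeHom_app_gen]

lemma freeHom_stalk_germ (s : Fin n → Γ(M, ⊤)) (x : X) (i : Fin n) :
    StalkModule.stalkMapₗ (freeHom s) x
      ((FlatMod.freeMod X n).presheaf.germ ⊤ x trivial (gen X i)) =
      M.presheaf.germ ⊤ x trivial (s i) := by
  rw [StalkModule.stalkMapₗ_germ, freeHom_app_gen]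

/-- The germs of the standard sections span the stalks of a finite free module. -/
lemma span_germ_gen (x : X) :
    Submodule.span (X.presheaf.stalk x) (Set.range fun i : Fin n =>
      (FlatMod.freeMod X n).presheaf.germ ⊤ x trivial (gen X i)) = ⊤ := by
  set S := Submodule.span (X.presheaf.stalk x) (Set.range fun i : Fin n =>
      (FlatMod.freeMod X n).presheaf.germ ⊤ x trivial (gen X i))
  refine eq_top_iff.mpr fun w _ => ?_
  rw [← Submodule.Quotient.mk_eq_zero]
  let q : AddCommGrpCat.of ((FlatMod.freeMod X n).presheaf.stalk x) ⟶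
      AddCommGrpCat.of ((FlatMod.freeMod X n).presheaf.stalk x ⧸ S) :=
    AddCommGrpCat.ofHom S.mkQ.toAddMonoidHom
  suffices h : q = 0 from ConcreteCategory.congr_hom h w
  haveI : PreservesColimitsOfShape (Discrete (Fin n)) (Stalk.stalkFunctor X x) :=
    PreservesFiniteCoproducts.preserves _
  apply (isColimitOfPreserves (Stalk.stalkFunctor X x)
    (colimit.isColimit (Discrete.functor fun _ : Fin n => Coh.structureModule X))).hom_ext
  rintro ⟨i⟩
  ext v
  refine (Submodule.Quotient.mk_eq_zero S).mpr (?_ : _ ∈ S)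
  obtain ⟨U, hx, r, rfl⟩ := TopCat.Presheaf.exists_germ_eq _ v
  let ιi : Coh.structureModule X ⟶ FlatMod.freeMod X n :=
    Sigma.ι (fun _ : Fin n => Coh.structureModule X) i
  have key : ιi.app U r =
      (show Γ(X, U) from r) •
        (FlatMod.freeMod X n).presheaf.map (homOfLE (le_top (a := U))).op (gen X i) := by
    rw [← unitHom_app]
    exact congrArg (fun χ => χ.app U r) (unitHom_ext (φ := ιi)
      (ψ := unitHom _ (gen X i)) (unitHom_app_one _ _).symm)
  have hv : StalkModule.stalkMapₗ ιi x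
      ((Coh.structureModule X).presheaf.germ U x hx r) ∈ S := by
    rw [StalkModule.stalkMapₗ_germ, key, StalkModule.germ_smul, TopCat.Presheaf.germ_res_apply]
    exact Submodule.smul_mem _ _ (Submodule.subset_span ⟨i, rfl⟩)
  exact hv

/-- Restriction of a finite free module along an open immersion is finite free. -/
noncomputable def restrictFreeIso (f : X ⟶ Y) [IsOpenImmersion f] (n : ℕ) :
    (FlatMod.freeMod Y n).restrict f ≅ FlatMod.freeMod X n :=
  haveI : PreservesColimitsOfShape (Discrete (Fin n)) (Scheme.Modules.restrictFunctor f) :=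
    PreservesFiniteCoproducts.preserves _
  PreservesCoproduct.iso (Scheme.Modules.restrictFunctor f) _ ≪≫
    Sigma.mapIso fun _ => Scheme.Modules.restrictUnitIso f

/-- If `M` is free on `U` then it is free on every smaller open. -/
noncomputable def freeOfLE {U V : X.Opens} (h : V ≤ U) (e : M.restrict U.ι ≅ FlatMod.freeMod (↑U) n) :
    M.restrict V.ι ≅ FlatMod.freeMod (↑V) n :=
  (Scheme.Modules.restrictFunctorCongr (X.homOfLE_ι h).symm).app M ≪≫
    (Scheme.Modules.restrictFunctorComp (X.homOfLE h) U.ι).app M ≪≫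
    (Scheme.Modules.restrictFunctor (X.homOfLE h)).mapIso e ≪≫
    restrictFreeIso (X.homOfLE h) n

/-- A finite locally free module is free on arbitrarily small neighbourhoods of every point. -/
lemma exists_free_le (hM : FlatMod.IsFinLocFree M) {x : X} {W : X.Opens} (hx : x ∈ W) :
    ∃ (V : X.Opens) (n : ℕ), x ∈ V ∧ V ≤ W ∧
      Nonempty (M.restrict V.ι ≅ FlatMod.freeMod (↑V) n) := by
  obtain ⟨U, n, hxU, ⟨e⟩⟩ := hM x
  exact ⟨U ⊓ W, n, ⟨hxU, hx⟩, inf_le_right, ⟨freeOfLE inf_le_left e⟩⟩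

end Groth.Agent.Lib.Modules.Free

namespace Groth.Agent.Lib.Modules.Free

open Groth.Agent.Lib.Modules

variable {X Y : Scheme.{u}} {n : ℕ}

/-- Under `restrictFreeIso` the standard sections are the restrictions of the standard sections. -/
lemma restrictFreeIso_inv_gen (f : X ⟶ Y) [IsOpenImmersion f] (i : Fin n) :
    (restrictFreeIso f n).inv.app ⊤ (gen X i) =
      (FlatMod.freeMod Y n).presheaf.map (homOfLE (le_top (a := f ''ᵁ ⊤))).op (gen Y i) := by
  have h : Sigma.ι (fun _ : Fin n => Coh.structureModule X) i ≫ (restrictFreeIso f n).inv =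
      (Scheme.Modules.restrictUnitIso f).inv ≫ (Scheme.Modules.restrictFunctor f).map
        (Sigma.ι (fun _ : Fin n => Coh.structureModule Y) i) := by
    simp [restrictFreeIso]
  refine (congrArg (fun χ => χ.app ⊤ (1 : Γ(X, ⊤))) h).trans ?_
  let ιi : Coh.structureModule Y ⟶ FlatMod.freeMod Y n :=
    Sigma.ι (fun _ : Fin n => Coh.structureModule Y) i
  change ιi.app (f ''ᵁ ⊤) ((f.appIso ⊤).inv (1 : Γ(X, ⊤))) = _
  rw [show (f.appIso ⊤).inv (1 : Γ(X, ⊤)) = (1 : Γ(Y, f ''ᵁ ⊤)) from map_one _]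
  refine Eq.trans ?_ (ConcreteCategory.congr_hom
    (ιi.mapPresheaf.naturality (homOfLE (le_top (a := f ''ᵁ ⊤))).op) (1 : Γ(Y, ⊤)))
  exact congrArg (ιi.app (f ''ᵁ ⊤))
    (map_one (Y.presheaf.map (homOfLE (le_top (a := f ''ᵁ ⊤))).op).hom).symm

/-- A morphism out of a finite free module lifts along an epimorphism near any point. -/
lemma exists_lift {F G : Y.Modules} (p : G ⟶ F) [Epi p] (φ : FlatMod.freeMod Y n ⟶ F) (y : Y) :
    ∃ W : Y.Opens, y ∈ W ∧ ∀ {X : Scheme.{u}} (f : X ⟶ Y) [IsOpenImmersion f],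
      f ''ᵁ ⊤ ≤ W → ∃ ψ : (FlatMod.freeMod Y n).restrict f ⟶ G.restrict f,
        ψ ≫ (Scheme.Modules.restrictFunctor f).map p =
          (Scheme.Modules.restrictFunctor f).map φ := by
  have hsurj := (Stalk.epi_iff_stalk_surjective p).mp ‹_› y
  choose v hv using fun i => hsurj (F.presheaf.germ ⊤ y trivial (φ.app ⊤ (gen Y i)))
  choose U hU g hg using fun i => TopCat.Presheaf.exists_germ_eq G.presheaf (v i)
  choose W hW iW jW hWeq using fun i => TopCat.Presheaf.germ_eq (V := (⊤ : Y.Opens)) F.presheaf y (hU i) trivial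
    (p.app (U i) (g i)) (φ.app ⊤ (gen Y i))
    ((Stalk.stalkFunctor_map_germ y p (hU i) (g i)).symm.trans
      (((congrArg ((Stalk.stalkFunctor Y y).map p) (hg i))).trans (hv i)))
  refine ⟨Finset.univ.inf W, ?_, fun {X} f _ hf => ?_⟩
  · rw [← SetLike.mem_coe, Opens.coe_finset_inf, Finset.inf_set_eq_iInter]
    simp only [Set.mem_iInter]
    exact fun i _ => hW i
  have hle : ∀ i, f ''ᵁ ⊤ ≤ W i := fun i => hf.trans (Finset.inf_le (Finset.mem_univ i))
  let gs : Fin n → Γ(G.restrict f, ⊤) := fun i =>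
    G.presheaf.map (homOfLE ((hle i).trans (leOfHom (iW i)))).op (g i)
  refine ⟨(restrictFreeIso f n).hom ≫ freeHom gs, ?_⟩
  rw [Category.assoc, ← Iso.eq_inv_comp]
  refine freeHom_ext fun i => ?_
  rw [freeHom_comp, freeHom_app_gen, Scheme.Modules.Hom.comp_app, CategoryTheory.comp_apply,
    restrictFreeIso_inv_gen]
  have nat : ∀ {M N : Y.Modules} (χ : M ⟶ N) {U V : Y.Opens} (h : U ≤ V) (a : Γ(M, V)),
      χ.app U (M.presheaf.map (homOfLE h).op a) = N.presheaf.map (homOfLE h).op (χ.app V a) :=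
    fun χ _ _ h a => ConcreteCategory.congr_hom (χ.mapPresheaf.naturality (homOfLE h).op) a
  refine (nat p _ (g i)).trans (Eq.trans ?_ (nat φ _ (gen Y i)).symm)
  have e1 : (homOfLE ((hle i).trans (leOfHom (iW i)))).op =
      (iW i).op ≫ (homOfLE (hle i)).op := Subsingleton.elim _ _
  have e2 : (homOfLE (le_top (a := f ''ᵁ ⊤))).op = (jW i).op ≫ (homOfLE (hle i)).op :=
    Subsingleton.elim _ _
  rw [e1, e2, Functor.map_comp, Functor.map_comp, CategoryTheory.comp_apply,
    CategoryTheory.comp_apply, hWeq i]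

end Groth.Agent.Lib.Modules.Free
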