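import Groth.Agent.Lib.Modules.Local
import Groth.Agent.Lib.Modules.StalkModule

/-!
# Stalks of restrictions, semilinearly
-/

universe u

open CategoryTheory Limits AlgebraicGeometry Opposite TopologicalSpace

namespace Groth.Agent.Lib.Modules.StalkRestrict

open Groth.Agent.Lib.Modules

variable {X Y : Scheme.{u}} (f : X ⟶ Y) [IsOpenImmersion f]

/-- The additive bijection between the stalks of `M|_X` at `x` and of `M` at `f x`. -/
noncomputable def restrictStalkAddEquiv (M : Y.Modules) (x : X) :
    (M.restrict f).presheaf.stalk x ≃+ M.presheaf.stalk (f x) :=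
  ((Local.restrictStalkIso f x).app M).addCommGroupIsoToAddEquiv

@[simp]
lemma restrictStalkAddEquiv_germ (M : Y.Modules) {U : X.Opens} {x : X} (hx : x ∈ U)
    (s : Γ(M, f ''ᵁ U)) :
    restrictStalkAddEquiv f M x ((M.restrict f).presheaf.germ U x hx s) =
      M.presheaf.germ (f ''ᵁ U) (f x) (by simpa) s :=
  Local.restrictStalkIso_hom_germ f x M hx s

/-- `restrictStalkAddEquiv` is semilinear along the (bijective) stalk map. -/
lemma restrictStalkAddEquiv_smul (M : Y.Modules) (x : X) (a : Y.presheaf.stalk (f x))
    (v : (M.restrict f).presheaf.stalk x) :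
    restrictStalkAddEquiv f M x (f.stalkMap x a • v) = a • restrictStalkAddEquiv f M x v := by
  obtain ⟨U, hx, r, m, hr, rfl⟩ := StalkModule.exists_germ_eq₂ (f.stalkMap x a) v
  have hinj : Function.Injective (f.stalkMap x) :=
    (ConcreteCategory.bijective_of_isIso (f.stalkMap x)).injective
  have ha : Y.presheaf.germ (f ''ᵁ U) (f x) (by simpa) ((f.appIso U).inv r) = a := by
    apply hinj
    rw [Scheme.Hom.germ_stalkMap_apply, ← hr,
      ← ConcreteCategory.comp_apply (f.appIso U).inv, Scheme.Hom.appIso_inv_app]
    exact TopCat.Presheaf.germ_res_apply' _ _ _ _ _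
  rw [← hr, ← StalkModule.germ_smul hx r m, ← ha]
  refine (restrictStalkAddEquiv_germ f M hx
    (show Γ(M, f ''ᵁ U) from (f.appIso U).inv r • (show Γ(M, f ''ᵁ U) from m))).trans ?_
  rw [StalkModule.germ_smul, restrictStalkAddEquiv_germ f M hx m]

/-- Spans of stalks correspond under `restrictStalkAddEquiv`. -/
lemma span_image_restrictStalkAddEquiv (M : Y.Modules) (x : X)
    (s : Set ((M.restrict f).presheaf.stalk x)) :
    (Submodule.span (Y.presheaf.stalk (f x)) (restrictStalkAddEquiv f M x '' s) :
        Set (M.presheaf.stalk (f x))) =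
      restrictStalkAddEquiv f M x '' (Submodule.span (X.presheaf.stalk x) s) := by
  have hsurj : Function.Surjective (f.stalkMap x) :=
    (ConcreteCategory.bijective_of_isIso (f.stalkMap x)).surjective
  apply subset_antisymm
  · intro w hw
    induction hw using Submodule.span_induction with
    | mem w hw => exact Set.image_mono Submodule.subset_span hw
    | zero => exact ⟨0, Submodule.zero_mem _, map_zero _⟩
    | add a b _ _ ha hb =>
      obtain ⟨a, ha', rfl⟩ := ha
      obtain ⟨b, hb', rfl⟩ := hb
      exact ⟨a + b, Submodule.add_mem _ ha' hb', map_add _ _ _⟩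
    | smul c a _ ha =>
      obtain ⟨a, ha', rfl⟩ := ha
      exact ⟨f.stalkMap x c • a, Submodule.smul_mem _ _ ha', restrictStalkAddEquiv_smul ..⟩
  · rintro _ ⟨v, hv, rfl⟩
    induction hv using Submodule.span_induction with
    | mem w hw => exact Submodule.subset_span ⟨w, hw, rfl⟩
    | zero => rw [map_zero]; exact Submodule.zero_mem _
    | add a b _ _ ha hb => rw [map_add]; exact Submodule.add_mem _ ha hb
    | smul c a _ ha =>
      obtain ⟨c, rfl⟩ := hsurj c
      rw [restrictStalkAddEquiv_smul]
      exact Submodule.smul_mem _ _ ha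

end Groth.Agent.Lib.Modules.StalkRestrict
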