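import Groth.Agent.Lib.Modules.StalkRestrict

/-!
# Stalks are spanned by germs of generating sections

For an O_X-module of finite type every point has a neighbourhood `U` and finitely many sections of `M`
over `U` whose germs span the stalk at every point of `U`.
-/

universe u

open CategoryTheory Limits AlgebraicGeometry Opposite TopologicalSpace

namespace Groth.Agent.Lib.Modules.GenStalk

open Groth.Agent.Lib.Modules

variable {X : Scheme.{u}}

/-- The structure sheaf as an O_X-module. -/
noncomputable abbrev unitMod (X : Scheme.{u}) : X.Modules := SheafOfModules.unit X.ringCatSheaf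

/-- The image on stalks of a morphism out of `O_X` lies in the span of the germ of the image of `1`. -/
lemma stalkMap_unit_mem_span {M : X.Modules}
    (φ : unitMod X ⟶ M) (x : X)
    (v : (unitMod X).presheaf.stalk x) :
    StalkModule.stalkMapₗ φ x v ∈ Submodule.span (X.presheaf.stalk x)
      {M.presheaf.germ ⊤ x trivial
        (show Γ(M, ⊤) from (M.unitHomEquiv φ).1 (op ⊤))} := by
  obtain ⟨U, hx, r, rfl⟩ := TopCat.Presheaf.exists_germ_eq _ v
  rw [StalkModule.stalkMapₗ_germ]
  have key : φ.app U r = (show Γ(X, U) from r) •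
      (show Γ(M, U) from (M.unitHomEquiv φ).1 (op U)) := by
    refine Eq.trans (congrArg (φ.app U) ?_) (Scheme.Modules.Hom.app_smul φ r _)
    exact (mul_one (show Γ(X, U) from r)).symm
  have hres : M.presheaf.map (homOfLE (le_top : U ≤ ⊤)).op
      (show Γ(M, ⊤) from (M.unitHomEquiv φ).1 (op ⊤)) =
      (show Γ(M, U) from (M.unitHomEquiv φ).1 (op U)) :=
    (M.unitHomEquiv φ).2 (homOfLE (le_top : U ≤ ⊤)).op
  rw [key, StalkModule.germ_smul, ← hres, TopCat.Presheaf.germ_res_apply]
  exact Submodule.smul_mem _ _ (Submodule.mem_span_singleton_self _)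

/-- The germs of a family of global generating sections span every stalk. -/
lemma span_germ_generatingSections {M : X.Modules}
    (σ : SheafOfModules.GeneratingSections (R := X.ringCatSheaf) M) (x : X) :
    Submodule.span (X.presheaf.stalk x)
      (Set.range fun i : σ.I => M.presheaf.germ ⊤ x trivial
        (show Γ(M, ⊤) from (σ.s i).1 (op ⊤))) = ⊤ := by
  set S := Submodule.span (X.presheaf.stalk x)
    (Set.range fun i : σ.I => M.presheaf.germ ⊤ x trivial
      (show Γ(M, ⊤) from (σ.s i).1 (op ⊤))) with hS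
  let π : (SheafOfModules.free σ.I : X.Modules) ⟶ M := σ.π
  have hπ : Epi π := ⟨fun a b h => σ.epi.left_cancellation a b h⟩
  refine eq_top_iff.mpr fun w _ => ?_
  obtain ⟨v, rfl⟩ := (Stalk.epi_iff_stalk_surjective π).mp hπ x w
  rw [← Submodule.Quotient.mk_eq_zero]
  let q : AddCommGrpCat.of (M.presheaf.stalk x) ⟶ AddCommGrpCat.of (M.presheaf.stalk x ⧸ S) :=
    AddCommGrpCat.ofHom S.mkQ.toAddMonoidHom
  suffices h : (Stalk.stalkFunctor X x).map π ≫ q = 0 from ConcreteCategory.congr_hom h v
  apply (isColimitOfPreserves (Stalk.stalkFunctor X x)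
    (SheafOfModules.isColimitFreeCofan (R := X.ringCatSheaf) σ.I)).hom_ext
  rintro ⟨i⟩
  ext v
  let φ : unitMod X ⟶ M := SheafOfModules.ιFree i ≫ π
  have hφ : M.unitHomEquiv φ = σ.s i :=
    congrFun ((M.freeHomEquiv).apply_symm_apply σ.s) i
  refine (Submodule.Quotient.mk_eq_zero S).mpr (?_ : _ ∈ S)
  have hv : StalkModule.stalkMapₗ φ x v ∈ S := by
    refine Submodule.span_mono ?_ (stalkMap_unit_mem_span φ x v)
    rw [Set.singleton_subset_iff]
    exact ⟨i, by rw [hφ]⟩
  rw [StalkModule.stalkMapₗ_apply,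
    show (Stalk.stalkFunctor X x).map φ =
    (Stalk.stalkFunctor X x).map (SheafOfModules.ιFree i) ≫ (Stalk.stalkFunctor X x).map π
      from Functor.map_comp _ _ _] at hv
  exact hv

/-- Local generating sections give sections over `U` spanning all stalks at points of `U`. -/
lemma span_germ_over {M : X.Modules} (U : X.Opens)
    (σ : ((show SheafOfModules X.ringCatSheaf from M).over U).GeneratingSections) :
    ∃ s : σ.I → Γ(M, U), ∀ (x : X) (hx : x ∈ U),
      Submodule.span (X.presheaf.stalk x)
        (Set.range fun i => M.presheaf.germ U x hx (s i)) = ⊤ := by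
  let e := Scheme.Modules.overEquiv U
  haveI : e.functor.IsLeftAdjoint := e.isLeftAdjoint_functor
  haveI : PreservesColimitsOfSize.{u, u} e.functor := e.toAdjunction.leftAdjoint_preservesColimits
  let σ₁ := σ.map e.functor (U.sheafOfModulesEquivOverUnit X.ringCatSheaf).symm
  let σ' : SheafOfModules.GeneratingSections (R := (U : Scheme.{u}).ringCatSheaf)
      (M.restrict U.ι) :=
    σ₁.ofEpi ((Scheme.Modules.overFunctorEquiv U).hom.app M)
  let t : σ.I → Γ(M, U.ι ''ᵁ ⊤) := fun i => (σ'.s i).1 (op ⊤)
  refine ⟨fun i => M.presheaf.map (eqToHom U.ι_image_top.symm).op (t i), ?_⟩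
  suffices key : ∀ y : (U : Scheme.{u}), Submodule.span (X.presheaf.stalk (U.ι y))
      (Set.range fun i => M.presheaf.germ U (U.ι y) y.2
        (M.presheaf.map (eqToHom U.ι_image_top.symm).op (t i))) = ⊤ from
    fun x hx => key ⟨x, hx⟩
  intro y
  have h := span_germ_generatingSections σ' y
  have h' := StalkRestrict.span_image_restrictStalkAddEquiv U.ι M y
    (Set.range fun i : σ'.I => (M.restrict U.ι).presheaf.germ ⊤ y trivial
        (show Γ(M.restrict U.ι, ⊤) from (σ'.s i).1 (op ⊤)))
  rw [h, Submodule.top_coe, Set.image_univ_of_surjective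
    (StalkRestrict.restrictStalkAddEquiv U.ι M y).surjective] at h'
  refine eq_top_iff.mpr fun w _ => ?_
  refine Submodule.span_mono ?_ (SetLike.mem_coe.mp ((Set.ext_iff.mp h' w).mpr trivial))
  rintro _ ⟨_, ⟨i, rfl⟩, rfl⟩
  refine ⟨i, ?_⟩
  simp only
  rw [TopCat.Presheaf.germ_res_apply]
  exact (StalkRestrict.restrictStalkAddEquiv_germ U.ι M (U := ⊤) trivial (t i)).symm

/-- A module of finite type has, near each point, finitely many sections spanning all stalks. -/
lemma exists_span_stalk_of_isFiniteType (M : X.Modules)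
    [SheafOfModules.IsFiniteType (R := X.ringCatSheaf) M] (x : X) :
    ∃ (U : X.Opens), x ∈ U ∧ ∃ (n : ℕ) (s : Fin n → Γ(M, U)), ∀ (y : X) (hy : y ∈ U),
      Submodule.span (X.presheaf.stalk y)
        (Set.range fun i => M.presheaf.germ U y hy (s i)) = ⊤ := by
  obtain ⟨σ, hσ⟩ := SheafOfModules.IsFiniteType.exists_localGeneratorsData
    (show SheafOfModules X.ringCatSheaf from M)
  obtain ⟨i, hi⟩ : ∃ i, x ∈ σ.X i := by
    obtain ⟨W, f, ⟨i, ⟨g⟩⟩, hW⟩ := σ.coversTop ⊤ x trivial
    exact ⟨i, leOfHom g hW⟩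
  haveI := (hσ.isFiniteType i).finite
  obtain ⟨s, hs⟩ := span_germ_over (σ.X i) (σ.generators i)
  obtain ⟨n, ⟨e⟩⟩ := Finite.exists_equiv_fin (σ.generators i).I
  refine ⟨σ.X i, hi, n, s ∘ e.symm, fun y hy => ?_⟩
  rw [← hs y hy]
  congr 1
  exact e.symm.surjective.range_comp (fun j => M.presheaf.germ (σ.X i) y hy (s j))

/-- The stalks of a module of finite type are finite modules over the local rings. -/
lemma finite_stalk (M : X.Modules) [SheafOfModules.IsFiniteType (R := X.ringCatSheaf) M] (x : X) :
    Module.Finite (X.presheaf.stalk x) (M.presheaf.stalk x) := by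
  obtain ⟨U, hx, n, s, hs⟩ := exists_span_stalk_of_isFiniteType M x
  exact ⟨⟨(Set.finite_range fun i => M.presheaf.germ U x hx (s i)).toFinset,
    by rw [Set.Finite.coe_toFinset]; exact hs x hx⟩⟩

end Groth.Agent.Lib.Modules.GenStalk
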