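import Groth.Prelude.Def_CohB1
import Groth.Agent.Lib.Modules.GenStalk

/-!
# Supports of O_X-modules (`CohB1.support`)
-/

universe u

open CategoryTheory Limits AlgebraicGeometry Opposite TopologicalSpace

namespace Groth.Agent.Lib.Modules.Support

open Groth.Agent.Lib.Modules

variable {X : Scheme.{u}} {M N : X.Modules}

lemma not_mem_support_iff {x : X} :
    x ∉ CohB1.support M ↔ Subsingleton (M.presheaf.stalk x) :=
  not_not

lemma support_eq_empty_iff : CohB1.support M = ∅ ↔ IsZero M := by
  rw [Stalk.isZero_iff_stalk_subsingleton, Set.eq_empty_iff_forall_notMem]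
  exact forall_congr' fun _ => not_mem_support_iff

lemma support_congr (e : M ≅ N) : CohB1.support M = CohB1.support N := by
  ext x
  exact not_congr (StalkModule.stalkLinearEquiv e x).toEquiv.subsingleton_congr

lemma support_subset_of_mono (f : M ⟶ N) [Mono f] : CohB1.support M ⊆ CohB1.support N := by
  intro x hx hN
  exact hx ((StalkModule.mono_iff_stalkMapₗ_injective f).mp inferInstance x).subsingleton

lemma support_subset_of_epi (f : M ⟶ N) [Epi f] : CohB1.support N ⊆ CohB1.support M := by
  intro x hx hM
  exact hx ((StalkModule.epi_iff_stalkMapₗ_surjective f).mp inferInstance x).subsingleton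

lemma support_eq_union_of_shortExact {S : ShortComplex X.Modules} (h : S.ShortExact) :
    CohB1.support S.X₂ = CohB1.support S.X₁ ∪ CohB1.support S.X₃ := by
  haveI := h.mono_f
  haveI := h.epi_g
  refine subset_antisymm (fun x hx => ?_)
    (Set.union_subset (support_subset_of_mono S.f) (support_subset_of_epi S.g))
  by_contra hc
  rw [Set.mem_union, not_or, not_mem_support_iff, not_mem_support_iff] at hc
  obtain ⟨h1, h3⟩ := hc
  apply hx
  refine subsingleton_of_forall_eq 0 fun v => ?_
  have hex := (Stalk.exact_iff_stalk S).mp h.exact x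
  rw [ShortComplex.ab_exact_iff] at hex
  obtain ⟨a, ha⟩ := hex v (@Subsingleton.elim _ h3 _ _)
  rw [← ha, show a = 0 from @Subsingleton.elim _ h1 _ _]
  exact map_zero _

lemma support_restrict {Y : Scheme.{u}} (f : X ⟶ Y) [IsOpenImmersion f] (M : Y.Modules) :
    CohB1.support (M.restrict f) = f ⁻¹' CohB1.support M := by
  ext x
  exact not_congr (StalkRestrict.restrictStalkAddEquiv f M x).toEquiv.subsingleton_congr

lemma germ_eq_zero_of_not_mem_support {U : X.Opens} {x : X} (hx : x ∈ U)
    (h : x ∉ CohB1.support M) (s : Γ(M, U)) : M.presheaf.germ U x hx s = 0 :=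
  @Subsingleton.elim _ (not_mem_support_iff.mp h) _ _

/-- A section is zero iff all its germs at points of the support vanish. -/
lemma eq_zero_of_germ_eq_zero {U : X.Opens} (s : Γ(M, U))
    (h : ∀ (x : X) (hx : x ∈ U), x ∈ CohB1.support M → M.presheaf.germ U x hx s = 0) : s = 0 := by
  refine TopCat.Presheaf.section_ext (⟨M.presheaf, M.isSheaf⟩ : TopCat.Sheaf AddCommGrpCat.{u} X)
    U s 0 fun x hx => ?_
  refine Eq.trans ?_ (map_zero _).symm
  by_cases hs : x ∈ CohB1.support M
  exacts [h x hx hs, germ_eq_zero_of_not_mem_support hx hs s]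

/-- The support of a module of finite type is closed. -/
lemma isClosed_support (M : X.Modules) [SheafOfModules.IsFiniteType (R := X.ringCatSheaf) M] :
    IsClosed (CohB1.support M) := by
  rw [← isOpen_compl_iff, isOpen_iff_forall_mem_open]
  intro x hx
  obtain ⟨U, hxU, n, s, hs⟩ := GenStalk.exists_span_stalk_of_isFiniteType M x
  choose W hW iW jW hWeq using fun i => TopCat.Presheaf.germ_eq M.presheaf x hxU hxU (s i) 0
    ((germ_eq_zero_of_not_mem_support hxU hx (s i)).trans (map_zero _).symm)
  refine ⟨(U : Set X) ∩ ⋂ i, (W i : Set X), fun y hy => ?_,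
    U.2.inter (isOpen_iInter_of_finite fun i => (W i).2), hxU, Set.mem_iInter.mpr hW⟩
  refine not_mem_support_iff.mpr (subsingleton_of_forall_eq 0 fun v => ?_)
  have hv : v ∈ Submodule.span (X.presheaf.stalk y)
      (Set.range fun i => M.presheaf.germ U y hy.1 (s i)) := hs y hy.1 ▸ trivial
  rwa [Submodule.span_eq_bot.mpr, Submodule.mem_bot] at hv
  rintro _ ⟨i, rfl⟩
  change M.presheaf.germ U y hy.1 (s i) = 0
  rw [← TopCat.Presheaf.germ_res_apply M.presheaf (iW i) y (Set.mem_iInter.mp hy.2 i) (s i),
    hWeq i, map_zero, map_zero]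

end Groth.Agent.Lib.Modules.Support
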