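import Mathlib.CategoryTheory.Abelian.RightDerived
import Mathlib.CategoryTheory.Preadditive.Injective.Preserves
import Mathlib.Algebra.Homology.ShortComplex.ExactFunctor

/-!
# Right derived functors commute with exact functors preserving injectives
-/

universe v v' u u'

open CategoryTheory Limits

namespace Groth.Agent.Lib.Modules.DerivedComm

variable {C : Type u} [Category.{v} C] [Abelian C] {D : Type u'} [Category.{v'} D] [Abelian D]

/-- An exact functor preserving injectives maps an injective resolution to an injective
resolution. -/
noncomputable def mapInjectiveResolution (T : C ⥤ D) [T.Additive]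
    [T.PreservesInjectiveObjects] [T.PreservesHomology] {Z : C} (I : InjectiveResolution Z) :
    InjectiveResolution (T.obj Z) where
  cocomplex := (T.mapHomologicalComplex _).obj I.cocomplex
  injective n := Functor.PreservesInjectiveObjects.injective_obj (I.injective n)
  ι := (HomologicalComplex.singleMapHomologicalComplex _ _ _).inv.app _ ≫
    (T.mapHomologicalComplex _).map I.ι
  quasiIso := inferInstance

variable [HasInjectiveResolutions C]

/-- If `T` is exact and preserves injectives, `G` is exact and `F ⋙ G ≅ T ⋙ F`, then
`G (R^q F X) ≅ R^q F (T X)`. -/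
noncomputable def rightDerivedCommIso (F : C ⥤ D) [F.Additive] (T : C ⥤ C) [T.Additive]
    [T.PreservesInjectiveObjects] [T.PreservesHomology] (G : D ⥤ D) [G.Additive]
    [G.PreservesHomology] (θ : F ⋙ G ≅ T ⋙ F) (X : C) (q : ℕ) :
    G.obj ((F.rightDerived q).obj X) ≅ (F.rightDerived q).obj (T.obj X) :=
  let I := injectiveResolution X
  G.mapIso (I.isoRightDerivedObj F q) ≪≫
    ((((F.mapHomologicalComplex _).obj I.cocomplex).sc q).mapHomologyIso G).symm ≪≫
    (HomologicalComplex.homologyFunctor D _ q).mapIso
      ((NatIso.mapHomologicalComplex θ _).app I.cocomplex :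
        ((F ⋙ G).mapHomologicalComplex _).obj I.cocomplex ≅
          ((T ⋙ F).mapHomologicalComplex _).obj I.cocomplex) ≪≫
    ((mapInjectiveResolution T I).isoRightDerivedObj F q).symm

end Groth.Agent.Lib.Modules.DerivedComm
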