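import Groth.Agent.Lib.Modules.DualAdj
import Groth.Agent.Lib.Modules.DerivedComm

/-!
# The projection formula `E ⊗ f_* F ≅ f_* (f^* E ⊗ F)` for `E` with local dual bases
-/

universe u

open CategoryTheory Limits AlgebraicGeometry Opposite TopologicalSpace

namespace Groth.Agent.Lib.Modules.ProjFormula

open Groth.Agent.Lib.TensorMod
open Groth.Agent.Lib.TensorMod.Basic (tmap tensorFunctor)
open Groth.Agent.Lib.TensorMod.Free (pairM)
open Groth.Agent.Lib.TensorMod.Pullback (pb pf pbAdj mu unitSec pairM_mu)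
open Groth.Agent.Lib.TensorMod.Dual (rs rf DualSec dual dualRes rs_rs rf_rf rs_smul rs_self)
open Groth.Agent.Lib.Modules.TensorSec Groth.Agent.Lib.Modules.DualBasis
open Groth.Agent.Lib.Modules.DualAdj (tensorL)

variable {X Y : Scheme.{u}} (f : X ⟶ Y) {E : Y.Modules} {U V : Y.Opens} {n : ℕ}

lemma app_rf {U V : Y.Opens} (h : V ≤ U) (r : Γ(Y, U)) :
    f.app V (rf h r) = rf (fun _ hx => h hx : f ⁻¹ᵁ V ≤ f ⁻¹ᵁ U) (f.app U r) :=
  ConcreteCategory.congr_hom (f.naturality (homOfLE h).op) r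

/-- Sections of `j_* O` for the open `f⁻¹ U`. -/
noncomputable abbrev fnMod (U : Y.Opens) : X.Modules :=
  (Scheme.Modules.pushforward (f ⁻¹ᵁ U).ι).obj (Coh.structureModule (f ⁻¹ᵁ U : Scheme.{u}))

lemma fnMod_smul (U : Y.Opens) (W : X.Opens) (r : Γ(X, W))
    (a : Γ(X, (f ⁻¹ᵁ U).ι ''ᵁ ((f ⁻¹ᵁ U).ι ⁻¹ᵁ W))) :
    ((r • (show Γ(fnMod f U, W) from a) : Γ(fnMod f U, W)) :
        Γ(X, (f ⁻¹ᵁ U).ι ''ᵁ ((f ⁻¹ᵁ U).ι ⁻¹ᵁ W))) =
      rf ((f ⁻¹ᵁ U).ι.image_preimage_le W) r * a := by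
  have h : (show Γ(X, (f ⁻¹ᵁ U).ι ''ᵁ ((f ⁻¹ᵁ U).ι ⁻¹ᵁ W)) from (f ⁻¹ᵁ U).ι.app W r) =
      rf ((f ⁻¹ᵁ U).ι.image_preimage_le W) r := by
    rw [Scheme.Opens.ι_app]
    rfl
  exact congrArg (· * a) h

/-- For a section `e` of `E'` over `O`: functions on `O` to sections of `E'` on `O`, `a ↦ a • e`. -/
noncomputable def mulHom {E' : X.Modules} {O : X.Opens} (e : Γ(E', O)) :
    (Scheme.Modules.pushforward O.ι).obj (Coh.structureModule (O : Scheme.{u})) ⟶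
      (Scheme.Modules.pushforward O.ι).obj (E'.restrict O.ι) :=
  (Scheme.Modules.pushforward O.ι).map
    (Free.unitHom (E'.restrict O.ι) (rs E' (O.ι_image_le ⊤) e))

lemma mulHom_app {E' : X.Modules} {O : X.Opens} (e : Γ(E', O)) (W : X.Opens)
    (a : Γ(X, O.ι ''ᵁ (O.ι ⁻¹ᵁ W))) :
    ((mulHom e).app W a : Γ(E', O.ι ''ᵁ (O.ι ⁻¹ᵁ W))) =
      a • rs E' (V := O.ι ''ᵁ (O.ι ⁻¹ᵁ W)) (O.ι_image_le _) e := by
  refine Eq.trans (Free.unitHom_app (E'.restrict O.ι) _ (O.ι ⁻¹ᵁ W) a) ?_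
  change (O.ι.appIso (O.ι ⁻¹ᵁ W)).inv a • rs E' (O.ι.image_mono (le_top : O.ι ⁻¹ᵁ W ≤ ⊤))
    (rs E' (O.ι_image_le ⊤) e) = _
  rw [rs_rs, Scheme.Opens.ι_appIso]
  rfl

lemma exists_pullForm (φ : DualSec E U) :
    ∃ ψ : (pb f).obj E ⟶ fnMod f U, ∀ (V : Y.Opens) (x : Γ(E, V))
      (h : (f ⁻¹ᵁ U).ι ''ᵁ ((f ⁻¹ᵁ U).ι ⁻¹ᵁ (f ⁻¹ᵁ V)) ≤ f ⁻¹ᵁ (U ⊓ V)),
      (ψ.app (f ⁻¹ᵁ V) (unitSec f E x) :
          Γ(X, (f ⁻¹ᵁ U).ι ''ᵁ ((f ⁻¹ᵁ U).ι ⁻¹ᵁ (f ⁻¹ᵁ V)))) =
        rf h (f.app (U ⊓ V) (φ.app inf_le_left (rs E inf_le_right x))) := by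
  have hle : ∀ V : Y.Opens,
      (f ⁻¹ᵁ U).ι ''ᵁ ((f ⁻¹ᵁ U).ι ⁻¹ᵁ (f ⁻¹ᵁ V)) ≤ f ⁻¹ᵁ (U ⊓ V) := fun V x hx =>
    ⟨(f ⁻¹ᵁ U).ι_image_le _ hx, (f ⁻¹ᵁ U).ι.image_preimage_le _ hx⟩
  let cval : ∀ V : Y.Opens, Γ(E, V) →
      Γ(X, (f ⁻¹ᵁ U).ι ''ᵁ ((f ⁻¹ᵁ U).ι ⁻¹ᵁ (f ⁻¹ᵁ V))) := fun V x =>
    rf (hle V) (f.app (U ⊓ V) (φ.app inf_le_left (rs E inf_le_right x)))
  have cval_add : ∀ (V : Y.Opens) (a b : Γ(E, V)), cval V (a + b) = cval V a + cval V b := by
    intro V a b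
    simp only [cval]
    rw [rs_add, map_add, map_add]
    exact map_add (X.presheaf.map _).hom _ _
  have cval_smul : ∀ (V : Y.Opens) (r : Γ(Y, V)) (a : Γ(E, V)), cval V (r • a) =
      rf ((f ⁻¹ᵁ U).ι.image_preimage_le (f ⁻¹ᵁ V)) (f.app V r) * cval V a := by
    intro V r a
    simp only [cval]
    rw [rs_smul, map_smul, smul_eq_mul, map_mul, app_rf]
    refine (map_mul (X.presheaf.map _).hom _ _).trans ?_
    exact congrArg (fun z => z * rf (hle V) _) (rf_rf _ _ _)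
  have cval_rs : ∀ (V W : Y.Opens) (i : W ≤ V) (a : Γ(E, V)), cval W (rs E i a) =
      rf ((f ⁻¹ᵁ U).ι.image_mono (fun _ hz => i hz)) (cval V a) := by
    intro V W i a
    simp only [cval]
    have key : φ.app inf_le_left (rs E (inf_le_right : U ⊓ W ≤ W) (rs E i a)) =
        rf (inf_le_inf_left U i) (φ.app inf_le_left (rs E (inf_le_right : U ⊓ V ≤ V) a)) := by
      rw [DualSec.compat, rs_rs, rs_rs]
    rw [key, app_rf]
    exact (rf_rf _ _ _).trans (rf_rf _ _ _).symm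
  let c : E ⟶ (pf f).obj (fnMod f U) :=
    ⟨{ app := fun V => ModuleCat.ofHom
          (X := E.val.obj V) (Y := ((pf f).obj (fnMod f U)).val.obj V)
          { toFun := cval V.unop
            map_add' := cval_add V.unop
            map_smul' := fun r a => (cval_smul V.unop r a).trans
              (fnMod_smul f U (f ⁻¹ᵁ V.unop) (f.app V.unop r) _).symm }
       naturality := fun {V W} i => by
        ext a
        exact cval_rs V.unop W.unop (leOfHom i.unop) a }⟩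
  refine ⟨((pbAdj f).homEquiv _ _).symm c, fun V x h => ?_⟩
  have h2 : (pbAdj f).unit.app E ≫ (pf f).map (((pbAdj f).homEquiv _ _).symm c) = c :=
    ((pbAdj f).homEquiv_unit (Y := fnMod f U) (f := _)).symm.trans (Equiv.apply_symm_apply _ _)
  exact congrArg (fun t => t.app V x) h2

/-- The pullback of a form. -/
noncomputable def pullFormHom (φ : DualSec E U) : (pb f).obj E ⟶ fnMod f U :=
  (exists_pullForm f φ).choose

lemma le_image (W : X.Opens) (h : W ≤ f ⁻¹ᵁ U) :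
    W ≤ (f ⁻¹ᵁ U).ι ''ᵁ ((f ⁻¹ᵁ U).ι ⁻¹ᵁ W) :=
  fun x hx => ⟨⟨x, h hx⟩, hx, rfl⟩

/-- The pulled back form, as a section of the dual of the pullback. -/
noncomputable def pullForm (φ : DualSec E U) : DualSec ((pb f).obj E) (f ⁻¹ᵁ U) :=
  ⟨fun W =>
    { toFun := fun y => rf (le_image f W.1 W.2) ((pullFormHom f φ).app W.1 y)
      map_add' := fun a b => (congrArg _ (map_add _ a b)).trans (map_add (X.presheaf.map _).hom _ _)
      map_smul' := fun r y => by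
        refine (congrArg (rf (le_image f W.1 W.2))
          ((Scheme.Modules.Hom.app_smul (pullFormHom f φ) r y).trans
            (fnMod_smul f U W.1 r _))).trans ?_
        refine (map_mul (X.presheaf.map _).hom _ _).trans ?_
        exact congrArg (fun z => z * rf (le_image f W.1 W.2) _)
          ((rf_rf _ _ r).trans (Dual.rf_self _ r)) },
   fun V W h y => by
     change rf h (rf (le_image f V.1 V.2) ((pullFormHom f φ).app V.1 y)) =
       rf (le_image f W.1 W.2) ((pullFormHom f φ).app W.1 (rs _ h y))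
     rw [app_rs]
     change _ = rf _ (rf ((f ⁻¹ᵁ U).ι.image_mono (fun _ hz => h hz))
       ((pullFormHom f φ).app V.1 y))
     exact (rf_rf _ _ _).trans (rf_rf _ _ _).symm⟩

lemma pullForm_unitSec (φ : DualSec E U) (h : V ≤ U) (x : Γ(E, V)) :
    (pullForm f φ).app (fun _ hz => h hz : f ⁻¹ᵁ V ≤ f ⁻¹ᵁ U) (unitSec f E x) =
      f.app V (φ.app h x) := by
  have hl : (f ⁻¹ᵁ U).ι ''ᵁ ((f ⁻¹ᵁ U).ι ⁻¹ᵁ (f ⁻¹ᵁ V)) ≤ f ⁻¹ᵁ (U ⊓ V) := fun y hy =>
    ⟨(f ⁻¹ᵁ U).ι_image_le _ hy, (f ⁻¹ᵁ U).ι.image_preimage_le _ hy⟩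
  have hV : f ⁻¹ᵁ V ≤ f ⁻¹ᵁ U := fun _ hz => h hz
  change rf (le_image f (f ⁻¹ᵁ V) hV)
    ((pullFormHom f φ).app (f ⁻¹ᵁ V) (unitSec f E x) :
      Γ(X, (f ⁻¹ᵁ U).ι ''ᵁ ((f ⁻¹ᵁ U).ι ⁻¹ᵁ (f ⁻¹ᵁ V)))) = _
  rw [pullFormHom, (exists_pullForm f φ).choose_spec V x hl, rf_rf]
  have hVU : V ≤ U ⊓ V := le_inf h le_rfl
  have key : φ.app h x = rf hVU (φ.app inf_le_left (rs E (inf_le_right : U ⊓ V ≤ V) x)) := by
    rw [DualSec.compat, rs_rs, rs_self]
  rw [key, app_rf]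

lemma unitSec_rs {V W : Y.Opens} (h : W ≤ V) (x : Γ(E, V)) :
    rs _ (fun _ hz => h hz : f ⁻¹ᵁ W ≤ f ⁻¹ᵁ V) (unitSec f E x) = unitSec f E (rs E h x) :=
  (app_rs ((pbAdj f).unit.app E) h x).symm

lemma unitSec_smul {V : Y.Opens} (r : Γ(Y, V)) (x : Γ(E, V)) :
    unitSec f E (r • x) = f.app V r • unitSec f E x :=
  Scheme.Modules.Hom.app_smul ((pbAdj f).unit.app E) r x

lemma unitSec_sum {V : Y.Opens} {ι : Type*} (s : Finset ι) (x : ι → Γ(E, V)) :
    unitSec f E (∑ i ∈ s, x i) = ∑ i ∈ s, unitSec f E (x i) :=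
  map_sum (((pbAdj f).unit.app E).app V).hom x s

attribute [local irreducible] mulHom pullFormHom

lemma sum_pullFormHom_mulHom (b : DBasis E U n) :
    ∑ i, pullFormHom f (b.f i) ≫ mulHom (unitSec f E (b.e i)) =
      (Scheme.Modules.restrictAdjunction (f ⁻¹ᵁ U).ι).unit.app ((pb f).obj E) := by
  let j := (f ⁻¹ᵁ U).ι
  let T : X.Modules := (Scheme.Modules.pushforward j).obj (((pb f).obj E).restrict j)
  apply ((pbAdj f).homEquiv E T).injective
  ext V x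
  rw [Adjunction.homEquiv_unit, Adjunction.homEquiv_unit]
  change (∑ i, pullFormHom f (b.f i) ≫ mulHom (unitSec f E (b.e i))).app (f ⁻¹ᵁ V)
      (unitSec f E x) = rs ((pb f).obj E) (j.image_preimage_le (f ⁻¹ᵁ V)) (unitSec f E x)
  refine (map_sum (AddMonoidHom.mk' (fun ψ : (pb f).obj E ⟶ T =>
      ψ.app (f ⁻¹ᵁ V) (unitSec f E x)) fun a c => rfl) _ Finset.univ).trans ?_
  have hl : j ''ᵁ (j ⁻¹ᵁ (f ⁻¹ᵁ V)) ≤ f ⁻¹ᵁ (U ⊓ V) := fun z hz =>
    ⟨(f ⁻¹ᵁ U).ι_image_le _ hz, j.image_preimage_le _ hz⟩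
  have h1 : rs ((pb f).obj E) (j.image_preimage_le (f ⁻¹ᵁ V)) (unitSec f E x) =
      rs ((pb f).obj E) hl (unitSec f E (rs E inf_le_right x)) := by
    rw [← unitSec_rs f (inf_le_right : U ⊓ V ≤ V) x]
    exact (rs_rs _ _ _ _).symm
  rw [h1, ← b.sum_eq (U ⊓ V) inf_le_left (rs E inf_le_right x), unitSec_sum, rs_sum]
  refine Finset.sum_congr rfl fun i _ => ?_
  change (mulHom (unitSec f E (b.e i))).app (f ⁻¹ᵁ V)
    ((pullFormHom f (b.f i)).app (f ⁻¹ᵁ V) (unitSec f E x)) = _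
  rw [pullFormHom, (exists_pullForm f (b.f i)).choose_spec V x hl]
  have hm := mulHom_app (unitSec f E (b.e i)) (f ⁻¹ᵁ V)
    (rf hl (f.app (U ⊓ V) ((b.f i).app inf_le_left (rs E inf_le_right x))))
  refine hm.trans ?_
  rw [unitSec_smul, rs_smul, ← unitSec_rs f (inf_le_left : U ⊓ V ≤ U), rs_rs]

/-- The pullback of a dual basis. -/
noncomputable def pullDBasis (b : DBasis E U n) : DBasis ((pb f).obj E) (f ⁻¹ᵁ U) n where
  e i := unitSec f E (b.e i)
  f i := pullForm f (b.f i)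
  sum_eq W hW y := by
    let E' := (pb f).obj E
    let T : X.Modules :=
      (Scheme.Modules.pushforward (f ⁻¹ᵁ U).ι).obj (E'.restrict (f ⁻¹ᵁ U).ι)
    have h2 := congrArg (fun ψ : E' ⟶ T => ψ.app W y) (sum_pullFormHom_mulHom f b)
    replace h2 := ((map_sum (AddMonoidHom.mk' (fun ψ : E' ⟶ T => ψ.app W y)
        fun a c => rfl) _ Finset.univ).symm).trans h2
    have h3 := congrArg (rs E' (le_image f W hW)) h2
    replace h3 := (rs_sum E' Finset.univ (le_image f W hW) _).symm.trans h3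
    have hu : ((Scheme.Modules.restrictAdjunction (f ⁻¹ᵁ U).ι).unit.app E').app W y =
        rs E' ((f ⁻¹ᵁ U).ι.image_preimage_le W) y :=
      ConcreteCategory.congr_hom
        (Scheme.Modules.restrictAdjunction_unit_app_app (f ⁻¹ᵁ U).ι E' W) y
    have h4 := h3.trans (congrArg (rs E' (le_image f W hW)) hu)
    rw [rs_rs, rs_self] at h4
    refine Eq.trans ?_ h4
    refine Finset.sum_congr rfl fun i _ => ?_
    refine Eq.trans ?_ (congrArg (rs E' (le_image f W hW))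
      (mulHom_app (unitSec f E (b.e i)) W ((pullFormHom f (b.f i)).app W y))).symm
    rw [rs_smul, rs_rs]
    rfl

lemma hasDBases_pullback (hE : HasDBases E) : HasDBases ((pb f).obj E) := fun x => by
  obtain ⟨U, n, hx, ⟨b⟩⟩ := hE (f x)
  exact ⟨f ⁻¹ᵁ U, n, hx, ⟨pullDBasis f b⟩⟩

variable (E)

/-- The projection morphism. -/
noncomputable def theta (F : X.Modules) :
    CohB1.tensorMod E ((pf f).obj F) ⟶ (pf f).obj (CohB1.tensorMod ((pb f).obj E) F) :=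
  tmap ((pbAdj f).unit.app E) (𝟙 _) ≫ mu f ((pb f).obj E) F

variable {E}

lemma theta_tens (F : X.Modules) (x : Γ(E, V)) (m : Γ((pf f).obj F, V)) :
    (theta f E F).app V (tens x m) = tens (U := f ⁻¹ᵁ V) (unitSec f E x) (show Γ(F, f ⁻¹ᵁ V) from m) := by
  rw [app_tens, theta, Free.pairM_tmap_comp]
  exact pairM_mu f (A := (pb f).obj E) (B := F) (unitSec f E x) m

lemma theta_natural {F F' : X.Modules} (a : F ⟶ F') :
    (tensorL E).map ((pf f).map a) ≫ theta f E F' =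
      theta f E F ≫ (pf f).map ((tensorL ((pb f).obj E)).map a) := by
  refine Free.hom_ext_pairM fun V x m => ?_
  rw [← app_tens, ← app_tens]
  change (theta f E F').app V ((tmap (𝟙 E) ((pf f).map a)).app V (tens x m)) =
    ((pf f).map (tmap (𝟙 ((pb f).obj E)) a)).app V ((theta f E F).app V (tens x m))
  rw [tmap_tens, theta_tens, theta_tens]
  exact (tmap_tens (𝟙 ((pb f).obj E)) a (U := f ⁻¹ᵁ V) (unitSec f E x)
    (show Γ(F, f ⁻¹ᵁ V) from m)).symm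

lemma contr_theta (b : DBasis E U n) (F : X.Modules) (i : Fin n) (h : V ≤ U)
    (u : Γ(CohB1.tensorMod E ((pf f).obj F), V)) :
    contr ((pullDBasis f b).f i) F (fun _ hz => h hz : f ⁻¹ᵁ V ≤ f ⁻¹ᵁ U)
        ((theta f E F).app V u) =
      (show Γ(F, f ⁻¹ᵁ V) from contr (b.f i) ((pf f).obj F) h u) := by
  refine TensorSec.induction_on (U := U) (P := fun V h u =>
    contr ((pullDBasis f b).f i) F (fun _ hz => h hz : f ⁻¹ᵁ V ≤ f ⁻¹ᵁ U)
        ((theta f E F).app V u) =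
      (show Γ(F, f ⁻¹ᵁ V) from contr (b.f i) ((pf f).obj F) h u)) ?_ ?_ ?_ ?_ V h u
  · intro V hV w hw
    refine section_ext ((pf f).obj F) (U := V) _ _ fun x hx => ?_
    obtain ⟨W, hW, hxW, e⟩ := hw x hx
    refine ⟨W, hW, hxW, ?_⟩
    change rs F (fun _ hz => hW hz : f ⁻¹ᵁ W ≤ f ⁻¹ᵁ V) _ =
      rs ((pf f).obj F) hW (contr (b.f i) ((pf f).obj F) hV w)
    rw [rs_contr, rs_contr]
    refine Eq.trans ?_ e
    rw [app_rs]
    rfl
  · intro V hV
    simp only [map_zero]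
    exact map_zero _
  · intro V hV a c ha hc
    simp only [map_add]
    refine (map_add (contr ((pullDBasis f b).f i) F _) _ _).trans ?_
    exact congrArg₂ (· + ·) ha hc
  · intro V hV x m
    rw [theta_tens, contr_tens, contr_tens]
    refine (congrArg (· • _) (pullForm_unitSec f (b.f i) hV x)).trans ?_
    rfl

lemma isIso_theta (hE : HasDBases E) (F : X.Modules) : IsIso (theta f E F) := by
  choose U n hU b using hE
  refine Local.isIso_of_restrict U (eq_top_iff.mpr fun x _ => Opens.mem_iSup.mpr ⟨x, hU x⟩) _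
    fun x => ?_
  rw [Stalk.isIso_iff_app_bijective]
  intro W
  let V := (U x).ι ''ᵁ W
  have hV : V ≤ U x := (U x).ι_image_le W
  have hV' : f ⁻¹ᵁ V ≤ f ⁻¹ᵁ (U x) := fun _ hz => hV hz
  let b₀ := (b x).some
  change Function.Bijective ((theta f E F).app V)
  constructor
  · intro u u' huu
    rw [← sum_contr b₀ V hV u, ← sum_contr b₀ V hV u']
    refine Finset.sum_congr rfl fun i _ => congrArg _ ?_
    exact (contr_theta f b₀ F i hV u).symm.trans
      ((congrArg (contr ((pullDBasis f b₀).f i) F hV') huu).trans (contr_theta f b₀ F i hV u'))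
  · intro w
    refine ⟨∑ i, tens (rs E hV (b₀.e i))
      (show Γ((pf f).obj F, V) from contr ((pullDBasis f b₀).f i) F hV' w), ?_⟩
    rw [map_sum]
    refine Eq.trans ?_ (sum_contr (pullDBasis f b₀) (f ⁻¹ᵁ V) hV' w)
    refine Finset.sum_congr rfl fun i _ => ?_
    refine (theta_tens f F _ _).trans ?_
    rw [← unitSec_rs]
    rfl

/-- The projection isomorphism, natural in `F`. -/
noncomputable def projIso (hE : HasDBases E) :
    pf f ⋙ tensorL E ≅ tensorL ((pb f).obj E) ⋙ pf f :=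
  NatIso.ofComponents (fun F => @asIso _ _ _ _ (theta f E F) (isIso_theta f hE F))
    fun a => theta_natural f a

/-- `E ⊗ R^q f_* F ≅ R^q f_* (f^* E ⊗ F)`. -/
noncomputable def higherProjIso [HasInjectiveResolutions X.Modules] (hE : HasDBases E)
    (F : X.Modules) (q : ℕ) :
    CohB1.tensorMod E (((pf f).rightDerived q).obj F) ≅
      ((pf f).rightDerived q).obj (CohB1.tensorMod ((pb f).obj E) F) :=
  haveI := DualAdj.tensorL_preservesHomology hE
  haveI := DualAdj.tensorL_preservesHomology (hasDBases_pullback f hE)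
  haveI := DualAdj.tensorL_preservesInjective (hasDBases_pullback f hE)
  DerivedComm.rightDerivedCommIso (pf f) (tensorL ((pb f).obj E)) (tensorL E)
    (projIso f hE) F q

end Groth.Agent.Lib.Modules.ProjFormula
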