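import Mathlib.LinearAlgebra.Basis.Basic
import Mathlib.RingTheory.LocalRing.Module
import Groth.Agent.Lib.Modules.Free
import Groth.Agent.Lib.Modules.StalkRestrict

/-!
# Stalks of finite free modules are free; direct summands of finite free modules are locally free
-/

universe u

open CategoryTheory Limits AlgebraicGeometry Opposite TopologicalSpace

namespace Groth.Agent.Lib.Modules.FreeStalk

open Groth.Agent.Lib.Modules Groth.Agent.Lib.Modules.Free

variable {X Y : Scheme.{u}} {n : ℕ}

/-- The germs of sections of the structure module, read in the local ring. -/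
noncomputable def unitStalkToRing (x : X) :
    (Coh.structureModule X).presheaf.stalk x ⟶ AddCommGrpCat.of (X.presheaf.stalk x) :=
  colimit.desc _
    { pt := AddCommGrpCat.of (X.presheaf.stalk x)
      ι :=
        { app := fun V => AddCommGrpCat.ofHom
            (X.presheaf.germ V.unop.1 x V.unop.2).hom.toAddMonoidHom
          naturality := fun V W g => by
            ext s
            exact TopCat.Presheaf.germ_res_apply X.presheaf ((OpenNhds.inclusion x).map g.unop) x
              W.unop.2 s } }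

lemma unitStalkToRing_germ {U : X.Opens} {x : X} (hx : x ∈ U) (r : Γ(X, U)) :
    unitStalkToRing x ((Coh.structureModule X).presheaf.germ U x hx r) =
      X.presheaf.germ U x hx r :=
  ConcreteCategory.congr_hom
    (colimit.ι_desc (F := (OpenNhds.inclusion x).op ⋙ (Coh.structureModule X).presheaf)
      (c := _) (op (⟨U, hx⟩ : OpenNhds x))) r

lemma unitStalkToRing_smul (x : X) (a : X.presheaf.stalk x)
    (v : (Coh.structureModule X).presheaf.stalk x) :
    unitStalkToRing x (a • v) = a * (show X.presheaf.stalk x from unitStalkToRing x v) := by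
  obtain ⟨U, hx, r, m, rfl, rfl⟩ := StalkModule.exists_germ_eq₂ a v
  rw [← StalkModule.germ_smul, unitStalkToRing_germ, unitStalkToRing_germ]
  exact map_mul (X.presheaf.germ U x hx).hom _ _

/-- The coordinate maps on the stalk of a finite free module. -/
noncomputable def coord (x : X) (j : Fin n) :
    (FlatMod.freeMod X n).presheaf.stalk x →ₗ[X.presheaf.stalk x] X.presheaf.stalk x where
  toFun v := unitStalkToRing x (StalkModule.stalkMapₗ
    (freeHom (M := Coh.structureModule X)
      (fun i => ((if i = j then 1 else 0 : Γ(X, ⊤)) :))) x v)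
  map_add' a b := by
    simp only [map_add]
  map_smul' a v := by
    simp only [map_smul]
    exact unitStalkToRing_smul x a _

lemma coord_germ_gen (x : X) (i j : Fin n) :
    coord x j ((FlatMod.freeMod X n).presheaf.germ ⊤ x trivial (gen X i)) =
      if i = j then 1 else 0 := by
  change unitStalkToRing x (StalkModule.stalkMapₗ _ x _) = _
  rw [freeHom_stalk_germ, unitStalkToRing_germ]
  split
  · exact map_one (X.presheaf.germ ⊤ x trivial).hom
  · exact map_zero (X.presheaf.germ ⊤ x trivial).hom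

lemma linearIndependent_germ_gen (x : X) :
    LinearIndependent (X.presheaf.stalk x) fun i : Fin n =>
      (FlatMod.freeMod X n).presheaf.germ ⊤ x trivial (gen X i) := by
  classical
  rw [Fintype.linearIndependent_iff]
  intro g hg j
  simpa [map_sum, coord_germ_gen, eq_comm] using congrArg (coord x j) hg

/-- The stalk of a finite free module has the germs of the standard sections as a basis. -/
noncomputable def stalkBasis (X : Scheme.{u}) (n : ℕ) (x : X) :
    Module.Basis (Fin n) (X.presheaf.stalk x) ((FlatMod.freeMod X n).presheaf.stalk x) :=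
  Module.Basis.mk (linearIndependent_germ_gen x) (span_germ_gen x).ge

@[simp]
lemma stalkBasis_apply (x : X) (i : Fin n) :
    stalkBasis X n x i = (FlatMod.freeMod X n).presheaf.germ ⊤ x trivial (gen X i) := by
  simp [stalkBasis]

/-- A family of germs transported to the restriction. -/
lemma germ_restrict (f : X ⟶ Y) [IsOpenImmersion f] (M : Y.Modules) {U : Y.Opens} {x : X}
    (hU : f ''ᵁ ⊤ ≤ U) (s : Γ(M, U)) :
    StalkRestrict.restrictStalkAddEquiv f M x ((M.restrict f).presheaf.germ ⊤ x trivial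
      (M.presheaf.map (homOfLE hU).op s : Γ(M.restrict f, ⊤))) =
      M.presheaf.germ U (f x) (hU ⟨x, trivial, rfl⟩) s :=
  (StalkRestrict.restrictStalkAddEquiv_germ f M (U := ⊤) trivial
    (M.presheaf.map (homOfLE hU).op s)).trans (TopCat.Presheaf.germ_res_apply _ _ _ _ _)

variable {M N : Y.Modules}

/-- Two morphisms out of a finite free module which agree on a stalk agree near the point. -/
lemma exists_restrict_map_eq (φ ψ : FlatMod.freeMod Y n ⟶ M) (y : Y)
    (h : StalkModule.stalkMapₗ φ y = StalkModule.stalkMapₗ ψ y) :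
    ∃ W : Y.Opens, y ∈ W ∧ ∀ {X : Scheme.{u}} (f : X ⟶ Y) [IsOpenImmersion f], f ''ᵁ ⊤ ≤ W →
      (Scheme.Modules.restrictFunctor f).map φ = (Scheme.Modules.restrictFunctor f).map ψ := by
  have hg : ∀ i, M.presheaf.germ ⊤ y trivial (φ.app ⊤ (gen Y i)) =
      M.presheaf.germ ⊤ y trivial (ψ.app ⊤ (gen Y i)) := fun i => by
    rw [← StalkModule.stalkMapₗ_germ, ← StalkModule.stalkMapₗ_germ, h]
  choose W hW iW jW hWeq using fun i => TopCat.Presheaf.germ_eq (U := (⊤ : Y.Opens))
    (V := (⊤ : Y.Opens)) M.presheaf y trivial trivial _ _ (hg i)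
  refine ⟨Finset.univ.inf W, ?_, fun {X} f _ hf => ?_⟩
  · rw [← SetLike.mem_coe, Opens.coe_finset_inf, Finset.inf_set_eq_iInter]
    simp only [Set.mem_iInter]
    exact fun i _ => hW i
  rw [← cancel_epi (restrictFreeIso f n).inv]
  refine freeHom_ext fun i => ?_
  rw [Scheme.Modules.Hom.comp_app, Scheme.Modules.Hom.comp_app, CategoryTheory.comp_apply,
    CategoryTheory.comp_apply, restrictFreeIso_inv_gen]
  have hle : f ''ᵁ ⊤ ≤ W i := hf.trans (Finset.inf_le (Finset.mem_univ i))
  have nat : ∀ χ : FlatMod.freeMod Y n ⟶ M, χ.app (f ''ᵁ ⊤)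
      ((FlatMod.freeMod Y n).presheaf.map (homOfLE (le_top (a := f ''ᵁ ⊤))).op (gen Y i)) =
      M.presheaf.map (homOfLE hle).op
        (M.presheaf.map (homOfLE (le_top (a := W i))).op (χ.app ⊤ (gen Y i))) := fun χ => by
    rw [← CategoryTheory.comp_apply (M.presheaf.map _), ← Functor.map_comp]
    exact ConcreteCategory.congr_hom
      (χ.mapPresheaf.naturality (homOfLE (le_top (a := f ''ᵁ ⊤))).op) (gen Y i)
  refine (nat φ).trans (Eq.trans ?_ (nat ψ).symm)
  rw [show (homOfLE (le_top (a := W i))).op = (iW i).op from Subsingleton.elim _ _]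
  conv_rhs => rw [show (iW i).op = (jW i).op from Subsingleton.elim _ _]
  rw [hWeq i]

/-- A morphism out of a finite free module lifts near a point along a morphism surjective on the
stalk at that point. -/
lemma exists_lift_at (p : N ⟶ M) (φ : FlatMod.freeMod Y n ⟶ M) (y : Y)
    (hp : Function.Surjective (StalkModule.stalkMapₗ p y)) :
    ∃ W : Y.Opens, y ∈ W ∧ ∀ {X : Scheme.{u}} (f : X ⟶ Y) [IsOpenImmersion f],
      f ''ᵁ ⊤ ≤ W → ∃ ψ : (FlatMod.freeMod Y n).restrict f ⟶ N.restrict f,
        ψ ≫ (Scheme.Modules.restrictFunctor f).map p =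
          (Scheme.Modules.restrictFunctor f).map φ := by
  choose v hv using fun i => hp (M.presheaf.germ ⊤ y trivial (φ.app ⊤ (gen Y i)))
  choose U hU g hg using fun i => TopCat.Presheaf.exists_germ_eq N.presheaf (v i)
  choose W hW iW jW hWeq using fun i => TopCat.Presheaf.germ_eq (V := (⊤ : Y.Opens)) M.presheaf y
    (hU i) trivial (p.app (U i) (g i)) (φ.app ⊤ (gen Y i))
    ((StalkModule.stalkMapₗ_germ p (hU i) (g i)).symm.trans
      ((congrArg (StalkModule.stalkMapₗ p y) (hg i)).trans (hv i)))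
  refine ⟨Finset.univ.inf W, ?_, fun {X} f _ hf => ?_⟩
  · rw [← SetLike.mem_coe, Opens.coe_finset_inf, Finset.inf_set_eq_iInter]
    simp only [Set.mem_iInter]
    exact fun i _ => hW i
  have hle : ∀ i, f ''ᵁ ⊤ ≤ W i := fun i => hf.trans (Finset.inf_le (Finset.mem_univ i))
  let gs : Fin n → Γ(N.restrict f, ⊤) := fun i =>
    N.presheaf.map (homOfLE ((hle i).trans (leOfHom (iW i)))).op (g i)
  refine ⟨(restrictFreeIso f n).hom ≫ freeHom gs, ?_⟩
  rw [Category.assoc, ← Iso.eq_inv_comp]
  refine freeHom_ext fun i => ?_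
  rw [freeHom_comp, freeHom_app_gen, Scheme.Modules.Hom.comp_app, CategoryTheory.comp_apply,
    restrictFreeIso_inv_gen]
  refine (ConcreteCategory.congr_hom (p.mapPresheaf.naturality
    (homOfLE ((hle i).trans (leOfHom (iW i)))).op) (g i)).trans (Eq.trans ?_
    (ConcreteCategory.congr_hom (φ.mapPresheaf.naturality
      (homOfLE (le_top (a := f ''ᵁ ⊤))).op) (gen Y i)).symm)
  simp only [CategoryTheory.comp_apply, Scheme.Modules.mapPresheaf_app]
  have e1 : (homOfLE ((hle i).trans (leOfHom (iW i)))).op =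
      (iW i).op ≫ (homOfLE (hle i)).op := Subsingleton.elim _ _
  have e2 : (homOfLE (le_top (a := f ''ᵁ ⊤))).op = (jW i).op ≫ (homOfLE (hle i)).op :=
    Subsingleton.elim _ _
  rw [e1, e2, Functor.map_comp, Functor.map_comp, CategoryTheory.comp_apply,
    CategoryTheory.comp_apply, hWeq i]

/-- A retract of a finite free module having global sections whose germs at `y` form a basis of the
stalk is free near `y`. -/
lemma exists_iso_free {d : ℕ} (i : M ⟶ FlatMod.freeMod Y n) (r : FlatMod.freeMod Y n ⟶ M)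
    (hir : i ≫ r = 𝟙 M) (s : Fin d → Γ(M, ⊤)) (y : Y)
    (hs : Function.Bijective (StalkModule.stalkMapₗ (freeHom s) y)) :
    ∃ W : Y.Opens, y ∈ W ∧ ∀ {X : Scheme.{u}} (f : X ⟶ Y) [IsOpenImmersion f],
      f ''ᵁ ⊤ ≤ W → Nonempty (M.restrict f ≅ FlatMod.freeMod X d) := by
  obtain ⟨W₁, hy₁, hW₁⟩ := exists_lift_at (freeHom s) r y hs.surjective
  obtain ⟨t, ht⟩ := hW₁ W₁.ι (W₁.ι_image_le ⊤)
  let F := Scheme.Modules.restrictFunctor W₁.ι
  let χ : F.obj M ⟶ F.obj (FlatMod.freeMod Y d) := F.map i ≫ t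
  have h1 : χ ≫ F.map (freeHom s) = 𝟙 _ := by
    rw [Category.assoc, ht, ← Functor.map_comp, hir, CategoryTheory.Functor.map_id]
  let e := restrictFreeIso W₁.ι d
  let y₁ : (W₁ : Scheme.{u}) := ⟨y, hy₁⟩
  have hinj : Function.Injective (StalkModule.stalkMapₗ (F.map (freeHom s)) y₁) := by
    intro a b hab
    have nat : ∀ c, (Local.restrictStalkIso W₁.ι y₁).hom.app M
        (StalkModule.stalkMapₗ (F.map (freeHom s)) y₁ c) =
        StalkModule.stalkMapₗ (freeHom s) y
          ((Local.restrictStalkIso W₁.ι y₁).hom.app (FlatMod.freeMod Y d) c) := fun c =>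
      ConcreteCategory.congr_hom ((Local.restrictStalkIso W₁.ι y₁).hom.naturality (freeHom s)) c
    have h := hs.injective ((nat a).symm.trans ((congrArg _ hab).trans (nat b)))
    exact (ConcreteCategory.bijective_of_isIso
      ((Local.restrictStalkIso W₁.ι y₁).hom.app (FlatMod.freeMod Y d))).injective h
  have h2 : StalkModule.stalkMapₗ (e.inv ≫ (F.map (freeHom s) ≫ χ)) y₁ =
      StalkModule.stalkMapₗ e.inv y₁ := by
    refine LinearMap.ext fun c => hinj ?_
    rw [← LinearMap.comp_apply, ← LinearMap.comp_apply, ← StalkModule.stalkMapₗ_comp,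
      ← StalkModule.stalkMapₗ_comp, Category.assoc, Category.assoc, h1, Category.comp_id]
  obtain ⟨W₂, hy₂, hW₂⟩ := exists_restrict_map_eq _ _ y₁ h2
  refine ⟨W₁.ι ''ᵁ W₂, ⟨y₁, hy₂, rfl⟩, fun {X} f _ hf => ?_⟩
  have hle : f ''ᵁ ⊤ ≤ W₁ := hf.trans (W₁.ι_image_le _)
  have hrange : Set.range f ⊆ Set.range W₁.ι := by
    rintro _ ⟨z, rfl⟩
    rw [Scheme.Opens.range_ι]
    exact hle ⟨z, trivial, rfl⟩
  let g : X ⟶ W₁ := IsOpenImmersion.lift W₁.ι f hrange
  have hg : g ≫ W₁.ι = f := IsOpenImmersion.lift_fac _ _ _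
  haveI : IsOpenImmersion g := by
    haveI : IsOpenImmersion (g ≫ W₁.ι) := hg ▸ inferInstance
    exact IsOpenImmersion.of_comp g W₁.ι
  have hg₂ : g ''ᵁ ⊤ ≤ W₂ := by
    rintro _ ⟨z, -, rfl⟩
    obtain ⟨w, hw, hwz⟩ := hf ⟨z, trivial, rfl⟩
    have hwz' : W₁.ι w = W₁.ι (g z) := by
      exact hwz.trans
        ((congrArg (fun q : X ⟶ Y => q z) hg).symm.trans (Scheme.Hom.comp_apply _ _ _))
    exact (W₁.ι.isOpenEmbedding.injective hwz') ▸ hw
  let G := Scheme.Modules.restrictFunctor g
  have h2' : G.map (F.map (freeHom s) ≫ χ) = 𝟙 _ := by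
    rw [← cancel_epi (G.map e.inv), Category.comp_id, ← Functor.map_comp]
    exact hW₂ g hg₂
  let φ : G.obj (F.obj M) ≅ G.obj (F.obj (FlatMod.freeMod Y d)) :=
    { hom := G.map χ
      inv := G.map (F.map (freeHom s))
      hom_inv_id := by rw [← Functor.map_comp, h1, CategoryTheory.Functor.map_id]
      inv_hom_id := by rw [← Functor.map_comp, h2'] }
  exact ⟨(Scheme.Modules.restrictFunctorCongr hg.symm).app M ≪≫
    (Scheme.Modules.restrictFunctorComp g W₁.ι).app M ≪≫ φ ≪≫ G.mapIso e ≪≫
      restrictFreeIso g d⟩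

/-- A retract of a finite free module is finite locally free. -/
lemma isFinLocFree_of_retract (i : M ⟶ FlatMod.freeMod Y n) (r : FlatMod.freeMod Y n ⟶ M)
    (hir : i ≫ r = 𝟙 M) : FlatMod.IsFinLocFree M := by
  intro y
  have hri : (StalkModule.stalkMapₗ r y).comp (StalkModule.stalkMapₗ i y) = LinearMap.id := by
    rw [← StalkModule.stalkMapₗ_comp, hir, StalkModule.stalkMapₗ_id]
  haveI := Module.Free.of_basis (stalkBasis Y n y)
  haveI := Module.Finite.of_basis (stalkBasis Y n y)
  haveI : Module.Finite (Y.presheaf.stalk y) (M.presheaf.stalk y) :=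
    Module.Finite.of_surjective (StalkModule.stalkMapₗ r y)
      fun v => ⟨StalkModule.stalkMapₗ i y v, LinearMap.congr_fun hri v⟩
  haveI : Module.Projective (Y.presheaf.stalk y) (M.presheaf.stalk y) :=
    Module.Projective.of_split (StalkModule.stalkMapₗ i y) (StalkModule.stalkMapₗ r y) hri
  haveI : Module.Free (Y.presheaf.stalk y) (M.presheaf.stalk y) :=
    Module.free_of_flat_of_isLocalRing
  let b := Module.Free.chooseBasis (Y.presheaf.stalk y) (M.presheaf.stalk y)
  let bd := b.reindex (Fintype.equivFin _)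
  choose U hU s hs using fun j => TopCat.Presheaf.exists_germ_eq M.presheaf (bd j)
  let U₀ : Y.Opens := Finset.univ.inf U
  have hy₀ : y ∈ U₀ := by
    rw [← SetLike.mem_coe, Opens.coe_finset_inf, Finset.inf_set_eq_iInter]
    simp only [Set.mem_iInter]
    exact fun j _ => hU j
  let y₀ : (U₀ : Scheme.{u}) := ⟨y, hy₀⟩
  have hle : ∀ j, U₀.ι ''ᵁ ⊤ ≤ U j := fun j =>
    (U₀.ι_image_le ⊤).trans (Finset.inf_le (Finset.mem_univ j))
  let s₀ : Fin _ → Γ(M.restrict U₀.ι, ⊤) := fun j => M.presheaf.map (homOfLE (hle j)).op (s j)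
  let ε := StalkRestrict.restrictStalkAddEquiv U₀.ι M y₀
  let v := fun j => (M.restrict U₀.ι).presheaf.germ ⊤ y₀ trivial (s₀ j)
  have hεv : ∀ j, ε (v j) = bd j := fun j =>
    (germ_restrict U₀.ι M (hle j) (s j)).trans (hs j)
  have hbij : Function.Bijective (StalkModule.stalkMapₗ (freeHom s₀) y₀) := by
    have hfun : ∀ j, StalkModule.stalkMapₗ (freeHom s₀) y₀ (stalkBasis _ _ y₀ j) = v j :=
      fun j => by rw [stalkBasis_apply, freeHom_stalk_germ]
    refine ⟨?_, ?_⟩
    · rw [← LinearMap.ker_eq_bot, LinearMap.ker_eq_bot']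
      intro w hw
      have hz : ∑ j, (stalkBasis _ _ y₀).repr w j • v j = 0 := by
        refine Eq.trans ?_ hw
        conv_rhs => rw [← (stalkBasis _ _ y₀).sum_repr w, map_sum]
        simp only [map_smul, hfun]
      have hsur : Function.Surjective (U₀.ι.stalkMap y₀) :=
        (ConcreteCategory.bijective_of_isIso (U₀.ι.stalkMap y₀)).surjective
      choose c hc using fun j => hsur ((stalkBasis _ _ y₀).repr w j)
      have hz' : ∑ j, (show Y.presheaf.stalk y from c j) • bd j = 0 := by
        have := congrArg ε hz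
        rw [map_zero, map_sum] at this
        refine Eq.trans (Finset.sum_congr rfl fun j _ => ?_) this
        rw [← hεv j, ← hc j]
        exact (StalkRestrict.restrictStalkAddEquiv_smul U₀.ι M y₀ (c j) (v j)).symm
      have hc0 := Fintype.linearIndependent_iff.mp bd.linearIndependent _ hz'
      rw [← (stalkBasis _ _ y₀).sum_repr w]
      refine Finset.sum_eq_zero fun j _ => ?_
      rw [← hc j, show c j = 0 from hc0 j]
      exact (congrArg (· • _) (map_zero (U₀.ι.stalkMap y₀).hom)).trans (zero_smul _ _)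
    · rw [← LinearMap.range_eq_top, eq_top_iff]
      have hspan : Submodule.span ((U₀ : Scheme.{u}).presheaf.stalk y₀) (Set.range v) = ⊤ := by
        refine eq_top_iff.mpr fun w _ => ?_
        have hεw : ε w ∈ ε '' (Submodule.span ((U₀ : Scheme.{u}).presheaf.stalk y₀) (Set.range v) : Set _) := by
          rw [← StalkRestrict.span_image_restrictStalkAddEquiv, ← Set.range_comp]
          have : Set.range (⇑ε ∘ v) = Set.range bd := congrArg Set.range (funext hεv)
          change ε w ∈ Submodule.span _ (Set.range (⇑ε ∘ v))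
          rw [this]
          exact bd.span_eq.ge trivial
        exact ε.injective.mem_set_image.mp hεw
      rw [← hspan, Submodule.span_le]
      rintro _ ⟨j, rfl⟩
      exact ⟨_, hfun j⟩
  let F := Scheme.Modules.restrictFunctor U₀.ι
  obtain ⟨W, hW, hiso⟩ := exists_iso_free
    (F.map i ≫ (restrictFreeIso U₀.ι n).hom) ((restrictFreeIso U₀.ι n).inv ≫ F.map r)
    (by rw [Category.assoc, Iso.hom_inv_id_assoc, ← Functor.map_comp, hir,
      CategoryTheory.Functor.map_id]) s₀ y₀ hbij
  have hle' : U₀.ι ''ᵁ W ≤ U₀ := U₀.ι_image_le W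
  obtain ⟨α⟩ := hiso (Y.homOfLE hle') (by
    rintro _ ⟨z, -, rfl⟩
    obtain ⟨w, hw, hwz⟩ := z.2
    have hz : U₀.ι (Y.homOfLE hle' z) = U₀.ι w :=
      ((Scheme.Hom.comp_apply _ _ _).symm.trans (by rw [Y.homOfLE_ι]; rfl)).trans hwz.symm
    have := U₀.ι.isOpenEmbedding.injective hz
    exact this ▸ hw)
  exact ⟨U₀.ι ''ᵁ W, _, ⟨y₀, hW, rfl⟩,
    ⟨(Scheme.Modules.restrictFunctorCongr (Y.homOfLE_ι hle').symm).app M ≪≫
      (Scheme.Modules.restrictFunctorComp (Y.homOfLE hle') U₀.ι).app M ≪≫ α⟩⟩

end Groth.Agent.Lib.Modules.FreeStalk
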