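import Groth.Agent.Lib.TensorMod.Pullback
import Groth.Agent.Lib.TensorMod.Dual

/-!
# Sections of tensor products are locally sums of pure tensors
-/

universe u

open CategoryTheory Limits AlgebraicGeometry Opposite MonoidalCategory TopologicalSpace

namespace Groth.Agent.Lib.Modules.TensorSec

open Groth.Agent.Lib.TensorMod
open Groth.Agent.Lib.TensorMod.Basic (sh fgt adj tmap)
open Groth.Agent.Lib.TensorMod.Free (pairM)
open Groth.Agent.Lib.TensorMod.Dual (rs rf)

variable {X : Scheme.{u}}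

lemma app_rs {M N : X.Modules} (φ : M ⟶ N) {U V : X.Opens} (h : V ≤ U) (x : Γ(M, U)) :
    φ.app V (rs M h x) = rs N h (φ.app U x) :=
  ConcreteCategory.congr_hom (φ.mapPresheaf.naturality (homOfLE h).op) x

lemma rs_zero (M : X.Modules) {U V : X.Opens} (h : V ≤ U) : rs M h (0 : Γ(M, U)) = 0 :=
  map_zero _

lemma rs_add (M : X.Modules) {U V : X.Opens} (h : V ≤ U) (x y : Γ(M, U)) :
    rs M h (x + y) = rs M h x + rs M h y :=
  map_add _ _ _

lemma rs_sum (M : X.Modules) {ι : Type*} (s : Finset ι) {U V : X.Opens} (h : V ≤ U)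
    (x : ι → Γ(M, U)) : rs M h (∑ i ∈ s, x i) = ∑ i ∈ s, rs M h (x i) :=
  map_sum _ _ _

/-- Two sections are equal if they agree locally. -/
lemma section_ext (M : X.Modules) {U : X.Opens} (s t : Γ(M, U))
    (h : ∀ x ∈ U, ∃ (W : X.Opens) (hW : W ≤ U), x ∈ W ∧ rs M hW s = rs M hW t) : s = t := by
  refine TopCat.Presheaf.section_ext (⟨M.presheaf, M.isSheaf⟩ : TopCat.Sheaf AddCommGrpCat.{u} X)
    U _ _ fun x hx => ?_
  obtain ⟨W, hW, hxW, e⟩ := h x hx
  change M.presheaf.germ U x hx s = M.presheaf.germ U x hx t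
  rw [← TopCat.Presheaf.germ_res_apply M.presheaf (homOfLE hW) x hxW s,
    ← TopCat.Presheaf.germ_res_apply M.presheaf (homOfLE hW) x hxW t]
  exact congrArg (M.presheaf.germ W x hxW) e

/-- The pure tensor of two sections. -/
noncomputable def tens {M N : X.Modules} {U : X.Opens} (m : Γ(M, U)) (n : Γ(N, U)) :
    Γ(CohB1.tensorMod M N, U) :=
  pairM (𝟙 _) m n

variable {M M' N N' H : X.Modules} {U V : X.Opens}

lemma app_tens (g : CohB1.tensorMod M N ⟶ H) (m : Γ(M, U)) (n : Γ(N, U)) :
    g.app U (tens m n) = pairM g m n := by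
  rw [tens, ← Free.pairM_comp, Category.id_comp]

lemma tens_add_left (m m' : Γ(M, U)) (n : Γ(N, U)) : tens (m + m') n = tens m n + tens m' n :=
  Pullback.pairM_add_left _ m m' n

lemma tens_add_right (m : Γ(M, U)) (n n' : Γ(N, U)) : tens m (n + n') = tens m n + tens m n' :=
  Pullback.pairM_add_right _ m n n'

lemma tens_smul_left (r : Γ(X, U)) (m : Γ(M, U)) (n : Γ(N, U)) :
    tens (r • m) n = r • tens m n :=
  Pullback.pairM_smul_left _ r m n

lemma tens_smul_right (r : Γ(X, U)) (m : Γ(M, U)) (n : Γ(N, U)) :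
    tens m (r • n) = r • tens m n :=
  Pullback.pairM_smul_right _ r m n

lemma rs_tens (h : V ≤ U) (m : Γ(M, U)) (n : Γ(N, U)) :
    rs (CohB1.tensorMod M N) h (tens m n) = tens (rs M h m) (rs N h n) :=
  Pullback.pairM_map _ (homOfLE h) m n

lemma tens_zero_left (n : Γ(N, U)) : tens (0 : Γ(M, U)) n = 0 := by
  have h := tens_add_left (0 : Γ(M, U)) 0 n
  rwa [add_zero, left_eq_add] at h

lemma tens_zero_right (m : Γ(M, U)) : tens m (0 : Γ(N, U)) = 0 := by
  have h := tens_add_right m (0 : Γ(N, U)) 0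
  rwa [add_zero, left_eq_add] at h

lemma tens_sum_left {ι : Type*} (s : Finset ι) (m : ι → Γ(M, U)) (n : Γ(N, U)) :
    tens (∑ i ∈ s, m i) n = ∑ i ∈ s, tens (m i) n :=
  map_sum (AddMonoidHom.mk' (fun a : Γ(M, U) => tens a n) fun a b => tens_add_left a b n) _ _

lemma tens_sum_right {ι : Type*} (s : Finset ι) (m : Γ(M, U)) (n : ι → Γ(N, U)) :
    tens m (∑ i ∈ s, n i) = ∑ i ∈ s, tens m (n i) :=
  map_sum (AddMonoidHom.mk' (fun a : Γ(N, U) => tens m a) fun a b => tens_add_right m a b) _ _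

lemma tmap_tens (a : M ⟶ M') (b : N ⟶ N') (m : Γ(M, U)) (n : Γ(N, U)) :
    (tmap a b).app U (tens m n) = tens (a.app U m) (b.app U n) := by
  rw [app_tens, Free.pairM_tmap]
  rfl

/-- A property of sections of `M ⊗ N` which is local, additive and holds for pure tensors holds
for all sections. -/
lemma induction_on {P : ∀ V : X.Opens, V ≤ U → Γ(CohB1.tensorMod M N, V) → Prop}
    (local_ : ∀ V (hV : V ≤ U) u, (∀ x ∈ V, ∃ (W : X.Opens) (hW : W ≤ V), x ∈ W ∧
      P W (hW.trans hV) (rs _ hW u)) → P V hV u)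
    (zero : ∀ V (hV : V ≤ U), P V hV 0)
    (add : ∀ V (hV : V ≤ U) a b, P V hV a → P V hV b → P V hV (a + b))
    (pure : ∀ V (hV : V ≤ U) m n, P V hV (tens m n))
    (V : X.Opens) (hV : V ≤ U) (u : Γ(CohB1.tensorMod M N, V)) : P V hV u := by
  refine local_ V hV u fun x hx => ?_
  haveI := (Basic.isLocBij_unit (CohB1.tensorPre M N)).2
  have hmem := Presheaf.imageSieve_mem (Opens.grothendieckTopology X)
    ((PresheafOfModules.toPresheaf _).map ((adj X).unit.app (CohB1.tensorPre M N)))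
    (U := op V) u
  obtain ⟨W, i, ⟨p, hp⟩, hxW⟩ := hmem x hx
  refine ⟨W, leOfHom i, hxW, ?_⟩
  let F := ((adj X).unit.app (CohB1.tensorPre M N)).app (op W)
  let un : (CohB1.tensorPre M N).obj (op W) →+ Γ(CohB1.tensorMod M N, W) :=
    AddMonoidHom.mk' (fun q => F.hom q) fun a b => map_add F.hom a b
  have key : ∀ q : (CohB1.tensorPre M N).obj (op W), P W ((leOfHom i).trans hV) (un q) := by
    intro q
    induction q using TensorProduct.induction_on with
    | zero => exact (map_zero un).symm ▸ zero W _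
    | tmul m n =>
      have : tens (M := M) (N := N) (U := W) m n = un (m ⊗ₜ n) := by
        rw [tens, pairM, Adjunction.homEquiv_unit]
        have e : (adj X).unit.app (CohB1.tensorPre M N) ≫
            (fgt X).map (𝟙 (CohB1.tensorMod M N)) = (adj X).unit.app (CohB1.tensorPre M N) :=
          (congrArg (_ ≫ ·) ((fgt X).map_id _)).trans (Category.comp_id _)
        exact congrArg (fun t => Whisker.pair (M := (fgt X).obj M) (P := (fgt X).obj N)
          (H := (fgt X).obj (CohB1.tensorMod M N)) (X := op W) t m n) e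
      exact this ▸ pure W _ m n
    | add a b ha hb => exact (map_add un a b).symm ▸ add W _ _ _ ha hb
  have hp' : un p = rs (CohB1.tensorMod M N) (leOfHom i) u := hp
  rw [← hp']
  exact key p

/-- Morphisms out of `M ⊗ N` agree on a section if they agree on pure tensors. -/
lemma app_eq_app (g g' : CohB1.tensorMod M N ⟶ H)
    (h : ∀ V, V ≤ U → ∀ (m : Γ(M, V)) (n : Γ(N, V)), g.app V (tens m n) = g'.app V (tens m n))
    (u : Γ(CohB1.tensorMod M N, U)) : g.app U u = g'.app U u := by
  refine induction_on (U := U) (P := fun V _ a => g.app V a = g'.app V a) ?_ ?_ ?_ ?_ U le_rfl u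
  · refine fun V hV a ha => section_ext H _ _ fun x hx => ?_
    obtain ⟨W, hW, hxW, e⟩ := ha x hx
    refine ⟨W, hW, hxW, ?_⟩
    rw [← app_rs, ← app_rs, e]
  · intro V _; rw [map_zero, map_zero]
  · intro V _ a b ha hb; rw [map_add, map_add, ha, hb]
  · exact h

end Groth.Agent.Lib.Modules.TensorSec
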