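import Groth.Agent.Lib.Modules.TensorSec
import Mathlib.AlgebraicGeometry.AffineScheme

/-!
# Morphisms of modules from their values on affine opens
-/

set_option autoImplicit false
universe u

open CategoryTheory AlgebraicGeometry Opposite TopologicalSpace

namespace Groth.Agent.Lib.Modules.AffineHom

open Groth.Agent.Lib.TensorMod.Dual (rs rf rs_rs rs_smul)
open Groth.Agent.Lib.Modules.TensorSec (section_ext app_rs)

variable {X : Scheme.{u}} {M N : X.Modules}

theorem exists_affine {V : X.Opens} {x : X} (hx : x ∈ V) :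
    ∃ U : X.affineOpens, U.1 ≤ V ∧ x ∈ U.1 := by
  obtain ⟨U, hU, hxU, hle⟩ := exists_isAffineOpen_mem_and_subset hx
  exact ⟨⟨U, hU⟩, hle, hxU⟩

/-- Morphisms agreeing on affine opens are equal. -/
theorem hom_ext_affine {φ ψ : M ⟶ N}
    (h : ∀ (U : X.affineOpens) (s : Γ(M, U.1)), φ.app U.1 s = ψ.app U.1 s) : φ = ψ := by
  refine Scheme.Modules.hom_ext _ _ fun V => ?_
  ext s
  refine section_ext _ _ _ fun x hx => ?_
  obtain ⟨U, hUV, hxU⟩ := exists_affine hx
  exact ⟨U.1, hUV, hxU, by rw [← app_rs, ← app_rs]; exact h U _⟩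

variable (φ : ∀ U : X.affineOpens, Γ(M, U.1) →ₗ[Γ(X, U.1)] Γ(N, U.1))
  (hφ : ∀ (U V : X.affineOpens) (h : V.1 ≤ U.1) (m : Γ(M, U.1)), rs N h (φ U m) = φ V (rs M h m))

include hφ in
theorem existsUnique_value (V : X.Opens) (m : Γ(M, V)) :
    ∃! t : Γ(N, V), ∀ (U : X.affineOpens) (h : U.1 ≤ V), rs N h t = φ U (rs M h m) := by
  refine existsUnique_of_exists_of_unique ?_ fun t t' ht ht' => section_ext _ _ _ fun x hx => ?_
  · let ι := {U : X.affineOpens // U.1 ≤ V}
    have hcov : V ≤ ⨆ U : ι, U.1.1 := fun x hx => by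
      obtain ⟨U, hUV, hxU⟩ := exists_affine hx
      exact Opens.mem_iSup.2 ⟨⟨U, hUV⟩, hxU⟩
    obtain ⟨t, ht, -⟩ := TopCat.Sheaf.existsUnique_gluing'
      (⟨N.presheaf, N.isSheaf⟩ : TopCat.Sheaf AddCommGrpCat.{u} X) (fun U : ι => U.1.1) V
      (fun U => homOfLE U.2) hcov (fun U => φ U.1 (rs M U.2 m)) fun U U' => by
        refine section_ext (U := U.1.1 ⊓ U'.1.1) N _ _ fun x hx => ?_
        obtain ⟨W, hW, hxW⟩ := exists_affine hx
        refine ⟨W.1, hW, hxW, ?_⟩
        show rs N hW (rs N inf_le_left _) = rs N hW (rs N inf_le_right _)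
        rw [rs_rs, rs_rs, hφ, hφ, rs_rs, rs_rs]
    exact ⟨t, fun U h => ht ⟨U, h⟩⟩
  · obtain ⟨U, hUV, hxU⟩ := exists_affine hx
    exact ⟨U.1, hUV, hxU, (ht U hUV).trans (ht' U hUV).symm⟩

include hφ in
/-- Compatible linear maps on affine opens give a morphism. -/
theorem exists_hom_of_affine : ∃ ψ : M ⟶ N, ∀ (U : X.affineOpens) (m : Γ(M, U.1)), ψ.app U.1 m = φ U m := by
  choose f hf huniq using existsUnique_value φ hφ
  have hadd : ∀ V a b, f V (a + b) = f V a + f V b := fun V a b =>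
    (huniq V (a + b) _ fun U h => by simp only [map_add, hf]).symm
  have hzero : ∀ V, f V 0 = 0 := fun V => (huniq V 0 _ fun U h => by simp only [map_zero]).symm
  let fp : M.presheaf ⟶ N.presheaf :=
    { app := fun V => AddCommGrpCat.ofHom { toFun := f V.unop, map_zero' := hzero _, map_add' := hadd _ }
      naturality := fun V V' k => by
        ext m
        show f V'.unop (rs M k.unop.le m) = rs N k.unop.le (f V.unop m)
        refine (huniq V'.unop _ _ fun U h => ?_).symm
        rw [rs_rs, hf, rs_rs] }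
  refine ⟨⟨PresheafOfModules.homMk fp fun V r m => ?_⟩, fun U m => ?_⟩
  · show f V.unop ((show Γ(X, V.unop) from r) • (show Γ(M, V.unop) from m)) =
      (show Γ(X, V.unop) from r) • f V.unop m
    exact (huniq V.unop _ _ fun U h => by rw [rs_smul, hf, rs_smul, map_smul]).symm
  · show f U.1 m = _
    exact (TensorMod.Dual.rs_self N le_rfl _).symm.trans
      ((hf U.1 m U le_rfl).trans (by rw [TensorMod.Dual.rs_self]))

end Groth.Agent.Lib.Modules.AffineHom
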