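import Groth.Agent.Lib.Modules.Support
import Groth.Agent.Lib.DerivedOX.PullbackStalk
import Groth.Agent.Lib.DerivedOX.TensorSheaf
import Groth.Agent.Lib.QCoh.Stalk
import Groth.Agent.Lib.ZarCoh.SupportPullback
import Mathlib.RingTheory.LocalRing.ResidueField.Basic
import Mathlib.LinearAlgebra.Dual.Lemmas
import Mathlib.RingTheory.Support

/-!
# Supports of inverse images and of tensor products; supports on affine opens
-/

set_option autoImplicit false
universe u v w

open CategoryTheory Limits AlgebraicGeometry Opposite TopologicalSpace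
open scoped TensorProduct

namespace Groth.Agent.Lib.Modules.SupportOps

open Groth.Agent.Lib

noncomputable section

section Algebra

/-- A nonzero finite module over a local ring has a nonzero map to the residue field. -/
lemma exists_toResidue_ne_zero (R : Type u) [CommRing R] [IsLocalRing R] (M : Type v) [AddCommGroup M]
    [Module R M] [Module.Finite R M] [Nontrivial M] :
    ∃ φ : M →ₗ[R] IsLocalRing.ResidueField R, ∃ m : M, φ m ≠ 0 := by
  let 𝔪 := IsLocalRing.maximalIdeal R
  have hne : (𝔪 • ⊤ : Submodule R M) ≠ ⊤ := fun h =>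
    top_ne_bot (α := Submodule R M) (Submodule.eq_bot_of_le_smul_of_le_jacobson_bot 𝔪 ⊤ Module.Finite.fg_top h.ge
      (IsLocalRing.maximalIdeal_le_jacobson ⊥))
  obtain ⟨m, hm⟩ : ∃ m : M, m ∉ (𝔪 • ⊤ : Submodule R M) := by
    by_contra hall
    push Not at hall
    exact hne (eq_top_iff.mpr fun x _ => hall x)
  letI : Field (R ⧸ 𝔪) := Ideal.Quotient.field 𝔪
  let v : M ⧸ (𝔪 • ⊤ : Submodule R M) := Submodule.Quotient.mk m
  have hv : v ≠ 0 := fun h => hm ((Submodule.Quotient.mk_eq_zero _).mp h)
  obtain ⟨f, hf⟩ : ∃ f : Module.Dual (R ⧸ 𝔪) (M ⧸ (𝔪 • ⊤ : Submodule R M)), f v ≠ 0 := by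
    by_contra hall
    push Not at hall
    exact hv ((Module.forall_dual_apply_eq_zero_iff (R ⧸ 𝔪) v).mp hall)
  exact ⟨(f.restrictScalars R).comp (Submodule.mkQ _), m, hf⟩

/-- Base change along a local homomorphism does not kill a finite module. -/
lemma nontrivial_baseChange (R : Type u) [CommRing R] [IsLocalRing R] (S : Type v) [CommRing S]
    [IsLocalRing S] [Algebra R S] [IsLocalHom (algebraMap R S)] (M : Type w) [AddCommGroup M]
    [Module R M] [Module.Finite R M] [Nontrivial M] : Nontrivial (S ⊗[R] M) := by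
  obtain ⟨φ, m, hm⟩ := exists_toResidue_ne_zero R M
  let g : IsLocalRing.ResidueField R →ₗ[R] IsLocalRing.ResidueField S :=
    { toFun := IsLocalRing.ResidueField.map (algebraMap R S)
      map_add' := map_add _
      map_smul' := fun r z => by
        rw [Algebra.smul_def, map_mul, RingHom.id_apply, Algebra.smul_def]
        rfl }
  let ψ : S ⊗[R] M →ₗ[S] IsLocalRing.ResidueField S := (g.comp φ).liftBaseChange S
  refine ⟨⟨1 ⊗ₜ m, 0, fun h => hm ?_⟩⟩
  have h1 : ψ (1 ⊗ₜ m) = g (φ m) := by simp [ψ]
  rw [h, map_zero] at h1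
  exact (map_eq_zero_iff g (IsLocalRing.ResidueField.map (algebraMap R S)).injective).mp h1.symm

/-- The tensor product of nonzero finite modules over a local ring is nonzero. -/
lemma nontrivial_tensor (R : Type u) [CommRing R] [IsLocalRing R] (M : Type v) [AddCommGroup M]
    [Module R M] [Module.Finite R M] [Nontrivial M] (N : Type w) [AddCommGroup N]
    [Module R N] [Module.Finite R N] [Nontrivial N] : Nontrivial (M ⊗[R] N) := by
  obtain ⟨φ, m, hm⟩ := exists_toResidue_ne_zero R M
  obtain ⟨ψ, n, hn⟩ := exists_toResidue_ne_zero R N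
  refine ⟨⟨m ⊗ₜ n, 0, fun h => mul_ne_zero hm hn ?_⟩⟩
  have h1 := congrArg ((LinearMap.mul' R (IsLocalRing.ResidueField R)).comp (TensorProduct.map φ ψ)) h
  simpa using h1

end Algebra

variable {X Y : Scheme.{u}}

/-- The support of the inverse image of a module of finite type. -/
theorem support_pullback (f : X ⟶ Y) (M : Y.Modules)
    [SheafOfModules.IsFiniteType (R := Y.ringCatSheaf) M] :
    CohB1.support ((Scheme.Modules.pullback f).obj M) = ⇑f ⁻¹' CohB1.support M := by
  ext x
  let φ := (f.stalkMap x).hom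
  letI : Algebra (Y.presheaf.stalk (f x)) (X.presheaf.stalk x) := φ.toAlgebra
  haveI : IsLocalHom (algebraMap (Y.presheaf.stalk (f x)) (X.presheaf.stalk x)) :=
    inferInstanceAs (IsLocalHom (f.stalkMap x).hom)
  let e := ((DerivedOX.PullbackStalk.pullbackStalkIso f x).app M).toLinearEquiv
  have he : Subsingleton (((Scheme.Modules.pullback f).obj M).presheaf.stalk x) ↔
      Subsingleton (X.presheaf.stalk x ⊗[Y.presheaf.stalk (f x)] M.presheaf.stalk (f x)) :=
    e.toEquiv.subsingleton_congr.symm
  refine not_iff_not.mp ?_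
  show x ∉ CohB1.support _ ↔ f x ∉ CohB1.support M
  rw [Support.not_mem_support_iff, Support.not_mem_support_iff, he]
  refine ⟨fun h => ?_, fun h => inferInstance⟩
  haveI := GenStalk.finite_stalk M (f x)
  rcases subsingleton_or_nontrivial (M.presheaf.stalk (f x)) with h' | h'
  · exact h'
  · exact absurd h (not_subsingleton_iff_nontrivial.mpr (nontrivial_baseChange _ _ _))

/-- The support of a tensor product of modules of finite type. -/
theorem support_tensorMod (M N : X.Modules) [SheafOfModules.IsFiniteType (R := X.ringCatSheaf) M]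
    [SheafOfModules.IsFiniteType (R := X.ringCatSheaf) N] :
    CohB1.support (CohB1.tensorMod M N) = CohB1.support M ∩ CohB1.support N := by
  ext x
  have he : Subsingleton ((CohB1.tensorMod M N).presheaf.stalk x) ↔
      Subsingleton (M.presheaf.stalk x ⊗[X.presheaf.stalk x] N.presheaf.stalk x) :=
    (DerivedOX.TensorSheaf.tensorStalk x M N).toEquiv.subsingleton_congr
  refine not_iff_not.mp ?_
  rw [Support.not_mem_support_iff, Set.mem_inter_iff, not_and_or, Support.not_mem_support_iff,
    Support.not_mem_support_iff, he]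
  refine ⟨fun h => ?_, fun h => by rcases h with h | h <;> exact inferInstance⟩
  haveI := GenStalk.finite_stalk M x
  haveI := GenStalk.finite_stalk N x
  rcases subsingleton_or_nontrivial (M.presheaf.stalk x) with h' | h'
  · exact Or.inl h'
  rcases subsingleton_or_nontrivial (N.presheaf.stalk x) with h'' | h''
  · exact Or.inr h''
  exact absurd h (not_subsingleton_iff_nontrivial.mpr (nontrivial_tensor _ _ _))

/-- Outside the support, every section is killed by a function that does not vanish there. -/
theorem not_mem_support_iff_forall_smul (M : X.Modules) [M.IsQuasicoherent] {U : X.Opens}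
    (hU : IsAffineOpen U) {x : X} (hx : x ∈ U) :
    x ∉ CohB1.support M ↔ ∀ s : Γ(M, U), ∃ f : Γ(X, U), x ∈ X.basicOpen f ∧ f • s = 0 := by
  rw [Support.not_mem_support_iff]
  constructor
  · intro h s
    exact (QCoh.Stalk.germ_eq_zero_iff M hU hx s).mp (Subsingleton.elim _ _)
  · intro h
    refine subsingleton_of_forall_eq 0 fun z => ?_
    obtain ⟨f, t, hf, e⟩ := QCoh.Stalk.exists_smul_eq_germ M hU hx z
    rw [(QCoh.Stalk.germ_eq_zero_iff M hU hx t).mpr (h t)] at e
    exact ((X.mem_basicOpen f x hx).mp hf).smul_eq_zero.mp e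

/-- The support in terms of sections over an affine open. -/
theorem primeIdealOf_mem_support_iff (M : X.Modules) [M.IsQuasicoherent] {U : X.Opens}
    (hU : IsAffineOpen U) {x : X} (hx : x ∈ U) :
    hU.primeIdealOf ⟨x, hx⟩ ∈ Module.support Γ(X, U) Γ(M, U) ↔ x ∈ CohB1.support M := by
  refine not_iff_not.mp ?_
  rw [Module.notMem_support_iff', not_mem_support_iff_forall_smul M hU hx]
  exact forall_congr' fun s => exists_congr fun r => and_congr_left fun _ =>
    QCoh.Stalk.mem_primeIdealOf_compl_iff hU hx r

/-- The support of a quasi-coherent module is stable under specialisation. -/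
theorem stableUnderSpecialization_support (M : X.Modules) [M.IsQuasicoherent] :
    StableUnderSpecialization (CohB1.support M) := by
  intro y x hyx hy
  obtain ⟨U, hU, hxU, -⟩ := exists_isAffineOpen_mem_and_subset (U := ⊤) (x := x) trivial
  by_contra hx
  rw [not_mem_support_iff_forall_smul M hU hxU] at hx
  refine absurd hy ?_
  rw [not_mem_support_iff_forall_smul M hU (hyx.mem_open U.2 hxU)]
  intro s
  obtain ⟨f, hf, hs⟩ := hx s
  exact ⟨f, hyx.mem_open (X.basicOpen f).2 hf, hs⟩

/-- Finite type is local. -/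
theorem isFT_of_cover {M : X.Modules}
    (h : ∀ x : X, ∃ U : X.Opens, x ∈ U ∧
      ∃ σ : SheafOfModules.GeneratingSections (R := (U : Scheme.{u}).ringCatSheaf) (M.restrict U.ι),
        Finite σ.I) :
    SheafOfModules.IsFiniteType (R := X.ringCatSheaf) M := by
  choose U hx σ hσ using h
  have hgen : ∀ x : X, ∃ τ : ((show SheafOfModules X.ringCatSheaf from M).over (U x)).GeneratingSections,
      Finite τ.I := by
    intro x
    let E := Scheme.Modules.overEquiv (U x)
    let F : SheafOfModules.{u} (U x : Scheme.{u}).ringCatSheaf ⥤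
        SheafOfModules.{u} (X.ringCatSheaf.over (U x)) := E.inverse
    haveI : PreservesColimitsOfSize.{u, u} F :=
      Adjunction.leftAdjoint_preservesColimits.{u, u} E.symm.toAdjunction
    let e (N : X.Modules) : E.inverse.obj (N.restrict (U x).ι) ≅ SheafOfModules.over N (U x) :=
      E.inverse.mapIso ((Scheme.Modules.overFunctorEquiv (U x)).app N).symm ≪≫
        (E.unitIso.app (SheafOfModules.over N (U x))).symm
    let η := (E.inverse.mapIso (Scheme.Modules.restrictUnitIso (U x).ι).symm ≪≫
      e (SheafOfModules.unit X.ringCatSheaf)).symm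
    haveI := hσ x
    let τ := (σ x).map F η
    exact ⟨τ.ofEpi (e M).hom, inferInstanceAs (Finite (σ x).I)⟩
  choose τ hτ using hgen
  exact SheafOfModules.IsFiniteType.mk (C := X.Opens) (R := X.ringCatSheaf) (M := M)
    ⟨{ I := X
       X := U
       coversTop := (Opens.coversTop_iff _ _).mpr
         (eq_top_iff.mpr fun x _ ↦ Opens.mem_iSup.mpr ⟨x, hx x⟩)
       generators := τ }, by constructor; exact fun x => ⟨hτ x⟩⟩

/-- Finite type only depends on the isomorphism class. -/
theorem isFT_of_iso {M N : X.Modules} (e : M ≅ N)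
    [SheafOfModules.IsFiniteType (R := X.ringCatSheaf) M] :
    SheafOfModules.IsFiniteType (R := X.ringCatSheaf) N := by
  obtain ⟨σ, hσ⟩ := SheafOfModules.IsFiniteType.exists_localGeneratorsData
    (show SheafOfModules X.ringCatSheaf from M)
  let E (i : σ.I) : (show SheafOfModules X.ringCatSheaf from M).over (σ.X i) ≅
      (show SheafOfModules X.ringCatSheaf from N).over (σ.X i) :=
    (SheafOfModules.overFunctor X.ringCatSheaf (σ.X i)).mapIso e
  exact SheafOfModules.IsFiniteType.mk (C := X.Opens) (R := X.ringCatSheaf) (M := N)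
    ⟨{ I := σ.I
       X := σ.X
       coversTop := σ.coversTop
       generators := fun i => (σ.generators i).ofEpi (E i).hom },
      by constructor; exact fun i => ⟨(hσ.isFiniteType i).finite⟩⟩

/-- Inverse images of modules of finite type are of finite type. -/
theorem isFT_pullback (f : X ⟶ Y) (M : Y.Modules)
    [SheafOfModules.IsFiniteType (R := Y.ringCatSheaf) M] :
    SheafOfModules.IsFiniteType (R := X.ringCatSheaf) ((Scheme.Modules.pullback f).obj M) := by
  obtain ⟨σ, hσ⟩ := SheafOfModules.IsFiniteType.exists_localGeneratorsData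
    (show SheafOfModules Y.ringCatSheaf from M)
  refine isFT_of_cover fun x => ?_
  obtain ⟨i, hi⟩ : ∃ i, f x ∈ σ.X i := by
    obtain ⟨W, g, ⟨i, ⟨k⟩⟩, hW⟩ := σ.coversTop ⊤ (f x) trivial
    exact ⟨i, leOfHom k hW⟩
  let V : Y.Opens := σ.X i
  haveI := (hσ.isFiniteType i).finite
  obtain ⟨σ₁, hσ₁⟩ := ZarCoh.SupportPullback.exists_restrictGens M V (σ.generators i)
  obtain ⟨σ₂, hσ₂⟩ := ZarCoh.SupportPullback.exists_pullbackGens (f ∣_ V) (M.restrict V.ι) σ₁
  exact ⟨f ⁻¹ᵁ V, hi, σ₂.ofEpi (ZarCoh.SupportPullback.restrictIso f M V).inv,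
    inferInstanceAs (Finite σ₂.I)⟩

end

end Groth.Agent.Lib.Modules.SupportOps
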