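import Groth.Agent.Lib.CohBasics.Affine
import Groth.Agent.Lib.Flat55.QCohFP
import Groth.Agent.Lib.TensorMod.FPConv
import Groth.Agent.Lib.StalkLoc.Basic
import Groth.Agent.H81.PushLocFree
import Mathlib.RingTheory.Flat.Localization
import Mathlib.RingTheory.LocalProperties.FinitePresentation

/-!
# Properties of quasi-coherent modules read off sections on affine opens
-/

universe u

open CategoryTheory Limits AlgebraicGeometry Opposite TopologicalSpace
open Groth.Agent.Lib Groth.Agent.Lib.QCoh.Localizing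

namespace Groth.Agent.Lib.Modules.AffineSections

set_option linter.style.haveILetI false

variable {X : Scheme.{u}} {M : X.Modules} [M.IsQuasicoherent]

theorem isZero_of_sections (h : ∀ x : X, ∃ U : X.Opens, IsAffineOpen U ∧ x ∈ U ∧ Subsingleton Γ(M, U)) :
    IsZero M := by
  rw [Modules.Stalk.isZero_iff_stalk_subsingleton]
  intro x
  obtain ⟨U, hU, hx, hs⟩ := h x
  letI := StalkLoc.Basic.moduleSections M hx
  haveI := StalkLoc.Basic.isLocalizedModule_germ (M := M) hU hx
  refine ⟨fun a b => ?_⟩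
  obtain ⟨⟨m, s⟩, hm⟩ := IsLocalizedModule.surj (hU.primeIdealOf ⟨x, hx⟩).asIdeal.primeCompl
    (StalkLoc.Basic.germₗ M hx) a
  obtain ⟨⟨n, t⟩, hn⟩ := IsLocalizedModule.surj (hU.primeIdealOf ⟨x, hx⟩).asIdeal.primeCompl
    (StalkLoc.Basic.germₗ M hx) b
  rw [Subsingleton.elim m 0, map_zero] at hm
  rw [Subsingleton.elim n 0, map_zero] at hn
  have hs' := (IsLocalizedModule.map_units (StalkLoc.Basic.germₗ M hx) s)
  have ht' := (IsLocalizedModule.map_units (StalkLoc.Basic.germₗ M hx) t)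
  rw [Module.End.isUnit_iff] at hs' ht'
  have ha : a = 0 := hs'.1 (hm.trans (map_zero _).symm)
  have hb : b = 0 := ht'.1 (hn.trans (map_zero _).symm)
  rw [ha, hb]

omit [M.IsQuasicoherent] in
theorem subsingleton_sections (h : IsZero M) (U : X.Opens) : Subsingleton Γ(M, U) := by
  refine ⟨fun a b => ?_⟩
  have h0 : 𝟙 M = 0 := h.eq_of_src _ _
  have ha := congrArg (fun φ : M ⟶ M => φ.app U a) h0
  have hb := congrArg (fun φ : M ⟶ M => φ.app U b) h0
  simp only [Scheme.Modules.Hom.id_app, Scheme.Modules.Hom.zero_app] at ha hb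
  exact ha.trans hb.symm

theorem flat_sections (hM : FlatMod.IsFlat M) {U : X.Opens} (hU : IsAffineOpen U) :
    Module.Flat Γ(X, U) Γ(M, U) := by
  let pt : PrimeSpectrum Γ(X, U) → U := fun p => ⟨hU.fromSpec p, hU.opensRange_fromSpec.le ⟨p, rfl⟩⟩
  have hpt : ∀ p, hU.primeIdealOf (pt p) = p := fun p =>
    hU.fromSpec.isOpenEmbedding.injective (hU.fromSpec_primeIdealOf (pt p))
  refine Module.flat_of_localized_maximal (R := Γ(X, U)) (M := Γ(M, U)) (fun P hP => ?_)
  let y := pt ⟨P, hP.isPrime⟩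
  letI := StalkLoc.Basic.moduleSections M y.2
  letI := TopCat.Presheaf.algebra_section_stalk X.presheaf y
  haveI := StalkLoc.Basic.isScalarTower_sections M y.2
  haveI := hU.isLocalization_stalk y
  haveI := StalkLoc.Basic.isLocalizedModule_germ (M := M) hU y.2
  haveI : Module.Flat (X.presheaf.stalk y.1) (M.presheaf.stalk y.1) := hM y.1
  haveI : Module.Flat Γ(X, U) (X.presheaf.stalk y.1) :=
    IsLocalization.flat _ (hU.primeIdealOf y).asIdeal.primeCompl
  haveI : Module.Flat Γ(X, U) (M.presheaf.stalk y.1) := Module.Flat.trans _ (X.presheaf.stalk y.1) _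
  have he : (hU.primeIdealOf y).asIdeal = P := by rw [hpt]
  suffices h : Module.Flat Γ(X, U) (LocalizedModule (hU.primeIdealOf y).asIdeal.primeCompl Γ(M, U)) by
    convert h using 4 <;> exact he.symm
  exact Module.Flat.of_linearEquiv
    (IsLocalizedModule.iso (hU.primeIdealOf y).asIdeal.primeCompl (StalkLoc.Basic.germₗ M y.2))

theorem isFlat_of_sections
    (h : ∀ x : X, ∃ U : X.Opens, IsAffineOpen U ∧ x ∈ U ∧ Module.Flat Γ(X, U) Γ(M, U)) :
    FlatMod.IsFlat M := by
  intro x
  obtain ⟨U, hU, hx, hf⟩ := h x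
  letI := StalkLoc.Basic.moduleSections M hx
  letI := TopCat.Presheaf.algebra_section_stalk X.presheaf (⟨x, hx⟩ : U)
  haveI := StalkLoc.Basic.isScalarTower_sections M hx
  haveI := hU.isLocalization_stalk ⟨x, hx⟩
  haveI := StalkLoc.Basic.isLocalizedModule_germ (M := M) hU hx
  exact Module.Flat.isBaseChange Γ(X, U) (X.presheaf.stalk x) Γ(M, U) (M.presheaf.stalk x)
    (IsLocalizedModule.isBaseChange (hU.primeIdealOf ⟨x, hx⟩).asIdeal.primeCompl _
      (StalkLoc.Basic.germₗ M hx))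

theorem finitePresentation_sections (hM : CohB1.IsFP M) {U : X.Opens} (hU : IsAffineOpen U) :
    Module.FinitePresentation Γ(X, U) Γ(M, U) := by
  haveI : SheafOfModules.IsFinitePresentation (R := X.ringCatSheaf) M := hM
  let s : Set Γ(X, U) := {f | Module.FinitePresentation Γ(X, X.basicOpen f) Γ(M, X.basicOpen f)}
  have hs : Ideal.span s = ⊤ := by
    refine (hU.iSup_basicOpen_eq_self_iff (s := s)).mp (le_antisymm
      (iSup_le fun f => X.basicOpen_le _) fun x hx => ?_)
    obtain ⟨W, hW, hxW, hWU, hfp⟩ := Flat55.QCohFP.exists_affine_le M x U hx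
    obtain ⟨f, hfW, hxf⟩ := hU.exists_basicOpen_le (⟨x, hxW⟩ : W) hx
    have h := Flat55.QCohFP.finitePresentation_basicOpen M hW (X.presheaf.map (homOfLE hWU).op f)
    have e : X.basicOpen (X.presheaf.map (homOfLE hWU).op f) = X.basicOpen f := by
      rw [Scheme.basicOpen_res]
      exact inf_eq_right.2 hfW
    rw [e] at h
    exact Opens.mem_iSup.2 ⟨⟨f, h⟩, hxf⟩
  letI : ∀ g : s, Algebra Γ(X, U) Γ(X, X.basicOpen g.1) :=
    fun g ↦ (resR (X.basicOpen_le g.1)).toAlgebra
  letI : ∀ g : s, Module Γ(X, U) Γ(M, X.basicOpen g.1) :=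
    fun g ↦ Module.compHom _ (resR (X.basicOpen_le g.1))
  haveI : ∀ g : s, IsScalarTower Γ(X, U) Γ(X, X.basicOpen g.1) Γ(M, X.basicOpen g.1) :=
    fun g ↦ IsScalarTower.of_algebraMap_smul fun _ _ ↦ rfl
  haveI : ∀ g : s, IsLocalization.Away g.1 Γ(X, X.basicOpen g.1) :=
    fun g ↦ hU.isLocalization_basicOpen g.1
  let l : ∀ g : s, Γ(M, U) →ₗ[Γ(X, U)] Γ(M, X.basicOpen g.1) := fun g ↦
    { toFun := res M (X.basicOpen_le g.1)
      map_add' := map_add _
      map_smul' := fun r m ↦ res_smul (X.basicOpen_le g.1) r m }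
  haveI : ∀ g : s, IsLocalizedModule (Submonoid.powers g.1) (l g) := fun g ↦ by
    refine ⟨fun t ↦ ?_, fun y ↦ ?_, fun {a b} h ↦ ?_⟩
    · rw [Module.End.isUnit_iff]
      exact (IsLocalization.map_units Γ(X, X.basicOpen g.1) t).smul_bijective
    · obtain ⟨n, t, ht⟩ := (localizes_of_isAffineOpen M hU g.1).ext' y
      refine ⟨⟨t, ⟨g.1 ^ n, n, rfl⟩⟩, ?_⟩
      refine Eq.trans ?_ ht.symm
      change resR (X.basicOpen_le g.1) (g.1 ^ n) • y = _
      rw [map_pow]
    · obtain ⟨n, hn⟩ := (localizes_of_isAffineOpen M hU g.1).sep.exists_pow_smul_eq h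
      exact ⟨⟨g.1 ^ n, n, rfl⟩, hn⟩
  exact Module.FinitePresentation.of_localizationSpan' s hs l fun g ↦ g.2

omit [M.IsQuasicoherent] in
theorem isQCoh_of_isFinLocFree (hM : FlatMod.IsFinLocFree M) : M.IsQuasicoherent := by
  haveI : SheafOfModules.IsFinitePresentation (R := X.ringCatSheaf) M :=
    TensorMod.FPConv.isFP_of_isFinLocFree hM
  obtain ⟨σ, -⟩ := SheafOfModules.IsFinitePresentation.exists_quasicoherentData
    (show SheafOfModules X.ringCatSheaf from M)
  exact SheafOfModules.IsQuasicoherent.mk (C := X.Opens) (R := X.ringCatSheaf) (M := M) ⟨σ⟩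

theorem finite_projective_sections (hM : FlatMod.IsFinLocFree M) {U : X.Opens} (hU : IsAffineOpen U) :
    Module.Finite Γ(X, U) Γ(M, U) ∧ Module.Projective Γ(X, U) Γ(M, U) := by
  haveI := finitePresentation_sections (TensorMod.FPConv.isFP_of_isFinLocFree hM) hU
  haveI := flat_sections (TensorMod.FPConv.isFlat_of_isFinLocFree hM) hU
  exact ⟨inferInstance, Module.Flat.projective_of_finitePresentation⟩

theorem isFinLocFree_of_sections (h : ∀ x : X, ∃ U : X.Opens, IsAffineOpen U ∧ x ∈ U ∧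
    Module.Finite Γ(X, U) Γ(M, U) ∧ Module.Projective Γ(X, U) Γ(M, U)) :
    FlatMod.IsFinLocFree M := by
  intro x
  obtain ⟨U, hU, hx, h1, h2⟩ := h x
  exact H81.PushLocFree.exists_free_nhd_of_projective hU hx

end Groth.Agent.Lib.Modules.AffineSections
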