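import Groth.Agent.Lib.Modules.Stalk
import Groth.Agent.Lib.Modules.StalkModule
import Groth.Agent.Lib.Modules.TensorSec
import Groth.Agent.Lib.ClSub.Sections
import Mathlib.CategoryTheory.Limits.Types.Pullbacks
import Mathlib.Algebra.Homology.ShortComplex.Ab

/-!
# Monomorphisms, epimorphisms, exactness and pullbacks through sections
-/

set_option autoImplicit false
set_option linter.style.haveILetI false
universe u

open CategoryTheory CategoryTheory.Limits AlgebraicGeometry Opposite TopologicalSpace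

namespace Groth.Agent.Lib.Modules.LocalSections

open Groth.Agent.Lib.TensorMod.Dual (rs)
open Groth.Agent.Lib.Modules.TensorSec (section_ext app_rs)

variable {X : Scheme.{u}} {M N K : X.Modules}

theorem app_injective (φ : M ⟶ N) [Mono φ] (U : X.Opens) : Function.Injective (φ.app U) :=
  (Stalk.mono_iff_app_injective φ).1 inferInstance U

/-- An epimorphism is locally surjective on sections. -/
theorem exists_preimage (φ : M ⟶ N) [Epi φ] {U : X.Opens} (n : Γ(N, U)) {x : X} (hx : x ∈ U) :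
    ∃ (W : X.Opens) (h : W ≤ U) (m : Γ(M, W)), x ∈ W ∧ φ.app W m = rs N h n := by
  obtain ⟨v, hv⟩ := (Stalk.epi_iff_stalk_surjective φ).1 inferInstance x (N.presheaf.germ U x hx n)
  obtain ⟨O, hxO, m, rfl⟩ := TopCat.Presheaf.exists_germ_eq M.presheaf v
  replace hv := (Stalk.stalkFunctor_map_germ x φ hxO m).symm.trans hv
  obtain ⟨W, hxW, i₁, i₂, hW⟩ := TopCat.Presheaf.germ_eq N.presheaf x hxO hx _ _ hv
  exact ⟨W, i₂.le, rs M i₁.le m, hxW, (app_rs φ i₁.le m).trans hW⟩

/-- Exactness is exactness on sections, locally. -/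
theorem exists_preimage_of_exact {f : M ⟶ N} {g : N ⟶ K} {w : f ≫ g = 0}
    (h : (ShortComplex.mk f g w).Exact) {U : X.Opens} (n : Γ(N, U)) (hn : g.app U n = 0) {x : X}
    (hx : x ∈ U) : ∃ (W : X.Opens) (h : W ≤ U) (m : Γ(M, W)), x ∈ W ∧ f.app W m = rs N h n := by
  obtain ⟨v, hv⟩ := (ShortComplex.ab_exact_iff _).1 ((Stalk.exact_iff_stalk _).1 h x)
    (N.presheaf.germ U x hx n)
    ((Stalk.stalkFunctor_map_germ x g hx n).trans (by rw [hn]; exact map_zero _))
  obtain ⟨O, hxO, m, rfl⟩ := TopCat.Presheaf.exists_germ_eq M.presheaf v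
  replace hv := (Stalk.stalkFunctor_map_germ x f hxO m).symm.trans hv
  obtain ⟨W, hxW, i₁, i₂, hW⟩ := TopCat.Presheaf.germ_eq N.presheaf x hxO hx _ _ hv
  exact ⟨W, i₂.le, rs M i₁.le m, hxW, (app_rs f i₁.le m).trans hW⟩

/-- A morphism is zero if its values are zero locally. -/
theorem hom_eq_zero {φ : M ⟶ N}
    (h : ∀ (U : X.Opens) (m : Γ(M, U)), ∀ x ∈ U, ∃ (W : X.Opens) (hW : W ≤ U), x ∈ W ∧
      φ.app W (rs M hW m) = 0) : φ = 0 := by
  refine Scheme.Modules.hom_ext _ _ fun V => ?_
  ext m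
  refine section_ext _ _ _ fun x hx => ?_
  obtain ⟨W, hW, hxW, e⟩ := h V m x hx
  refine ⟨W, hW, hxW, ?_⟩
  rw [← app_rs, e]
  exact (map_zero _).symm

/-- A morphism is mono if sections it kills vanish locally. -/
theorem mono_of_local {φ : M ⟶ N}
    (h : ∀ (U : X.Opens) (m : Γ(M, U)), φ.app U m = 0 → ∀ x ∈ U, ∃ (W : X.Opens) (hW : W ≤ U),
      x ∈ W ∧ rs M hW m = 0) : Mono φ := by
  refine (Stalk.mono_iff_app_injective φ).2 fun U a b hab => sub_eq_zero.1 ?_
  refine section_ext _ _ _ fun x hx => ?_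
  obtain ⟨W, hW, hxW, e⟩ := h U (a - b) (by rw [map_sub, hab, sub_self]) x hx
  exact ⟨W, hW, hxW, e.trans (map_zero _).symm⟩

/-- A morphism is epi if sections are locally values. -/
theorem epi_of_local {φ : M ⟶ N}
    (h : ∀ (U : X.Opens) (n : Γ(N, U)), ∀ x ∈ U, ∃ (W : X.Opens) (hW : W ≤ U) (m : Γ(M, W)),
      x ∈ W ∧ φ.app W m = rs N hW n) : Epi φ := by
  refine Preadditive.epi_of_cancel_zero _ fun {P} g hg => hom_eq_zero fun U n x hx => ?_
  obtain ⟨W, hW, m, hxW, e⟩ := h U n x hx
  refine ⟨W, hW, hxW, ?_⟩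
  rw [← e]
  exact congr(($hg).app W m)

/-- Sections over an open as a functor to types. -/
noncomputable abbrev secT (O : X.Opens) : X.Modules ⥤ Type u :=
  Scheme.Modules.toPresheaf X ⋙ (evaluation _ _).obj (op O) ⋙ forget AddCommGrpCat.{u}

variable {P A B : X.Modules} {a : A ⟶ P} {b : B ⟶ P}

theorem isPullback_sec (a : A ⟶ P) (b : B ⟶ P) (O : X.Opens) :
    IsPullback ((secT O).map (Limits.pullback.fst a b)) ((secT O).map (Limits.pullback.snd a b))
      ((secT O).map a) ((secT O).map b) :=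
  haveI : PreservesLimitsOfSize.{0, 0} (Scheme.Modules.toPresheaf X) := preservesLimitsOfSize_shrink _
  haveI : PreservesLimitsOfSize.{0, 0} (forget AddCommGrpCat.{u}) := preservesLimitsOfSize_shrink _
  haveI : PreservesLimitsOfSize.{0, 0} ((evaluation X.Opensᵒᵖ AddCommGrpCat.{u}).obj (op O)) :=
    preservesLimitsOfSize_shrink _
  haveI : PreservesLimitsOfSize.{0, 0}
      ((evaluation X.Opensᵒᵖ AddCommGrpCat.{u}).obj (op O) ⋙ forget AddCommGrpCat.{u}) := comp_preservesLimits _ _
  haveI : PreservesLimitsOfSize.{0, 0} (secT (X := X) O) := comp_preservesLimits _ _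
  (IsPullback.of_hasPullback _ _).map (secT O)

theorem pullback_ext {O : X.Opens} {s s' : Γ(Limits.pullback a b, O)}
    (h₁ : (Limits.pullback.fst a b).app O s = (Limits.pullback.fst a b).app O s')
    (h₂ : (Limits.pullback.snd a b).app O s = (Limits.pullback.snd a b).app O s') : s = s' :=
  Types.ext_of_isPullback (isPullback_sec a b O) h₁ h₂

theorem pullback_condition {O : X.Opens} (s : Γ(Limits.pullback a b, O)) :
    a.app O ((Limits.pullback.fst a b).app O s) = b.app O ((Limits.pullback.snd a b).app O s) :=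
  congr(($(pullback.condition (f := a) (g := b))).app O s)

end Groth.Agent.Lib.Modules.LocalSections
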