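import Groth.Agent.Lib.Modules.AffineSections
import Groth.Agent.Lib.StalkLoc.Basic
import Groth.Agent.Lib.DerivedOX.PullbackStalk
import Mathlib.AlgebraicGeometry.IdealSheaf.Subscheme
import Mathlib.RingTheory.Finiteness.Projective

/-!
# The vanishing locus of a map into a finite locally free module
-/

set_option autoImplicit false
universe u

open CategoryTheory Limits AlgebraicGeometry Opposite TopologicalSpace
open scoped TensorProduct

namespace Groth.Agent.Lib.Modules.ZeroLocus

open Groth.Agent.Lib QCoh.Localizing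

noncomputable section

variable {X : Scheme.{u}} {E F : X.Modules} (v : E ⟶ F)

/-- The values `φ (v e)`. -/
def vals (U : X.Opens) : Set Γ(X, U) :=
  {a | ∃ (φ : Γ(F, U) →ₗ[Γ(X, U)] Γ(X, U)) (e : Γ(E, U)), φ (v.app U e) = a}

section BasicOpen

variable {U : X.Opens} (hU : IsAffineOpen U) (f : Γ(X, U))

/-- The `Γ(X, U)`-module structure on sections over a basic open. -/
abbrev modBasic (M : X.Modules) : Module Γ(X, U) Γ(M, X.basicOpen f) :=
  Module.compHom _ (resR (X.basicOpen_le f))

/-- Restriction to a basic open as a linear map. -/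
def resBasic (M : X.Modules) :
    letI := modBasic f M
    Γ(M, U) →ₗ[Γ(X, U)] Γ(M, X.basicOpen f) :=
  letI := modBasic f M
  { toFun := res M (X.basicOpen_le f)
    map_add' := map_add _
    map_smul' := fun r m => res_smul (X.basicOpen_le f) r m }

include hU in
lemma isLocalizedModule_resBasic (M : X.Modules) [M.IsQuasicoherent] :
    letI := modBasic f M
    IsLocalizedModule (Submonoid.powers f) (resBasic f M) := by
  let _ := modBasic f M
  let _ := (resR (X.basicOpen_le f)).toAlgebra
  have hloc : IsLocalization.Away f Γ(X, X.basicOpen f) := hU.isLocalization_basicOpen f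
  refine ⟨fun t ↦ ?_, fun y ↦ ?_, fun {a b} h ↦ ?_⟩
  · rw [Module.End.isUnit_iff]
    exact (IsLocalization.map_units Γ(X, X.basicOpen f) t).smul_bijective
  · obtain ⟨n, t, ht⟩ := (localizes_of_isAffineOpen M hU f).ext' y
    refine ⟨⟨t, ⟨f ^ n, n, rfl⟩⟩, ?_⟩
    refine Eq.trans ?_ ht.symm
    change resR (X.basicOpen_le f) (f ^ n) • y = _
    rw [map_pow]
  · obtain ⟨n, hn⟩ := (localizes_of_isAffineOpen M hU f).sep.exists_pow_smul_eq h
    exact ⟨⟨f ^ n, n, rfl⟩, hn⟩

include hU in
lemma exists_dual_res [F.IsQuasicoherent] (φ : Γ(F, U) →ₗ[Γ(X, U)] Γ(X, U)) :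
    ∃ ψ : Γ(F, X.basicOpen f) →ₗ[Γ(X, X.basicOpen f)] Γ(X, X.basicOpen f),
      ∀ m, ψ (res F (X.basicOpen_le f) m) = resR (X.basicOpen_le f) (φ m) := by
  let _ := modBasic f F
  let _ := (resR (X.basicOpen_le f)).toAlgebra
  have hloc : IsLocalization.Away f Γ(X, X.basicOpen f) := hU.isLocalization_basicOpen f
  haveI := isLocalizedModule_resBasic hU f F
  haveI : IsScalarTower Γ(X, U) Γ(X, X.basicOpen f) Γ(F, X.basicOpen f) :=
    IsScalarTower.of_algebraMap_smul fun _ _ => rfl
  let l : Γ(F, U) →ₗ[Γ(X, U)] Γ(X, X.basicOpen f) := (Algebra.linearMap _ _).comp φ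
  have hu : ∀ x : Submonoid.powers f,
      IsUnit (algebraMap Γ(X, U) (Module.End Γ(X, U) Γ(X, X.basicOpen f)) x) := fun x => by
    rw [Module.End.isUnit_iff]
    convert (IsLocalization.map_units Γ(X, X.basicOpen f) x).mul_right_injective using 0
    constructor
    · exact fun h => (IsLocalization.map_units Γ(X, X.basicOpen f) x).mul_right_injective
    · intro _
      have hb := (IsLocalization.map_units Γ(X, X.basicOpen f) x).smul_bijective
        (α := Γ(X, X.basicOpen f)) (β := Γ(X, X.basicOpen f))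
      refine ⟨fun a b e => hb.1 ?_, fun b => ?_⟩
      · simpa [Algebra.smul_def] using e
      · obtain ⟨a, ha⟩ := hb.2 b
        exact ⟨a, by simpa [Algebra.smul_def] using ha⟩
  let ψ₀ := IsLocalizedModule.lift (Submonoid.powers f) (resBasic f F) l hu
  refine ⟨LinearMap.extendScalarsOfIsLocalization (Submonoid.powers f) _ ψ₀, fun m => ?_⟩
  exact IsLocalizedModule.lift_apply (Submonoid.powers f) (resBasic f F) l hu m

include hU in
lemma span_vals_map [E.IsQuasicoherent] [F.IsQuasicoherent]
    (hfin : Module.Finite Γ(X, U) Γ(F, U)) (hproj : Module.Projective Γ(X, U) Γ(F, U)) :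
    (Ideal.span (vals v U)).map (resR (X.basicOpen_le f)) = Ideal.span (vals v (X.basicOpen f)) := by
  refine le_antisymm ?_ ?_
  · rw [Ideal.map_span, Ideal.span_le]
    rintro _ ⟨_, ⟨φ, e, rfl⟩, rfl⟩
    obtain ⟨ψ, hψ⟩ := exists_dual_res hU f φ
    refine Ideal.subset_span ⟨ψ, res E (X.basicOpen_le f) e, ?_⟩
    rw [← res_app, hψ]
  · rw [Ideal.span_le]
    rintro _ ⟨ψ, e', rfl⟩
    obtain ⟨n, e, he⟩ := (localizes_of_isAffineOpen E hU f).ext' e'
    obtain ⟨k, p, s, -, -, hps⟩ := Module.Finite.exists_comp_eq_id_of_projective Γ(X, U) Γ(F, U)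
    let φ : Fin k → Γ(F, U) →ₗ[Γ(X, U)] Γ(X, U) := fun i => (LinearMap.proj i).comp s
    let y : Fin k → Γ(F, U) := fun i => p (Pi.single i 1)
    have hsum : ∀ m, m = ∑ i, φ i m • y i := fun m => by
      calc m = p (s m) := (LinearMap.congr_fun hps m).symm
        _ = p (∑ i, s m i • Pi.single i 1) := congrArg p (pi_eq_sum_univ' (s m))
        _ = _ := by rw [map_sum]; simp only [map_smul]; rfl
    have key : resR (X.basicOpen_le f) f ^ n * ψ (v.app _ e') ∈
        (Ideal.span (vals v U)).map (resR (X.basicOpen_le f)) := by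
      rw [← smul_eq_mul, ← map_smul, ← Scheme.Modules.Hom.app_smul, ← he, ← res_app,
        hsum (v.app U e), map_sum, map_sum]
      refine Ideal.sum_mem _ fun i _ => ?_
      rw [res_smul, map_smul, smul_eq_mul]
      exact Ideal.mul_mem_right _ _ (Ideal.mem_map_of_mem _ (Ideal.subset_span ⟨φ i, e, rfl⟩))
    have hu : IsUnit (resR (X.basicOpen_le f) f ^ n) :=
      (RingedSpace.isUnit_res_basicOpen _ f).pow n
    exact (Ideal.unit_mul_mem_iff_mem _ hu).mp key

end BasicOpen

variable [E.IsQuasicoherent] [F.IsQuasicoherent] (hF : FlatMod.IsFinLocFree F)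

include hF in
/-- The ideal sheaf of the vanishing locus. -/
def idealSheaf : X.IdealSheafData where
  ideal U := Ideal.span (vals v (U : X.Opens))
  map_ideal_basicOpen U f := by
    obtain ⟨h1, h2⟩ := AffineSections.finite_projective_sections (M := F) hF U.2
    exact span_vals_map v U.2 f h1 h2

lemma pullback_map_eq_zero_iff_stalk {T : Scheme.{u}} (g : T ⟶ X) :
    (Scheme.Modules.pullback g).map v = 0 ↔
      ∀ t : T, (ModuleCat.extendScalars.{u, u, u} (g.stalkMap t).hom).map
        ((StalkModule.stalkModFunctor X (g.base t)).map v) = 0 := by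
  constructor
  · intro h t
    have hn := (DerivedOX.PullbackStalk.pullbackStalkIso g t).hom.naturality v
    rw [← cancel_mono ((DerivedOX.PullbackStalk.pullbackStalkIso g t).hom.app F), zero_comp]
    refine hn.trans ?_
    rw [show (Scheme.Modules.pullback g ⋙ StalkModule.stalkModFunctor T t).map v = 0 by
      rw [Functor.comp_map, h]; exact ModuleCat.hom_ext (StalkModule.stalkMapₗ_zero t), comp_zero]
  · intro h
    refine StalkModule.hom_ext_stalkMapₗ fun t => ?_
    have hn := (DerivedOX.PullbackStalk.pullbackStalkIso g t).hom.naturality v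
    rw [Functor.comp_map, h t, zero_comp] at hn
    have h0 : (StalkModule.stalkModFunctor T t).map ((Scheme.Modules.pullback g).map v) = 0 := by
      rw [← cancel_epi ((DerivedOX.PullbackStalk.pullbackStalkIso g t).hom.app E), comp_zero]
      exact hn.symm
    rw [StalkModule.stalkMapₗ_zero]
    exact congrArg ModuleCat.Hom.hom h0

/-- The linear map on a stalk induced by a form on sections. -/
lemma exists_dual_germ {U : X.Opens} (hU : IsAffineOpen U) {p : X} (hp : p ∈ U)
    (φ : Γ(F, U) →ₗ[Γ(X, U)] Γ(X, U)) :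
    ∃ ψ : F.presheaf.stalk p →ₗ[X.presheaf.stalk p] X.presheaf.stalk p,
      ∀ m, ψ (F.presheaf.germ U p hp m) = X.presheaf.germ U p hp (φ m) := by
  let _ := StalkLoc.Basic.moduleSections F hp
  let _ := TopCat.Presheaf.algebra_section_stalk X.presheaf (⟨p, hp⟩ : U)
  have hst := StalkLoc.Basic.isScalarTower_sections F hp
  haveI : IsLocalizedModule (hU.primeIdealOf ⟨p, hp⟩).asIdeal.primeCompl
      (StalkLoc.Basic.germₗ F hp) := StalkLoc.Basic.isLocalizedModule_germ hU hp
  haveI hloc : IsLocalization.AtPrime (X.presheaf.stalk p) (hU.primeIdealOf ⟨p, hp⟩).asIdeal :=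
    hU.isLocalization_stalk ⟨p, hp⟩
  let l : Γ(F, U) →ₗ[Γ(X, U)] X.presheaf.stalk p := (Algebra.linearMap _ _).comp φ
  have hu : ∀ x : (hU.primeIdealOf ⟨p, hp⟩).asIdeal.primeCompl,
      IsUnit (algebraMap Γ(X, U) (Module.End Γ(X, U) (X.presheaf.stalk p)) x) := fun x => by
    rw [Module.End.isUnit_iff]
    have hb := (IsLocalization.map_units (X.presheaf.stalk p) x).smul_bijective
      (α := X.presheaf.stalk p) (β := X.presheaf.stalk p)
    refine ⟨fun a b e => hb.1 ?_, fun b => ?_⟩
    · simpa [Algebra.smul_def] using e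
    · obtain ⟨a, ha⟩ := hb.2 b
      exact ⟨a, by simpa [Algebra.smul_def] using ha⟩
  let ψ₀ := IsLocalizedModule.lift (hU.primeIdealOf ⟨p, hp⟩).asIdeal.primeCompl
    (StalkLoc.Basic.germₗ F hp) l hu
  refine ⟨LinearMap.extendScalarsOfIsLocalization
    (hU.primeIdealOf ⟨p, hp⟩).asIdeal.primeCompl _ ψ₀, fun m => ?_⟩
  exact IsLocalizedModule.lift_apply (hU.primeIdealOf ⟨p, hp⟩).asIdeal.primeCompl
    (StalkLoc.Basic.germₗ F hp) l hu m

include hF in
theorem le_ker_iff {T : Scheme.{u}} (g : T ⟶ X) :
    idealSheaf v hF ≤ g.ker ↔ (Scheme.Modules.pullback g).map v = 0 := by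
  rw [pullback_map_eq_zero_iff_stalk, Scheme.Hom.ker, Scheme.IdealSheafData.le_ofIdeals_iff]
  constructor
  · intro h t
    obtain ⟨U, hU, hp, -⟩ :=
      exists_isAffineOpen_mem_and_subset (U := ⊤) (x := g.base t) trivial
    obtain ⟨hfin, hproj⟩ := AffineSections.finite_projective_sections (M := F) hF hU
    let _ := (g.stalkMap t).hom.toAlgebra
    suffices key : ∀ (c : T.presheaf.stalk t) (z : E.presheaf.stalk (g.base t)),
        c ⊗ₜ[X.presheaf.stalk (g.base t)] (StalkModule.stalkMapₗ v (g.base t) z) = 0 by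
      refine ModuleCat.hom_ext (LinearMap.ext fun w => ?_)
      induction w using TensorProduct.induction_on with
      | zero => exact map_zero _
      | add x y hx hy =>
        exact (map_add _ x y).trans ((congrArg₂ (· + ·) hx hy).trans (add_zero _))
      | tmul c z => exact key c z
    intro c z
    obtain ⟨a, e, ha, he⟩ := QCoh.Stalk.exists_smul_eq_germ E hU hp z
    obtain ⟨k, p, s, -, -, hps⟩ := Module.Finite.exists_comp_eq_id_of_projective Γ(X, U) Γ(F, U)
    have hu : IsUnit (X.presheaf.germ U (g.base t) hp a) := (X.mem_basicOpen a _ hp).mp ha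
    have h0 : c ⊗ₜ[X.presheaf.stalk (g.base t)]
        (F.presheaf.germ U (g.base t) hp (v.app U e)) = 0 := by
      have hsum : v.app U e = ∑ i, s (v.app U e) i • p (Pi.single i 1) := by
        calc v.app U e = p (s (v.app U e)) := (LinearMap.congr_fun hps _).symm
          _ = p (∑ i, s (v.app U e) i • Pi.single i 1) := congrArg p (pi_eq_sum_univ' _)
          _ = _ := by rw [map_sum]; simp only [map_smul]
      rw [hsum, map_sum, TensorProduct.tmul_sum]
      refine Finset.sum_eq_zero fun i _ => ?_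
      rw [StalkModule.germ_smul, ← TensorProduct.smul_tmul]
      have hz : s (v.app U e) i ∈ RingHom.ker (g.app U).hom :=
        h ⟨U, hU⟩ (Ideal.subset_span ⟨(LinearMap.proj i).comp s, e, rfl⟩)
      have : X.presheaf.germ U (g.base t) hp (s (v.app U e) i) • c = 0 := by
        rw [Algebra.smul_def]
        refine mul_eq_zero_of_left ?_ _
        show (g.stalkMap t).hom _ = 0
        refine (Scheme.Hom.germ_stalkMap_apply g U t hp _).trans ?_
        rw [RingHom.mem_ker.mp hz, map_zero]
      rw [this, TensorProduct.zero_tmul]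
    rw [← StalkModule.stalkMapₗ_germ, ← he, map_smul, TensorProduct.tmul_smul] at h0
    rw [← algebraMap_smul (T.presheaf.stalk t)] at h0
    exact (hu.map (algebraMap _ _)).smul_eq_zero.mp h0
  · intro h U a ha
    refine (Ideal.span_le.mpr ?_) ha
    rintro _ ⟨φ, e, rfl⟩
    refine RingHom.mem_ker.mpr ?_
    refine TopCat.Presheaf.section_ext T.sheaf _ _ _ fun t ht => ?_
    refine Eq.trans ?_ (map_zero _).symm
    obtain ⟨ψ, hψ⟩ := exists_dual_germ U.2 ht φ
    let _ := (g.stalkMap t).hom.toAlgebra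
    have h0 : (1 : T.presheaf.stalk t) ⊗ₜ[X.presheaf.stalk (g.base t)]
        (StalkModule.stalkMapₗ v (g.base t) (E.presheaf.germ (U : X.Opens) (g.base t) ht e)) = 0 :=
      congr($(h t) ((1 : T.presheaf.stalk t) ⊗ₜ[X.presheaf.stalk (g.base t)]
        (E.presheaf.germ (U : X.Opens) (g.base t) ht e)))
    rw [StalkModule.stalkMapₗ_germ] at h0
    have h1 := congrArg (LinearMap.lTensor (T.presheaf.stalk t) ψ) h0
    rw [LinearMap.lTensor_tmul, map_zero, hψ] at h1
    have h2 := congrArg (TensorProduct.rid (X.presheaf.stalk (g.base t)) (T.presheaf.stalk t)) h1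
    rw [TensorProduct.rid_tmul, map_zero, Algebra.smul_def, mul_one] at h2
    exact (Scheme.Hom.germ_stalkMap_apply g (U : X.Opens) t ht (φ (v.app _ e))).symm.trans h2

include hF in
/-- The universal property of the vanishing locus. -/
theorem factors_iff {T : Scheme.{u}} (g : T ⟶ X) :
    (∃ h : T ⟶ (idealSheaf v hF).subscheme, h ≫ (idealSheaf v hF).subschemeι = g) ↔
      (Scheme.Modules.pullback g).map v = 0 := by
  rw [← le_ker_iff v hF g]
  constructor
  · rintro ⟨h, rfl⟩
    exact ((idealSheaf v hF).ker_subschemeι).ge.trans (Scheme.Hom.le_ker_comp _ _)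
  · intro hle
    exact ⟨IsClosedImmersion.lift (idealSheaf v hF).subschemeι g (by simpa using hle),
      IsClosedImmersion.lift_fac _ _ _⟩

end

end Groth.Agent.Lib.Modules.ZeroLocus
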