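import Groth.Agent.Lib.Modules.TensorSec
import Groth.Agent.Lib.DerivedOX.TensorSheaf
import Groth.Agent.Lib.CohBasics.Affine
import Groth.Agent.Lib.QCoh.Stalk
import Groth.Agent.Lib.TensorMod.TensorQCoh
import Mathlib.RingTheory.Localization.BaseChange

/-!
# Sections of a tensor product of quasi-coherent modules on an affine open
-/

set_option autoImplicit false
universe u

open CategoryTheory Limits AlgebraicGeometry Opposite TopologicalSpace
open scoped TensorProduct

namespace Groth.Agent.Lib.Modules.TensorAffine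

open Groth.Agent.Lib Groth.Agent.Lib.Modules

noncomputable section

variable {X : Scheme.{u}} {M N : X.Modules} {U : X.Opens}

lemma tensorStalk_germ_tens {x : X} (hx : x ∈ U) (m : Γ(M, U)) (n : Γ(N, U)) :
    DerivedOX.TensorSheaf.tensorStalk x M N
      ((CohB1.tensorMod M N).presheaf.germ U x hx (TensorSec.tens m n)) =
      M.presheaf.germ U x hx m ⊗ₜ[X.presheaf.stalk x] N.presheaf.germ U x hx n := by
  have h : (CohB1.tensorMod M N).presheaf.germ U x hx (TensorSec.tens m n) =
      DerivedOX.TensorSheaf.shStalkEquiv x _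
        (DerivedOX.TensorStalk.germ hx (DerivedOX.TensorStalk.tm
          (P := DCoh.toP.obj M) (Q := DCoh.toP.obj N) m n)) := by
    refine Eq.trans ?_ (DerivedOX.TensorStalk.stMap_germ _ hx _).symm
    rfl
  refine (congrArg _ h).trans ((DerivedOX.TensorSheaf.tensorStalk_shStalkEquiv x M N _).trans ?_)
  rw [DerivedOX.TensorStalk.tensorStalkEquiv_germ_tm]
  rfl

/-- `Γ(M, U) ⊗ Γ(N, U) → Γ(M ⊗ N, U)`. -/
def gamma (M N : X.Modules) (U : X.Opens) :
    Γ(M, U) ⊗[Γ(X, U)] Γ(N, U) →ₗ[Γ(X, U)] Γ(CohB1.tensorMod M N, U) :=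
  TensorProduct.lift (LinearMap.mk₂ Γ(X, U) (fun m n => TensorSec.tens m n)
    (fun m m' n => TensorSec.tens_add_left m m' n) (fun r m n => TensorSec.tens_smul_left r m n)
    (fun m n n' => TensorSec.tens_add_right m n n') fun r m n => TensorSec.tens_smul_right r m n)

lemma gamma_tmul (m : Γ(M, U)) (n : Γ(N, U)) : gamma M N U (m ⊗ₜ n) = TensorSec.tens m n := rfl

variable [M.IsQuasicoherent] [N.IsQuasicoherent]

/-- The germ of `gamma` is a localisation. -/
lemma germ_gamma (hU : IsAffineOpen U) {x : X} (hx : x ∈ U) :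
    (∀ z, (CohB1.tensorMod M N).presheaf.germ U x hx (gamma M N U z) = 0 →
      ∃ f : Γ(X, U), x ∈ X.basicOpen f ∧ f • z = 0) ∧
    ∀ v, ∃ (f : Γ(X, U)) (z : Γ(M, U) ⊗[Γ(X, U)] Γ(N, U)), x ∈ X.basicOpen f ∧
      X.presheaf.germ U x hx f • v =
        (CohB1.tensorMod M N).presheaf.germ U x hx (gamma M N U z) := by
  letI := StalkLoc.Basic.moduleSections M hx
  letI := StalkLoc.Basic.moduleSections N hx
  letI := TopCat.Presheaf.algebra_section_stalk X.presheaf (⟨x, hx⟩ : U)
  haveI := StalkLoc.Basic.isScalarTower_sections M hx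
  haveI := StalkLoc.Basic.isScalarTower_sections N hx
  haveI := hU.isLocalization_stalk ⟨x, hx⟩
  haveI := StalkLoc.Basic.isLocalizedModule_germ (M := M) hU hx
  haveI := StalkLoc.Basic.isLocalizedModule_germ (M := N) hU hx
  set S := (hU.primeIdealOf ⟨x, hx⟩).asIdeal.primeCompl with hS
  let μ := TensorProduct.map (StalkLoc.Basic.germₗ M hx) (StalkLoc.Basic.germₗ N hx)
  let c := IsLocalization.moduleTensorEquiv S (X.presheaf.stalk x) (M.presheaf.stalk x)
    (N.presheaf.stalk x)
  let e : (CohB1.tensorMod M N).presheaf.stalk x ≃ₗ[X.presheaf.stalk x]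
      M.presheaf.stalk x ⊗[X.presheaf.stalk x] N.presheaf.stalk x :=
    DerivedOX.TensorSheaf.tensorStalk x M N
  have key : ∀ z, e ((CohB1.tensorMod M N).presheaf.germ U x hx (gamma M N U z)) = c.symm (μ z) := by
    intro z
    induction z using TensorProduct.induction_on with
    | zero => simp only [map_zero]
    | tmul m n => exact tensorStalk_germ_tens hx m n
    | add a b ha hb => simp only [map_add, ha, hb]
  refine ⟨fun z hz => ?_, fun v => ?_⟩
  · have h0 : μ z = 0 := c.symm.injective (by rw [map_zero, ← key z, hz]; exact map_zero e)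
    obtain ⟨s, hs⟩ := (IsLocalizedModule.eq_zero_iff S μ).mp h0
    exact ⟨s.1, (QCoh.Stalk.mem_primeIdealOf_compl_iff hU hx s.1).mp s.2, hs⟩
  · obtain ⟨⟨z, s⟩, hz⟩ := IsLocalizedModule.surj S μ (c (e v))
    refine ⟨s.1, z, (QCoh.Stalk.mem_primeIdealOf_compl_iff hU hx s.1).mp s.2, e.injective ?_⟩
    have hs : μ z = X.presheaf.germ U x hx s.1 • c (e v) := hz.symm.trans
      (algebraMap_smul (X.presheaf.stalk x) s.1 (c (e v))).symm
    rw [key, hs, LinearEquiv.map_smul, LinearEquiv.map_smul, LinearEquiv.symm_apply_apply]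

/-- On affine opens the sections of a tensor product are the tensor product of the sections. -/
theorem bijective_gamma (hU : IsAffineOpen U) : Function.Bijective (gamma M N U) := by
  haveI := TensorMod.TensorQCoh.isQCoh_tensorMod M N
  constructor
  · rw [injective_iff_map_eq_zero]
    intro z hz
    let I : Ideal Γ(X, U) := Submodule.comap
        (LinearMap.toSpanSingleton Γ(X, U) (Γ(M, U) ⊗[Γ(X, U)] Γ(N, U)) z) ⊥
    have h1 : (1 : Γ(X, U)) ∈ I := by
      rw [CohBasics.Affine.ideal_eq_top hU I fun x hx => ?_]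
      · trivial
      · obtain ⟨f, hf, hfz⟩ := (germ_gamma hU hx).1 z (by rw [hz, map_zero])
        exact ⟨f, (Submodule.mem_bot Γ(X, U)).mpr hfz, hf⟩
    simpa [I] using h1
  · intro t
    let I : Ideal Γ(X, U) := Submodule.comap
        (LinearMap.toSpanSingleton Γ(X, U) Γ(CohB1.tensorMod M N, U) t)
        (LinearMap.range (gamma M N U))
    have h1 : (1 : Γ(X, U)) ∈ I := by
      rw [CohBasics.Affine.ideal_eq_top hU I fun x hx => ?_]
      · trivial
      · obtain ⟨f, z, hf, e⟩ := (germ_gamma hU hx).2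
          ((CohB1.tensorMod M N).presheaf.germ U x hx t)
        rw [← StalkModule.germ_smul, ← sub_eq_zero, ← map_sub] at e
        obtain ⟨g, hg, hgz⟩ := (QCoh.Stalk.germ_eq_zero_iff _ hU hx _).mp e
        rw [smul_sub, sub_eq_zero, smul_smul] at hgz
        refine ⟨g * f, ⟨g • z, ?_⟩, by rw [Scheme.basicOpen_mul]; exact ⟨hg, hf⟩⟩
        rw [map_smul, ← hgz]
        rfl
    simpa [I] using h1

end

end Groth.Agent.Lib.Modules.TensorAffine
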