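import Groth.Agent.Lib.Modules.SubStalk
import Groth.Agent.Lib.Modules.StalkRestrict
import Mathlib.AlgebraicGeometry.Morphisms.QuasiCompact
import Mathlib.SetTheory.Cardinal.Order

/-!
# Extending quasi-coherent submodules of finite type

A submodule of finite type of `F|_U` extends to one of `F` when `U` has quasi-compact inclusion and
`X` has a well-ordered affine cover with quasi-compact intersections with the initial unions.
-/

set_option autoImplicit false
universe u v

open CategoryTheory Limits AlgebraicGeometry Opposite TopologicalSpace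

namespace Groth.Agent.Lib.Modules.ExtendFT

open Groth.Agent.Lib Groth.Agent.Lib.Modules.SubStalk

noncomputable section

variable {X : Scheme.{u}} {F : X.Modules}

/-- One step: generators on the affine open `V` of a family defined on `W ≤ V`, `W` quasi-compact. -/
theorem exists_gens [F.IsQuasicoherent] {S : Family F} {V W : X.Opens} (hV : IsAffineOpen V)
    (hWV : W ≤ V) (hW : IsCompact (W : Set X)) (hS : IsLocFG S W) :
    ∃ (n : ℕ) (s : Fin n → Γ(F, V)), ∀ (y : X) (hy : y ∈ V), y ∈ W →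
      S y = Submodule.span (X.presheaf.stalk y) (Set.range fun i => F.presheaf.germ V y hy (s i)) := by
  classical
  -- quasi-compactness upgrades local membership to global membership
  have key : ∀ (f : Γ(X, V)) (t : Γ(F, V)),
      (∀ (y : X) (hy : y ∈ V), y ∈ W → y ∈ X.basicOpen f → F.presheaf.germ V y hy t ∈ S y) →
      ∃ m : ℕ, ∀ (y : X) (hy : y ∈ V), y ∈ W → F.presheaf.germ V y hy (f ^ m • t) ∈ S y := by
    intro f t ht
    choose A hA hxA hAW n s hs using fun x : W => hS x.1 x.2
    obtain ⟨K, hK⟩ := hW.elim_finite_subcover (fun x : W => (A x : Set X)) (fun x => (A x).2)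
      fun y hy => Set.mem_iUnion.mpr ⟨⟨y, hy⟩, hxA ⟨y, hy⟩⟩
    have loc : ∀ x : W, ∃ m : ℕ, ∀ (y : X) (hy : y ∈ A x),
        F.presheaf.germ (A x) y hy
          (QCoh.Localizing.res F ((hAW x).trans hWV) (f ^ m • t)) ∈ S y := by
      intro x
      obtain ⟨m, hm⟩ := exists_pow_smul_mem (hA x) (secs S (A x))
        (QCoh.Localizing.res F ((hAW x).trans hWV) t)
        (QCoh.Localizing.resR ((hAW x).trans hWV) f) fun y hy hyf => by
          have h1 : F.presheaf.germ (A x) y hy (QCoh.Localizing.res F ((hAW x).trans hWV) t) ∈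
              S y := by
            erw [TopCat.Presheaf.germ_res_apply]
            exact ht y _ (hAW x hy) (QCoh.Localizing.basicOpen_le_of_resR _ f hyf)
          refine Submodule.span_mono ?_ (hs x y hy ▸ h1)
          rintro _ ⟨i, rfl⟩
          refine ⟨s x i, fun z hz => ?_, rfl⟩
          rw [hs x z hz]
          exact Submodule.subset_span ⟨i, rfl⟩
      refine ⟨m, fun y hy => ?_⟩
      rw [QCoh.Localizing.res_smul, map_pow]
      exact hm y hy
    choose m hm using loc
    refine ⟨K.sup m, fun y hy hyW => ?_⟩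
    obtain ⟨x, hxK, hyx⟩ := Set.mem_iUnion₂.mp (hK hyW)
    obtain ⟨d, hd⟩ := Nat.exists_eq_add_of_le (Finset.le_sup (f := m) hxK)
    rw [hd, pow_add, mul_comm, mul_smul, Modules.StalkModule.germ_smul]
    refine Submodule.smul_mem _ _ ?_
    have := hm x y hyx
    erw [TopCat.Presheaf.germ_res_apply] at this
    exact this
  have loc : ∀ x : W, ∃ f : Γ(X, V), x.1 ∈ X.basicOpen f ∧ ∃ T : Finset Γ(F, V),
      (∀ t ∈ T, ∀ (y : X) (hy : y ∈ V), y ∈ W → F.presheaf.germ V y hy t ∈ S y) ∧
      ∀ (y : X) (hy : y ∈ V), y ∈ X.basicOpen f →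
        S y ≤ Submodule.span (X.presheaf.stalk y)
          (F.presheaf.germ V y hy '' (T : Set Γ(F, V))) := by
    rintro ⟨x, hx⟩
    obtain ⟨A, hA, hxA, hAW, n, a, ha⟩ := hS x hx
    obtain ⟨f, hfA, hxf⟩ := hV.exists_basicOpen_le (⟨x, hxA⟩ : A) (hWV hx)
    choose k t ht using fun i => (QCoh.Localizing.localizes_of_isAffineOpen F hV f).ext'
      (QCoh.Localizing.res F hfA (a i))
    have germ_t : ∀ i (y : X) (hy : y ∈ V) (hyf : y ∈ X.basicOpen f),
        F.presheaf.germ V y hy (t i) =
          X.presheaf.germ V y hy f ^ k i • F.presheaf.germ A y (hfA hyf) (a i) := by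
      intro i y hy hyf
      rw [← TopCat.Presheaf.germ_res_apply F.presheaf (homOfLE (X.basicOpen_le f)) y hyf (t i)]
      erw [ht i]
      rw [Modules.StalkModule.germ_smul, map_pow]
      congr 1
      · congr 1
        exact TopCat.Presheaf.germ_res_apply _ _ _ hyf f
      · exact TopCat.Presheaf.germ_res_apply _ _ _ hyf _
    choose m hm using fun i => key f (t i) fun y hy _ hyf => by
      rw [germ_t i y hy hyf]
      refine Submodule.smul_mem _ _ ?_
      rw [ha y (hfA hyf)]
      exact Submodule.subset_span ⟨i, rfl⟩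
    refine ⟨f, hxf, Finset.univ.image fun i => f ^ m i • t i, ?_, fun y hy hyf => ?_⟩
    · intro t' ht' y hy hyW
      obtain ⟨i, -, rfl⟩ := Finset.mem_image.mp ht'
      exact hm i y hy hyW
    · rw [ha y (hfA hyf), Submodule.span_le]
      rintro _ ⟨i, rfl⟩
      have hu : IsUnit (X.presheaf.germ V y hy f ^ m i * X.presheaf.germ V y hy f ^ k i) :=
        (((X.mem_basicOpen f y hy).mp hyf).pow _).mul (((X.mem_basicOpen f y hy).mp hyf).pow _)
      refine (Submodule.smul_mem_iff_of_isUnit _ hu).mp ?_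
      refine Submodule.subset_span ⟨f ^ m i • t i, by simp, ?_⟩
      rw [Modules.StalkModule.germ_smul, map_pow, germ_t i y hy hyf, smul_smul]
  choose f hf T hT hT' using loc
  obtain ⟨K, hK⟩ := hW.elim_finite_subcover (fun x : W => (X.basicOpen (f x) : Set X))
    (fun x => (X.basicOpen (f x)).2) fun y hy => Set.mem_iUnion.mpr ⟨⟨y, hy⟩, hf ⟨y, hy⟩⟩
  let G := K.biUnion T
  refine ⟨G.card, fun i => (G.equivFin.symm i).1, fun y hy hyW => le_antisymm ?_ ?_⟩
  · obtain ⟨x, hxK, hyx⟩ := Set.mem_iUnion₂.mp (hK hyW)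
    refine (hT' x y hy hyx).trans (Submodule.span_mono ?_)
    rintro _ ⟨t, ht, rfl⟩
    exact ⟨G.equivFin ⟨t, Finset.mem_biUnion.mpr ⟨x, hxK, ht⟩⟩,
      by simp⟩
  · rw [Submodule.span_le]
    rintro _ ⟨i, rfl⟩
    obtain ⟨x, -, hx⟩ := Finset.mem_biUnion.mp (G.equivFin.symm i).2
    exact hT x _ hx y hy hyW

section Recursion

variable {L : Type v} [LinearOrder L] [WellFoundedLT L] (V : L → X.Opens) (U : X.Opens)
  (S₀ : Family F)

open scoped Classical in
/-- The family to extend from at stage `l`, given the stages before. -/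
def prev (l : L) (G : ∀ m, m < l → Family F) : Family F := fun x =>
  if x ∈ U then S₀ x
  else if h : {m : L | m < l ∧ x ∈ V m}.Nonempty then
    G (wellFounded_lt.min _ h) (wellFounded_lt.min_mem _ h).1 x
  else ⊥

open scoped Classical in
/-- A choice of generators on `V l`. -/
def chosen (l : L) (S : Family F) (W : X.Opens) : Σ n, Fin n → Γ(F, V l) :=
  if h : ∃ (n : ℕ) (s : Fin n → Γ(F, V l)), ∀ (y : X) (hy : y ∈ V l), y ∈ W →
      S y = Submodule.span (X.presheaf.stalk y)
        (Set.range fun i => F.presheaf.germ (V l) y hy (s i))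
  then ⟨h.choose, h.choose_spec.choose⟩ else ⟨0, Fin.elim0⟩

/-- The open on which the stages before `l` are defined, cut with `V l`. -/
def overlap (l : L) : X.Opens := V l ⊓ (U ⊔ ⨆ m : Set.Iio l, V m.1)

open scoped Classical in
/-- One stage. -/
def stepFamily (l : L) (G : ∀ m, m < l → Family F) : Family F := fun y =>
  if hy : y ∈ V l then
    Submodule.span (X.presheaf.stalk y) (Set.range fun i => F.presheaf.germ (V l) y hy
      ((chosen V l (prev V U S₀ l G) (overlap V U l)).2 i))
  else ⊥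

/-- The stages. -/
def stage : L → Family F := wellFounded_lt.fix (stepFamily V U S₀)

lemma stage_eq (l : L) : stage V U S₀ l = stepFamily V U S₀ l fun m _ => stage V U S₀ m :=
  wellFounded_lt.fix_eq _ l

open scoped Classical in
/-- The extended family. -/
def total : Family F := fun x =>
  if x ∈ U then S₀ x
  else if h : {m : L | x ∈ V m}.Nonempty then stage V U S₀ (wellFounded_lt.min _ h) x
  else ⊥

lemma total_of_mem {x : X} (hx : x ∈ U) : total V U S₀ x = S₀ x := if_pos hx

lemma prev_eq_total {l : L} {x : X} (hx : x ∈ U ⊔ ⨆ m : Set.Iio l, V m.1) :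
    prev V U S₀ l (fun m _ => stage V U S₀ m) x = total V U S₀ x := by
  classical
  by_cases hU : x ∈ U
  · simp only [prev, total, if_pos hU]
  · obtain ⟨⟨m, hm⟩, hxm⟩ := Opens.mem_iSup.mp (hx.resolve_left hU)
    have h1 : {m : L | m < l ∧ x ∈ V m}.Nonempty := ⟨m, hm, hxm⟩
    have h2 : {m : L | x ∈ V m}.Nonempty := ⟨m, hxm⟩
    simp only [prev, total, if_neg hU, dif_pos h1, dif_pos h2]
    congr 1
    refine le_antisymm (le_of_not_gt ?_) (le_of_not_gt ?_)
    · exact wellFounded_lt.not_lt_min {m : L | m < l ∧ x ∈ V m}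
        ⟨(le_of_not_gt (wellFounded_lt.not_lt_min {m : L | x ∈ V m} hxm)).trans_lt hm,
          wellFounded_lt.min_mem _ h2⟩
    · exact wellFounded_lt.not_lt_min {m : L | x ∈ V m} (wellFounded_lt.min_mem _ h1).2

variable [F.IsQuasicoherent] (hV : ∀ l, IsAffineOpen (V l))
  (hW : ∀ l, IsCompact (overlap V U l : Set X)) (hS₀ : IsLocFG S₀ U)

include hV hW hS₀ in
lemma isLocFG_total_stage (l : L) : IsLocFG (total V U S₀) (V l) := by
  classical
  induction l using WellFoundedLT.induction with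
  | _ l ih =>
    have hprev : IsLocFG (prev V U S₀ l fun m _ => stage V U S₀ m) (overlap V U l) := by
      refine IsLocFG.mono (W := U ⊔ ⨆ m : Set.Iio l, V m.1) ?_ inf_le_right
      refine IsLocFG.congr ?_ fun y hy => prev_eq_total V U S₀ hy
      exact isLocFG_sup (hS₀.congr fun y hy => total_of_mem V U S₀ hy)
        (isLocFG_iSup _ fun m => ih m.1 m.2)
    have hex : ∃ (n : ℕ) (s : Fin n → Γ(F, V l)), ∀ (y : X) (hy : y ∈ V l), y ∈ overlap V U l →
        prev V U S₀ l (fun m _ => stage V U S₀ m) y = Submodule.span (X.presheaf.stalk y)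
          (Set.range fun i => F.presheaf.germ (V l) y hy (s i)) :=
      exists_gens (hV l) inf_le_left (hW l) hprev
    refine IsLocFG.of_affine (hV l)
      (chosen V l (prev V U S₀ l fun m _ => stage V U S₀ m) (overlap V U l)).2 fun y hy => ?_
    have hspec : ∀ hyW : y ∈ overlap V U l,
        prev V U S₀ l (fun m _ => stage V U S₀ m) y = Submodule.span (X.presheaf.stalk y)
          (Set.range fun i => F.presheaf.germ (V l) y hy
            ((chosen V l (prev V U S₀ l fun m _ => stage V U S₀ m) (overlap V U l)).2 i)) := by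
      intro hyW
      unfold chosen
      rw [dif_pos hex]
      exact hex.choose_spec.choose_spec y hy hyW
    by_cases hcase : y ∈ U ⊔ ⨆ m : Set.Iio l, V m.1
    · rw [← prev_eq_total V U S₀ hcase]
      exact hspec ⟨hy, hcase⟩
    · have hU : y ∉ U := fun h => hcase (Or.inl h)
      have h2 : {m : L | y ∈ V m}.Nonempty := ⟨l, hy⟩
      have hmin : wellFounded_lt.min {m : L | y ∈ V m} h2 = l := by
        refine le_antisymm (le_of_not_gt (wellFounded_lt.not_lt_min {m : L | y ∈ V m} hy)) ?_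
        refine le_of_not_gt fun hlt => hcase (Or.inr (Opens.mem_iSup.mpr ⟨⟨_, hlt⟩, ?_⟩))
        exact wellFounded_lt.min_mem {m : L | y ∈ V m} h2
      simp only [total, if_neg hU, dif_pos h2, hmin]
      rw [stage_eq]
      simp only [stepFamily, dif_pos hy]

include hV hW hS₀ in
theorem isLocFG_total (hcov : ⨆ l, V l = ⊤) : IsLocFG (total V U S₀) ⊤ := by
  rw [← hcov]
  exact isLocFG_iSup _ (isLocFG_total_stage V U S₀ hV hW hS₀)

end Recursion

section Subsheaf

variable {U : X.Opens} {G : (U : Scheme.{u}).Modules} (i : G ⟶ F.restrict U.ι)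

/-- The family of a subsheaf of `F|_U`. -/
def famOf : Family F := fun x => Submodule.span (X.presheaf.stalk x)
  {v | ∃ (W : (U : Scheme.{u}).Opens) (g : Γ(G, W)) (h : x ∈ U.ι ''ᵁ W),
    v = F.presheaf.germ (U.ι ''ᵁ W) x h (i.app W g)}

lemma mem_famOf {W : (U : Scheme.{u}).Opens} (g : Γ(G, W)) {x : X} (h : x ∈ U.ι ''ᵁ W) :
    F.presheaf.germ (U.ι ''ᵁ W) x h (i.app W g) ∈ famOf i x :=
  Submodule.subset_span ⟨W, g, h, rfl⟩

lemma stalk_equiv_map (y : (U : Scheme.{u})) {W : (U : Scheme.{u}).Opens} (g : Γ(G, W))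
    (hy : y ∈ W) :
    Modules.StalkRestrict.restrictStalkAddEquiv U.ι F y
        (Modules.StalkModule.stalkMapₗ i y (G.presheaf.germ W y hy g)) =
      F.presheaf.germ (U.ι ''ᵁ W) (U.ι y) (by simpa) (i.app W g) := by
  rw [Modules.StalkModule.stalkMapₗ_germ]
  exact Modules.StalkRestrict.restrictStalkAddEquiv_germ U.ι F hy _

lemma famOf_eq_image (y : (U : Scheme.{u})) :
    (famOf i (U.ι y) : Set (F.presheaf.stalk (U.ι y))) =
      Modules.StalkRestrict.restrictStalkAddEquiv U.ι F y ''
        (LinearMap.range (Modules.StalkModule.stalkMapₗ i y) : Set _) := by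
  rw [← Submodule.span_eq (LinearMap.range (Modules.StalkModule.stalkMapₗ i y)),
    ← Modules.StalkRestrict.span_image_restrictStalkAddEquiv U.ι F y]
  refine congrArg _ (congrArg _ (Set.ext fun v => ⟨?_, ?_⟩))
  · rintro ⟨W, g, h, rfl⟩
    obtain ⟨y', hy', e⟩ := id h
    have hy : y ∈ W := U.ι.isOpenEmbedding.injective e ▸ hy'
    exact ⟨_, ⟨G.presheaf.germ W y hy g, rfl⟩, stalk_equiv_map i y g hy⟩
  · rintro ⟨_, ⟨w, rfl⟩, rfl⟩
    obtain ⟨W, hy, g, rfl⟩ := TopCat.Presheaf.exists_germ_eq G.presheaf w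
    exact ⟨W, g, _, stalk_equiv_map i y g hy⟩

lemma isLocFG_famOf (hG : CohB1.IsFT G) : IsLocFG (famOf i) U := by
  intro x hx
  obtain ⟨W, hxW, n, s, hs⟩ :=
    @Modules.GenStalk.exists_span_stalk_of_isFiniteType _ G hG (⟨x, hx⟩ : U)
  obtain ⟨A, hA, hxA, hAW⟩ := exists_isAffineOpen_mem_and_subset (U := U.ι ''ᵁ W) (x := x)
    ⟨⟨x, hx⟩, hxW, rfl⟩
  have hAW' : A ≤ U.ι ''ᵁ W := hAW
  refine ⟨A, hA, hxA, hAW'.trans ((U.ι.image_mono le_top).trans_eq U.ι_image_top), n,
    fun k => F.presheaf.map (homOfLE hAW').op (i.app W (s k)), fun y hy => ?_⟩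
  rw [span_germ_res]
  obtain ⟨z, hz, rfl⟩ := hAW' hy
  refine SetLike.coe_injective ?_
  refine (famOf_eq_image i z).trans ?_
  have hr : LinearMap.range (Modules.StalkModule.stalkMapₗ i z) =
      Submodule.span _ (Set.range fun k =>
        Modules.StalkModule.stalkMapₗ i z (G.presheaf.germ W z hz (s k))) := by
    rw [LinearMap.range_eq_map, ← hs z hz, Submodule.map_span, ← Set.range_comp]
    rfl
  rw [hr, ← Modules.StalkRestrict.span_image_restrictStalkAddEquiv U.ι F z, ← Set.range_comp]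
  refine congrArg SetLike.coe (congrArg _ (congrArg _ (funext fun k => ?_)))
  exact stalk_equiv_map i z (s k) hz

variable [Mono i] {S : Family F}

/-- A family agreeing with that of `i` restricts to `G`. -/
theorem exists_restrict_iso (hSU : ∀ x ∈ U, S x = famOf i x) :
    ∃ e : (subMod S).restrict U.ι ≅ G,
      e.hom ≫ i = (Scheme.Modules.restrictFunctor U.ι).map (ι S) := by
  let j := (Scheme.Modules.restrictFunctor U.ι).map (ι S)
  haveI : Mono j := inferInstance
  have hmem : ∀ {W : (U : Scheme.{u}).Opens} (g : Γ(G, W)),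
      i.app W g ∈ secs S (U.ι ''ᵁ W) := fun {W} g x hx => by
    obtain ⟨z, hz, rfl⟩ := hx
    exact (hSU (U.ι z) z.2).symm ▸ mem_famOf i g _
  have h1 : i ≫ cokernel.π j = 0 := by
    refine Scheme.Modules.hom_ext _ _ fun W => ConcreteCategory.ext_apply fun g => ?_
    obtain ⟨a, ha⟩ := exists_ι_app (hmem g)
    show (cokernel.π j).app W (i.app W g) = 0
    rw [← ha]
    exact congr(($(cokernel.condition j)).app W a)
  have hj : ∀ z, LinearMap.range (Modules.StalkModule.stalkMapₗ j z) ≤
      LinearMap.range (Modules.StalkModule.stalkMapₗ i z) := by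
    rintro z _ ⟨w, rfl⟩
    obtain ⟨W, hz, a, rfl⟩ :=
      TopCat.Presheaf.exists_germ_eq ((subMod S).restrict U.ι).presheaf w
    have hx : F.presheaf.germ (U.ι ''ᵁ W) (U.ι z) (by simpa) ((ι S).app (U.ι ''ᵁ W) a) ∈
        famOf i (U.ι z) := hSU _ z.2 ▸ ι_app_mem S _ a _ _
    obtain ⟨w', hw', e⟩ := (Set.ext_iff.mp (famOf_eq_image i z) _).mp hx
    refine Eq.mpr (congrArg (· ∈ LinearMap.range (Modules.StalkModule.stalkMapₗ i z)) ?_) hw'
    refine (Modules.StalkRestrict.restrictStalkAddEquiv U.ι F z).injective ?_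
    rw [e, Modules.StalkModule.stalkMapₗ_germ]
    exact Modules.StalkRestrict.restrictStalkAddEquiv_germ U.ι F hz _
  have h2 : j ≫ cokernel.π i = 0 := by
    refine Modules.StalkModule.hom_ext_stalkMapₗ fun z => LinearMap.ext fun w => ?_
    obtain ⟨v, hv⟩ := hj z ⟨w, rfl⟩
    rw [Modules.StalkModule.stalkMapₗ_comp, LinearMap.comp_apply, ← hv, ← LinearMap.comp_apply,
      ← Modules.StalkModule.stalkMapₗ_comp, cokernel.condition]
    simp
  refine ⟨⟨Abelian.monoLift i j h2, Abelian.monoLift j i h1, ?_, ?_⟩, Abelian.monoLift_comp i j h2⟩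
  · rw [← cancel_mono j, Category.assoc, Abelian.monoLift_comp, Abelian.monoLift_comp,
      Category.id_comp]
  · rw [← cancel_mono i, Category.assoc, Abelian.monoLift_comp, Abelian.monoLift_comp,
      Category.id_comp]

end Subsheaf

/-- The extension theorem for a well-ordered affine cover. -/
theorem exists_extension [F.IsQuasicoherent] {L : Type v} [LinearOrder L] [WellFoundedLT L]
    (V : L → X.Opens) (hV : ∀ l, IsAffineOpen (V l)) (hcov : ⨆ l, V l = ⊤)
    (U : X.Opens) (hW : ∀ l, IsCompact (overlap V U l : Set X))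
    (G : (U : Scheme.{u}).Modules) (i : G ⟶ F.restrict U.ι) [Mono i] (hG : CohB1.IsFT G) :
    ∃ (G' : X.Modules) (i' : G' ⟶ F) (e : G'.restrict U.ι ≅ G), Mono i' ∧ G'.IsQuasicoherent ∧
      CohB1.IsFT G' ∧ e.hom ≫ i = (Scheme.Modules.restrictFunctor U.ι).map i' := by
  have h := isLocFG_total V U (famOf i) hV hW (isLocFG_famOf i hG) hcov
  obtain ⟨e, he⟩ :=
    exists_restrict_iso i (S := total V U (famOf i)) fun x hx => total_of_mem V U (famOf i) hx
  exact ⟨_, ι _, e, inferInstance, isQCoh_subMod h, isFT_subMod h, he⟩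

/-- The affine opens, as a type without an order. -/
structure AffIdx (X : Scheme.{u}) where
  /-- the open -/
  toOpens : X.Opens
  isAffine : IsAffineOpen toOpens

/-- With all affine opens, well-ordered, when every open meets affine opens quasi-compactly. -/
theorem exists_extension_of_noetherian [F.IsQuasicoherent]
    (hX : ∀ x : X, ∃ U : X.Opens, x ∈ U ∧ NoetherianSpace (U : Set X)) (U : X.Opens)
    (G : (U : Scheme.{u}).Modules) (i : G ⟶ F.restrict U.ι) [Mono i] (hG : CohB1.IsFT G) :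
    ∃ (G' : X.Modules) (i' : G' ⟶ F) (e : G'.restrict U.ι ≅ G), Mono i' ∧ G'.IsQuasicoherent ∧
      CohB1.IsFT G' ∧ e.hom ≫ i = (Scheme.Modules.restrictFunctor U.ι).map i' := by
  obtain ⟨lo, wf⟩ := exists_wellFoundedLT (α := AffIdx X)
  letI := lo
  haveI := wf
  refine exists_extension (fun l : AffIdx X => l.toOpens) (fun l => l.isAffine)
    (eq_top_iff.mpr fun x _ => ?_) U (fun l => ?_) G i hG
  · obtain ⟨W, hW, hx, -⟩ := exists_isAffineOpen_mem_and_subset (U := ⊤) (x := x) trivial
    exact Opens.mem_iSup.mpr ⟨⟨W, hW⟩, hx⟩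
  · obtain ⟨s, hs⟩ := l.isAffine.isCompact.elim_finite_subcover (fun x : X => ((hX x).choose : Set X))
      (fun x => (hX x).choose.2) fun y _ => Set.mem_iUnion.mpr ⟨y, (hX y).choose_spec.1⟩
    have : NoetherianSpace (⋃ x : ↥s, ((hX x.1).choose : Set X)) :=
      @TopologicalSpace.NoetherianSpace.iUnion _ _ _ _ _ fun x => (hX x.1).choose_spec.2
    refine (noetherianSpace_set_iff _).mp this _ ?_
    intro y hy
    obtain ⟨x, hxs, hyx⟩ := Set.mem_iUnion₂.mp (hs hy.1)
    exact Set.mem_iUnion.mpr ⟨⟨x, hxs⟩, hyx⟩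

/-- Any open meets an affine open in a quasi-compact open. -/
theorem isCompact_of_le_affine
    (hX : ∀ x : X, ∃ U : X.Opens, x ∈ U ∧ NoetherianSpace (U : Set X)) {A : X.Opens}
    (hA : IsAffineOpen A) {s : Set X} (hs : s ⊆ A) : IsCompact s := by
  obtain ⟨K, hK⟩ := hA.isCompact.elim_finite_subcover (fun x : X => ((hX x).choose : Set X))
    (fun x => (hX x).choose.2) fun y _ => Set.mem_iUnion.mpr ⟨y, (hX y).choose_spec.1⟩
  have : NoetherianSpace (⋃ x : ↥K, ((hX x.1).choose : Set X)) :=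
    @TopologicalSpace.NoetherianSpace.iUnion _ _ _ _ _ fun x => (hX x.1).choose_spec.2
  refine (noetherianSpace_set_iff _).mp this _ fun y hy => ?_
  obtain ⟨x, hxK, hyx⟩ := Set.mem_iUnion₂.mp (hK (hs hy))
  exact Set.mem_iUnion.mpr ⟨⟨x, hxK⟩, hyx⟩

/-- A section over an affine open is a section of a submodule of finite type. -/
theorem exists_through_section [F.IsQuasicoherent]
    (hX : ∀ x : X, ∃ U : X.Opens, x ∈ U ∧ NoetherianSpace (U : Set X)) {U : X.Opens}
    (hU : IsAffineOpen U) (t : Γ(F, U)) :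
    ∃ (G' : X.Modules) (i' : G' ⟶ F), Mono i' ∧ G'.IsQuasicoherent ∧ CohB1.IsFT G' ∧
      ∃ g : Γ(G', U), i'.app U g = t := by
  classical
  letI : LinearOrder (AffIdx X) := (exists_wellFoundedLT (α := AffIdx X)).choose
  haveI : WellFoundedLT (AffIdx X) := (exists_wellFoundedLT (α := AffIdx X)).choose_spec
  let S₀ : Family F := fun x =>
    if hx : x ∈ U then Submodule.span _ (Set.range fun _ : Fin 1 => F.presheaf.germ U x hx t) else ⊥
  have hcov : ⨆ l : AffIdx X, l.toOpens = ⊤ := eq_top_iff.mpr fun x _ => by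
    obtain ⟨W, hW, hx, -⟩ := exists_isAffineOpen_mem_and_subset (U := ⊤) (x := x) trivial
    exact Opens.mem_iSup.mpr ⟨⟨W, hW⟩, hx⟩
  have h := isLocFG_total (fun l : AffIdx X => l.toOpens) U S₀ (fun l => l.isAffine)
    (fun l => isCompact_of_le_affine hX l.isAffine inf_le_left)
    (IsLocFG.of_affine hU (fun _ => t) fun y hy => dif_pos hy) hcov
  refine ⟨_, ι _, inferInstance, isQCoh_subMod h, isFT_subMod h, exists_ι_app fun y hy => ?_⟩
  rw [total_of_mem _ _ _ hy]
  simp only [S₀, dif_pos hy]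
  exact Submodule.subset_span ⟨0, rfl⟩

/-- On a quasi-compact quasi-separated scheme. -/
theorem exists_extension_of_qcqs [F.IsQuasicoherent] [CompactSpace X] [QuasiSeparatedSpace X]
    (U : X.Opens) (hU : IsCompact (U : Set X))
    (G : (U : Scheme.{u}).Modules) (i : G ⟶ F.restrict U.ι) [Mono i] (hG : CohB1.IsFT G) :
    ∃ (G' : X.Modules) (i' : G' ⟶ F) (e : G'.restrict U.ι ≅ G), Mono i' ∧ G'.IsQuasicoherent ∧
      CohB1.IsFT G' ∧ e.hom ≫ i = (Scheme.Modules.restrictFunctor U.ι).map i' := by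
  obtain ⟨s, hs, hcov⟩ := isCompact_and_isOpen_iff_finite_and_eq_biUnion_affineOpens.mp
    (⟨isCompact_univ, isOpen_univ⟩ : IsCompact (Set.univ : Set X) ∧ IsOpen (Set.univ : Set X))
  haveI := hs.fintype
  let V : Fin (Fintype.card s) → X.Opens := fun k => ((Fintype.equivFin s).symm k).1.1
  have hV : ∀ k, IsAffineOpen (V k) := fun k => ((Fintype.equivFin s).symm k).1.2
  refine exists_extension V hV (eq_top_iff.mpr fun x _ => ?_) U (fun l => ?_) G i hG
  · obtain ⟨a, ha, hxa⟩ := Set.mem_iUnion₂.mp (hcov ▸ Set.mem_univ x)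
    exact Opens.mem_iSup.mpr ⟨Fintype.equivFin s ⟨a, ha⟩, by simpa [V] using hxa⟩
  · unfold overlap
    rw [Opens.coe_inf, Opens.coe_sup, Opens.coe_iSup]
    refine QuasiSeparatedSpace.inter_isCompact _ _ (V l).2 (hV l).isCompact ?_ ?_
    · exact U.2.union (isOpen_iUnion fun m => (V m.1).2)
    · exact hU.union (isCompact_iUnion fun m => (hV m.1).isCompact)

end

end Groth.Agent.Lib.Modules.ExtendFT
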