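import Groth.Agent.Lib.CohBasics.Affine
import Groth.Agent.Lib.QCoh.Localizing
import Groth.Prelude.Def_CohB1
import Mathlib.Algebra.Category.ModuleCat.Presheaf.Submodule
import Mathlib.Topology.Sheaves.SheafCondition.UniqueGluing

/-!
# Submodules given by families of submodules of stalks

`Family F` is a submodule of each stalk of `F`; `subMod S` is the sheaf of sections whose germs lie
in `S`.  If `S` is near every point spanned by finitely many sections (`IsLocFG`) and `F` is
quasi-coherent, `subMod S` is quasi-coherent of finite type with stalks `S`.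
-/

set_option autoImplicit false
universe u

open CategoryTheory Limits AlgebraicGeometry Opposite TopologicalSpace

namespace Groth.Agent.Lib.Modules.SubStalk

open Groth.Agent.Lib

noncomputable section

variable {X : Scheme.{u}} {F : X.Modules}

/-- A submodule of each stalk. -/
abbrev Family (F : X.Modules) := ∀ x : X, Submodule (X.presheaf.stalk x) (F.presheaf.stalk x)

/-- Sections with all germs in `S`. -/
def secs (S : Family F) (U : X.Opens) : Submodule Γ(X, U) Γ(F, U) where
  carrier := {s | ∀ (x : X) (hx : x ∈ U), F.presheaf.germ U x hx s ∈ S x}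
  add_mem' ha hb x hx := by rw [map_add]; exact (S x).add_mem (ha x hx) (hb x hx)
  zero_mem' x hx := by rw [map_zero]; exact (S x).zero_mem
  smul_mem' r s hs x hx := by
    rw [Modules.StalkModule.germ_smul]; exact (S x).smul_mem _ (hs x hx)

lemma mem_secs {S : Family F} {U : X.Opens} {s : Γ(F, U)} :
    s ∈ secs S U ↔ ∀ (x : X) (hx : x ∈ U), F.presheaf.germ U x hx s ∈ S x := Iff.rfl

lemma res_mem_secs {S : Family F} {U V : X.Opens} (h : V ⟶ U) {s : Γ(F, U)} (hs : s ∈ secs S U) :
    F.presheaf.map h.op s ∈ secs S V := fun x hx => by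
  rw [TopCat.Presheaf.germ_res_apply]; exact hs x (leOfHom h hx)

variable (F) in
/-- The subpresheaf of a family. -/
def subPresheaf (S : Family F) : F.val.Submodule where
  obj U := secs S U.unop
  map {U V} g _ hs := res_mem_secs g.unop hs

/-- The subsheaf of a family. -/
def subMod (S : Family F) : X.Modules where
  val := (subPresheaf F S).toPresheafOfModules
  isSheaf := by
    change TopCat.Presheaf.IsSheaf _
    rw [TopCat.Presheaf.isSheaf_iff_isSheafUniqueGluing]
    intro ι U sf hsf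
    obtain ⟨s, hs, huniq⟩ := TopCat.Sheaf.existsUnique_gluing ⟨F.presheaf, F.isSheaf⟩ U
      (fun i => (sf i).val) fun i j => congrArg Subtype.val (hsf i j)
    refine ⟨⟨s, fun x hx => ?_⟩, fun i => Subtype.ext (hs i), fun t ht => Subtype.ext ?_⟩
    · obtain ⟨i, hi⟩ := Opens.mem_iSup.mp hx
      rw [← TopCat.Presheaf.germ_res_apply F.presheaf (Opens.leSupr U i) x hi s]
      exact (congrArg (fun a => F.presheaf.germ (U i) x hi a ∈ S x) (hs i)).mpr ((sf i).2 x hi)
    · exact huniq t.val fun i => congrArg Subtype.val (ht i)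

/-- The inclusion of the subsheaf. -/
def ι (S : Family F) : subMod S ⟶ F := SheafOfModules.Hom.mk (subPresheaf F S).ι

lemma ι_app_apply (S : Family F) (U : X.Opens) (s : Γ(subMod S, U)) :
    (ι S).app U s = s.val := rfl

lemma ι_app_injective (S : Family F) (U : X.Opens) : Function.Injective ((ι S).app U) :=
  fun _ _ h => Subtype.ext h

instance mono_ι (S : Family F) : Mono (ι S) :=
  (Modules.Stalk.mono_iff_app_injective _).mpr fun U => ι_app_injective S U

lemma ι_app_mem (S : Family F) (U : X.Opens) (s : Γ(subMod S, U)) :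
    (ι S).app U s ∈ secs S U := s.2

lemma exists_ι_app {S : Family F} {U : X.Opens} {t : Γ(F, U)} (h : t ∈ secs S U) :
    ∃ s : Γ(subMod S, U), (ι S).app U s = t := ⟨⟨t, h⟩, rfl⟩

/-- `S` is spanned, near every point of `W`, by finitely many sections. -/
def IsLocFG (S : Family F) (W : X.Opens) : Prop :=
  ∀ x ∈ W, ∃ (V : X.Opens), IsAffineOpen V ∧ x ∈ V ∧ V ≤ W ∧
    ∃ (n : ℕ) (s : Fin n → Γ(F, V)), ∀ (y : X) (hy : y ∈ V),
      S y = Submodule.span (X.presheaf.stalk y) (Set.range fun i => F.presheaf.germ V y hy (s i))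

lemma IsLocFG.congr {S T : Family F} {W : X.Opens} (h : IsLocFG S W)
    (e : ∀ y ∈ W, T y = S y) : IsLocFG T W := fun x hx => by
  obtain ⟨V, hV, hxV, hVW, n, s, hs⟩ := h x hx
  exact ⟨V, hV, hxV, hVW, n, s, fun y hy => (e y (hVW hy)).trans (hs y hy)⟩

/-- Restricting generators to a smaller open. -/
lemma span_germ_res {V V' : X.Opens} (h : V' ≤ V) {n : ℕ} (s : Fin n → Γ(F, V)) {y : X}
    (hy : y ∈ V') :
    (Set.range fun i => F.presheaf.germ V' y hy (F.presheaf.map (homOfLE h).op (s i))) =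
      Set.range fun i => F.presheaf.germ V y (h hy) (s i) := by
  simp only [TopCat.Presheaf.germ_res_apply]

lemma IsLocFG.mono {S : Family F} {W W' : X.Opens} (h : IsLocFG S W) (hW : W' ≤ W) :
    IsLocFG S W' := fun x hx => by
  obtain ⟨V, _, hxV, -, n, s, hs⟩ := h x (hW hx)
  obtain ⟨V', hV', hxV', hV'le⟩ :=
    exists_isAffineOpen_mem_and_subset (U := V ⊓ W') (x := x) ⟨hxV, hx⟩
  refine ⟨V', hV', hxV', fun y hy => (hV'le hy).2, n,
    fun i => F.presheaf.map (homOfLE (fun y hy => (hV'le hy).1 : V' ≤ V)).op (s i), fun y hy => ?_⟩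
  rw [span_germ_res]
  exact hs y (hV'le hy).1

lemma isLocFG_iSup {S : Family F} {κ : Type*} (W : κ → X.Opens) (h : ∀ k, IsLocFG S (W k)) :
    IsLocFG S (⨆ k, W k) := fun x hx => by
  obtain ⟨k, hk⟩ := Opens.mem_iSup.mp hx
  obtain ⟨V, hV, hxV, hVW, rest⟩ := h k x hk
  exact ⟨V, hV, hxV, hVW.trans (le_iSup W k), rest⟩

lemma isLocFG_sup {S : Family F} {W W' : X.Opens} (h : IsLocFG S W) (h' : IsLocFG S W') :
    IsLocFG S (W ⊔ W') := by
  intro x hx
  rcases hx with hx | hx
  · obtain ⟨V, hV, hxV, hVW, rest⟩ := h x hx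
    exact ⟨V, hV, hxV, hVW.trans le_sup_left, rest⟩
  · obtain ⟨V, hV, hxV, hVW, rest⟩ := h' x hx
    exact ⟨V, hV, hxV, hVW.trans le_sup_right, rest⟩

lemma IsLocFG.of_affine {S : Family F} {V : X.Opens} (hV : IsAffineOpen V) {n : ℕ}
    (s : Fin n → Γ(F, V)) (hs : ∀ (y : X) (hy : y ∈ V),
      S y = Submodule.span (X.presheaf.stalk y) (Set.range fun i => F.presheaf.germ V y hy (s i))) :
    IsLocFG S V := fun _ hx => ⟨V, hV, hx, le_rfl, n, s, hs⟩

/-- If the germs of `t` on `D(f)` are in the span of `P`, then `f ^ m • t ∈ P`. -/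
lemma exists_pow_smul_mem [F.IsQuasicoherent] {U : X.Opens} (hU : IsAffineOpen U)
    (P : Submodule Γ(X, U) Γ(F, U)) (t : Γ(F, U)) (f : Γ(X, U))
    (h : ∀ (y : X) (hy : y ∈ U), y ∈ X.basicOpen f → F.presheaf.germ U y hy t ∈
      Submodule.span (X.presheaf.stalk y) (F.presheaf.germ U y hy '' (P : Set Γ(F, U)))) :
    ∃ m : ℕ, f ^ m • t ∈ P := by
  suffices hr : f ∈ Ideal.radical
      (show Ideal Γ(X, U) from P.comap (LinearMap.toSpanSingleton Γ(X, U) Γ(F, U) t)) from hr
  rw [Ideal.radical_eq_sInf, Submodule.mem_sInf]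
  rintro p ⟨hle, hp⟩
  by_contra hf
  let q : Spec Γ(X, U) := ⟨p, hp⟩
  have hq : hU.fromSpec q ∈ X.basicOpen f := by
    have : q ∈ hU.fromSpec ⁻¹ᵁ X.basicOpen f := by rw [hU.fromSpec_preimage_basicOpen]; exact hf
    exact this
  have hqU : hU.fromSpec q ∈ U := X.basicOpen_le f hq
  obtain ⟨c, hc, t', ht', e⟩ :=
    CohBasics.Affine.exists_smul_eq_of_mem_span hU hqU P (h _ hqU hq)
  obtain ⟨g, hg, hgs⟩ := (StalkLoc.Basic.germ_eq_zero_iff hU hqU (c • t - t')).mp (by
    rw [map_sub, Modules.StalkModule.germ_smul, e, sub_self])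
  rw [smul_sub, sub_eq_zero, smul_smul] at hgs
  have hmem : g * c ∈ p := hle (show (g * c) • t ∈ P by rw [hgs]; exact P.smul_mem g ht')
  have hbo : q ∈ hU.fromSpec ⁻¹ᵁ X.basicOpen (g * c) := by
    rw [Scheme.basicOpen_mul]; exact ⟨hg, hc⟩
  rw [hU.fromSpec_preimage_basicOpen] at hbo
  exact hbo hmem

/-- With generators on an affine open, sections of the family are combinations of them. -/
lemma secs_eq_span [F.IsQuasicoherent] {S : Family F} {V : X.Opens} (hV : IsAffineOpen V) {n : ℕ}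
    (s : Fin n → Γ(F, V)) (hs : ∀ (y : X) (hy : y ∈ V),
      S y = Submodule.span (X.presheaf.stalk y) (Set.range fun i => F.presheaf.germ V y hy (s i))) :
    secs S V = Submodule.span Γ(X, V) (Set.range s) := by
  refine le_antisymm (fun t ht => CohBasics.Affine.mem_of_germ_mem hV _ t fun y hy => ?_) ?_
  · refine Submodule.span_mono ?_ (hs y hy ▸ ht y hy)
    rintro _ ⟨i, rfl⟩
    exact ⟨s i, Submodule.subset_span ⟨i, rfl⟩, rfl⟩
  · rw [Submodule.span_le]
    rintro _ ⟨i, rfl⟩ y hy
    rw [hs y hy]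
    exact Submodule.subset_span ⟨i, rfl⟩

/-- The stalks of `subMod S` are `S`. -/
lemma range_stalkMapₗ_ι {S : Family F} {W : X.Opens} (h : IsLocFG S W) {x : X} (hx : x ∈ W) :
    LinearMap.range (Modules.StalkModule.stalkMapₗ (ι S) x) = S x := by
  refine le_antisymm ?_ ?_
  · rintro _ ⟨v, rfl⟩
    obtain ⟨V, hxV, t, rfl⟩ := TopCat.Presheaf.exists_germ_eq (subMod S).presheaf v
    rw [Modules.StalkModule.stalkMapₗ_germ]
    exact ι_app_mem S V t x hxV
  · obtain ⟨V, _, hxV, -, n, s, hs⟩ := h x hx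
    rw [hs x hxV, Submodule.span_le]
    rintro _ ⟨i, rfl⟩
    obtain ⟨a, ha⟩ := exists_ι_app (S := S) (U := V) (t := s i) fun y hy => by
      rw [hs y hy]; exact Submodule.subset_span ⟨i, rfl⟩
    exact ⟨(subMod S).presheaf.germ V x hxV a, by rw [Modules.StalkModule.stalkMapₗ_germ, ha]⟩

/-- `subMod S` is quasi-coherent. -/
theorem isQCoh_subMod [F.IsQuasicoherent] {S : Family F} (h : IsLocFG S ⊤) :
    (subMod S).IsQuasicoherent := by
  refine QCoh.Localizing.isQCoh_of_forall_exists_localizes fun x => ?_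
  obtain ⟨V, hV, hxV, -, n, s, hs⟩ := h x trivial
  refine ⟨V, hV, hxV, fun f => ⟨fun a => ?_, fun a ha => ?_⟩⟩
  · obtain ⟨k, t, ht⟩ := (QCoh.Localizing.localizes_of_isAffineOpen F hV f).ext'
      ((ι S).app _ a)
    obtain ⟨m, hm⟩ := exists_pow_smul_mem hV (secs S V) t f fun y hy hyf => by
      rw [← TopCat.Presheaf.germ_res_apply F.presheaf (homOfLE (X.basicOpen_le f)) y hyf t]
      erw [ht]
      rw [Modules.StalkModule.germ_smul]
      refine Submodule.smul_mem _ _ ?_
      have h1 : F.presheaf.germ _ y hyf ((ι S).app _ a) ∈ S y := ι_app_mem S _ a y hyf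
      refine Submodule.span_mono ?_ (hs y hy ▸ h1)
      rintro _ ⟨i, rfl⟩
      refine ⟨s i, ?_, rfl⟩
      rw [secs_eq_span hV s hs]
      exact Submodule.subset_span ⟨i, rfl⟩
    obtain ⟨b, hb⟩ := exists_ι_app hm
    refine ⟨m + k, b, ι_app_injective S _ ?_⟩
    rw [← QCoh.Localizing.res_app, hb, Scheme.Modules.Hom.app_smul,
      QCoh.Localizing.res_smul, ht, map_pow, smul_smul, pow_add]
  · obtain ⟨k, hk⟩ := (QCoh.Localizing.localizes_of_isAffineOpen F hV f).sep ((ι S).app V a) (by
      rw [QCoh.Localizing.res_app, ha, map_zero])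
    exact ⟨k, ι_app_injective S _ (by rw [Scheme.Modules.Hom.app_smul, hk, map_zero])⟩

/-- `subMod S` is of finite type. -/
theorem isFT_subMod [F.IsQuasicoherent] {S : Family F} (h : IsLocFG S ⊤) :
    CohB1.IsFT (subMod S) := by
  haveI := isQCoh_subMod h
  refine CohBasics.Affine.isFiniteType_of_finite_sections fun x => ?_
  obtain ⟨V, hV, hxV, -, n, s, hs⟩ := h x trivial
  refine ⟨V, hV, hxV, ?_⟩
  let φ := CohBasics.Affine.secₗ (ι S) V
  have hφ : Function.Injective φ := ι_app_injective S V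
  have hr : LinearMap.range φ = Submodule.span Γ(X, V) (Set.range s) := by
    rw [← secs_eq_span hV s hs]
    refine le_antisymm ?_ fun t ht => exists_ι_app ht
    rintro _ ⟨a, rfl⟩
    exact ι_app_mem S V a
  haveI : Module.Finite Γ(X, V) (LinearMap.range φ) := by
    rw [hr]; exact Module.Finite.span_of_finite _ (Set.finite_range s)
  exact Module.Finite.equiv (LinearEquiv.ofInjective φ hφ).symm

end

end Groth.Agent.Lib.Modules.SubStalk
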