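import Groth.Agent.Lib.DerivedOX.TensorSheaf
import Groth.Agent.Lib.Ample.GenLocus
import Groth.Agent.Lib.Modules.TensorSec
import Groth.Prelude.Def_KoszTw

/-!
# Tensoring with a generator of an invertible module
-/

set_option autoImplicit false
universe u

open CategoryTheory CategoryTheory.Limits AlgebraicGeometry Opposite TopologicalSpace
open scoped TensorProduct

namespace Groth.Agent.Lib.Modules.TensorGen

open Groth.Agent.Lib.TensorMod Groth.Agent.Lib.TensorMod.Gen Groth.Agent.Lib.TensorMod.Dual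
open Groth.Agent.Lib.DerivedOX

variable {X : Scheme.{u}} {M P : X.Modules} {U : X.Opens}

/-- `· ⊗ g` on sections over an open. -/
noncomputable def tg (M : X.Modules) (g : Γ(P, U)) : Γ(M, U) →ₗ[Γ(X, U)] Γ(CohB1.tensorMod M P, U) where
  toFun m := SecTwist.tmul M P U m g
  map_add' a b := by
    show (SecTwist.tmul M P U (a + b) g : Γ(CohB1.tensorMod M P, U)) = _
    rw [← Ample.GenLocus.pairM_id, ← Ample.GenLocus.pairM_id, ← Ample.GenLocus.pairM_id, TensorMod.Pullback.pairM_add_left]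
  map_smul' r m := by
    show (SecTwist.tmul M P U (r • m) g : Γ(CohB1.tensorMod M P, U)) = r • _
    rw [← Ample.GenLocus.pairM_id, ← Ample.GenLocus.pairM_id, TensorMod.Pullback.pairM_smul_left]
    rfl

theorem tg_apply (g : Γ(P, U)) (m : Γ(M, U)) : tg M g m = SecTwist.tmul M P U m g := rfl

theorem rs_tg {V : X.Opens} (h : V ≤ U) (g : Γ(P, U)) (m : Γ(M, U)) :
    rs (CohB1.tensorMod M P) h (tg M g m) = tg M (rs P h g) (rs M h m) :=
  Ample.GenLocus.rs_tmul h m g

theorem tensorStalk_germ_tmul {x : X} (hx : x ∈ U) (m : Γ(M, U)) (n : Γ(P, U)) :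
    TensorSheaf.tensorStalk x M P
        ((CohB1.tensorMod M P).presheaf.germ U x hx (SecTwist.tmul M P U m n)) =
      M.presheaf.germ U x hx m ⊗ₜ[TensorStalk.Ox x] P.presheaf.germ U x hx n := by
  let p : (DCoh.toP.obj M).obj (op U) := m
  let q : (DCoh.toP.obj P).obj (op U) := n
  have h : TensorSheaf.shStalkEquiv x _ (TensorStalk.germ hx (TensorStalk.tm p q)) =
      (CohB1.tensorMod M P).presheaf.germ U x hx (SecTwist.tmul M P U m n) := by
    refine (TensorStalk.stMap_germ (TensorSheaf.unitSh _) hx (TensorStalk.tm p q)).trans ?_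
    rfl
  refine (congrArg _ h.symm).trans ((TensorSheaf.tensorStalk_shStalkEquiv x M P _).trans ?_)
  rw [TensorStalk.tensorStalkEquiv_germ_tm]
  rfl

/-- The germ of a generator generates the stalk freely. -/
theorem bijective_germ_smul {g : Γ(P, U)} (hg : IsGen P U g) {x : X} (hx : x ∈ U) :
    Function.Bijective fun c : X.presheaf.stalk x => c • P.presheaf.germ U x hx g := by
  constructor
  · intro c c' h
    obtain ⟨W, hxW, a, rfl⟩ := TopCat.Presheaf.exists_germ_eq X.presheaf c
    obtain ⟨W', hxW', a', rfl⟩ := TopCat.Presheaf.exists_germ_eq X.presheaf c'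
    have hV : x ∈ U ⊓ (W ⊓ W') := ⟨hx, hxW, hxW'⟩
    let V : X.Opens := U ⊓ (W ⊓ W')
    have h1 : P.presheaf.germ V x hV (rf (inf_le_right.trans inf_le_left : V ≤ W) a • rs P inf_le_left g) =
        P.presheaf.germ V x hV (rf (inf_le_right.trans inf_le_right : V ≤ W') a' • rs P inf_le_left g) := by
      rw [StalkModule.germ_smul, StalkModule.germ_smul, TopCat.Presheaf.germ_res_apply,
        TopCat.Presheaf.germ_res_apply, TopCat.Presheaf.germ_res_apply]
      exact h
    obtain ⟨O, hxO, i₁, i₂, hO⟩ := TopCat.Presheaf.germ_eq P.presheaf x hV hV _ _ h1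
    change rs P i₁.le _ = rs P i₁.le _ at hO
    rw [rs_smul, rs_smul, rs_rs] at hO
    have h2 := congrArg (X.presheaf.germ O x hxO) ((hg O _).1 hO)
    rwa [TopCat.Presheaf.germ_res_apply, TopCat.Presheaf.germ_res_apply, TopCat.Presheaf.germ_res_apply,
      TopCat.Presheaf.germ_res_apply] at h2
  · intro v
    obtain ⟨W, hxW, m, rfl⟩ := TopCat.Presheaf.exists_germ_eq P.presheaf v
    have hV : x ∈ U ⊓ W := ⟨hx, hxW⟩
    obtain ⟨a, ha⟩ := (hg (U ⊓ W) inf_le_left).2 (rs P inf_le_right m)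
    refine ⟨X.presheaf.germ (U ⊓ W) x hV a, ?_⟩
    have := congrArg (P.presheaf.germ (U ⊓ W) x hV) ha
    rw [StalkModule.germ_smul, TopCat.Presheaf.germ_res_apply, TopCat.Presheaf.germ_res_apply] at this
    exact this

/-- Tensoring with a free generator of rank one on stalks. -/
theorem bijective_tmul_germ {g : Γ(P, U)} (hg : IsGen P U g) {x : X} (hx : x ∈ U) :
    Function.Bijective fun m : M.presheaf.stalk x =>
      m ⊗ₜ[TensorStalk.Ox x] P.presheaf.germ U x hx g := by
  let l : X.presheaf.stalk x ≃ₗ[X.presheaf.stalk x] P.presheaf.stalk x :=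
    LinearEquiv.ofBijective (LinearMap.toSpanSingleton _ _ (P.presheaf.germ U x hx g))
      (bijective_germ_smul hg hx)
  have h := ((TensorProduct.rid (X.presheaf.stalk x) (M.presheaf.stalk x)).symm.trans
    (TensorProduct.congr (LinearEquiv.refl _ _) l)).bijective
  convert h using 1
  funext m
  simp [l]

theorem tg_injective {g : Γ(P, U)} (hg : IsGen P U g) : Function.Injective (tg M g) := fun a b h => by
  refine TopCat.Presheaf.section_ext (⟨M.presheaf, M.isSheaf⟩ : TopCat.Sheaf AddCommGrpCat.{u} X)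
    U _ _ fun x hx => (bijective_tmul_germ (M := M) hg hx).1 ?_
  exact (tensorStalk_germ_tmul hx a g).symm.trans
    ((congrArg (fun z => TensorSheaf.tensorStalk x M P ((CohB1.tensorMod M P).presheaf.germ U x hx z)) h).trans
      (tensorStalk_germ_tmul hx b g))

/-- Sections of `M ⊗ P` are locally pure tensors with the generator. -/
theorem exists_local {g : Γ(P, U)} (hg : IsGen P U g) (u : Γ(CohB1.tensorMod M P, U)) {x : X} (hx : x ∈ U) :
    ∃ (W : X.Opens) (h : W ≤ U) (z : Γ(M, W)), x ∈ W ∧ rs _ h u = tg M (rs P h g) z := by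
  obtain ⟨c, hc⟩ := (bijective_tmul_germ (M := M) hg hx).2
    (TensorSheaf.tensorStalk x M P ((CohB1.tensorMod M P).presheaf.germ U x hx u))
  obtain ⟨O, hxO, z, rfl⟩ := TopCat.Presheaf.exists_germ_eq M.presheaf c
  have hV : x ∈ U ⊓ O := ⟨hx, hxO⟩
  have h1 : (CohB1.tensorMod M P).presheaf.germ (U ⊓ O) x hV (rs _ inf_le_left u) =
      (CohB1.tensorMod M P).presheaf.germ (U ⊓ O) x hV (tg M (rs P inf_le_left g) (rs M inf_le_right z)) := by
    refine (TensorSheaf.tensorStalk x M P).injective ?_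
    refine (congrArg (TensorSheaf.tensorStalk x M P) (TopCat.Presheaf.germ_res_apply _ _ _ _ u)).trans ?_
    refine hc.symm.trans (Eq.trans ?_ (tensorStalk_germ_tmul hV _ _).symm)
    rw [TopCat.Presheaf.germ_res_apply, TopCat.Presheaf.germ_res_apply]
  obtain ⟨W, hxW, i₁, i₂, hW⟩ := TopCat.Presheaf.germ_eq (CohB1.tensorMod M P).presheaf x hV hV _ _ h1
  refine ⟨W, i₁.le.trans inf_le_left, rs M i₁.le (rs M inf_le_right z), hxW, ?_⟩
  rw [← rs_rs _ (inf_le_left : U ⊓ O ≤ U) i₁.le u, ← rs_rs P (inf_le_left : U ⊓ O ≤ U) i₁.le g, ← rs_tg]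
  exact hW

theorem tg_surjective {g : Γ(P, U)} (hg : IsGen P U g) : Function.Surjective (tg M g) := fun u => by
  choose W hW z hxW hz using fun x : U => exists_local (M := M) hg u x.2
  obtain ⟨t, ht, -⟩ := TopCat.Sheaf.existsUnique_gluing'
    (⟨M.presheaf, M.isSheaf⟩ : TopCat.Sheaf AddCommGrpCat.{u} X) W U (fun x => homOfLE (hW x))
    (fun x hx => Opens.mem_iSup.2 ⟨⟨x, hx⟩, hxW _⟩) z fun x y => by
      refine tg_injective (M := M) (hg.res (inf_le_left.trans (hW x) : W x ⊓ W y ≤ U)) ?_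
      show tg M _ (rs M inf_le_left (z x)) = tg M _ (rs M inf_le_right (z y))
      rw [← rs_rs P (hW x) inf_le_left g, ← rs_tg, ← hz, rs_rs]
      rw [rs_rs P (hW x) inf_le_left g, ← rs_rs P (hW y) inf_le_right g, ← rs_tg, ← hz, rs_rs]
  refine ⟨t, TensorSec.section_ext _ _ _ fun x hx => ⟨W ⟨x, hx⟩, hW _, hxW _, ?_⟩⟩
  rw [rs_tg, hz]
  exact congrArg _ (ht ⟨x, hx⟩)

theorem tg_bijective {g : Γ(P, U)} (hg : IsGen P U g) : Function.Bijective (tg M g) :=
  ⟨tg_injective hg, tg_surjective hg⟩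

/-- Powers of a generator generate. -/
theorem isGen_tprodConst {L : X.Modules} {e : Γ(L, U)} (he : IsGen L U e) :
    ∀ q : ℕ, IsGen (CohB1.tensorPow L q) U (KoszTw.tprod L q U fun _ => e)
  | 0 => Ample.GenLocus.isGen_one U
  | q + 1 => Ample.GenLocus.isGen_tmul (isGen_tprodConst he q) he

end Groth.Agent.Lib.Modules.TensorGen
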