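import Groth.Prelude.Def_FlatMod2
import Groth.Agent.Lib.Modules.Free
import Groth.Agent.Lib.Modules.Local
import Groth.Agent.Lib.Modules.TensorSec

/-!
# Dual bases on opens, contraction, retraction of sections of `E ⊗ N`

`DualBasis E U n`: sections `e i` of `E` and forms `f i` on `U` with `∑ f i (x) • e i = x` on all
opens inside `U`.  Finite locally free modules have dual bases locally.
-/

universe u

open CategoryTheory Limits AlgebraicGeometry Opposite TopologicalSpace

namespace Groth.Agent.Lib.Modules.DualBasis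

open Groth.Agent.Lib.TensorMod
open Groth.Agent.Lib.TensorMod.Basic (tmap)
open Groth.Agent.Lib.TensorMod.Free (pairM)
open Groth.Agent.Lib.TensorMod.Dual (rs rf DualSec dual dualRes rs_rs rf_rf rs_smul rs_self)
open Groth.Agent.Lib.Modules.TensorSec

variable {X : Scheme.{u}}

/-- A dual basis (a finite generating family with coordinate forms) over an open. -/
structure DBasis (E : X.Modules) (U : X.Opens) (n : ℕ) where
  /-- the sections -/
  e : Fin n → Γ(E, U)
  /-- the forms -/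
  f : Fin n → DualSec E U
  sum_eq : ∀ (V : X.Opens) (h : V ≤ U) (x : Γ(E, V)),
    ∑ i, (f i).app h x • rs E h (e i) = x

/-- Every point has a neighbourhood with a dual basis. -/
def HasDBases (E : X.Modules) : Prop :=
  ∀ x : X, ∃ (U : X.Opens) (n : ℕ), x ∈ U ∧ Nonempty (DBasis E U n)

variable {E N : X.Modules} {U V : X.Opens} {n : ℕ}

/-- Restriction of a dual basis. -/
noncomputable def DBasis.res (b : DBasis E U n) (h : V ≤ U) : DBasis E V n where
  e i := rs E h (b.e i)
  f i := dualRes E h (b.f i)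
  sum_eq W hW x := by
    simp only [rs_rs]
    exact b.sum_eq W (hW.trans h) x

lemma exists_dBasis_le (hE : HasDBases E) {x : X} (hx : x ∈ U) :
    ∃ (W : X.Opens) (n : ℕ), x ∈ W ∧ W ≤ U ∧ Nonempty (DBasis E W n) := by
  obtain ⟨V, n, hxV, ⟨b⟩⟩ := hE x
  exact ⟨V ⊓ U, n, ⟨hxV, hx⟩, inf_le_right, ⟨b.res inf_le_left⟩⟩

/-- The forms of the dual basis give a dual basis of the dual. -/
lemma sum_dual (b : DBasis E U n) (φ : DualSec E U) :
    ∑ i, φ.app le_rfl (b.e i) • b.f i = φ := by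
  refine DualSec.ext fun W hW x => ?_
  conv_rhs => rw [← b.sum_eq W hW x, map_sum]
  let ev : DualSec E U →+ Γ(X, W) :=
    AddMonoidHom.mk' (fun ψ => ψ.app hW x) fun a c => Dual.add_app E a c hW x
  refine (map_sum ev (fun i => φ.app le_rfl (b.e i) • b.f i) Finset.univ).trans ?_
  refine Finset.sum_congr rfl fun i _ => ?_
  change (φ.app le_rfl (b.e i) • b.f i : DualSec E U).app hW x = _
  rw [Dual.smul_app, map_smul, smul_eq_mul, DualSec.compat, mul_comm]

/-- Evaluation at a section, as a form on the dual. -/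
noncomputable def evalSec (e : Γ(E, U)) : DualSec (dual E) U :=
  ⟨fun V =>
    { toFun := fun φ => (show DualSec E V.1 from φ).app le_rfl (rs E V.2 e)
      map_add' := fun a c => Dual.add_app E (show DualSec E V.1 from a) c le_rfl _
      map_smul' := fun r a => by
        refine (Dual.smul_app E r (show DualSec E V.1 from a) le_rfl _).trans ?_
        rw [Dual.rf_self]
        rfl },
    fun V W h φ => by
      change rf h ((show DualSec E V.1 from φ).app le_rfl (rs E V.2 e)) =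
        (dualRes E h (show DualSec E V.1 from φ)).app le_rfl (rs E W.2 e)
      rw [Dual.dualRes_app, DualSec.compat, rs_rs]⟩

/-- The dual basis of the dual module. -/
noncomputable def DBasis.dualB (b : DBasis E U n) : DBasis (dual E) U n where
  e i := b.f i
  f i := evalSec (b.e i)
  sum_eq V h φ := by
    have := sum_dual (b.res h) (show DualSec E V from φ)
    exact this

lemma HasDBases.dual (hE : HasDBases E) : HasDBases (dual E) := fun x => by
  obtain ⟨U, n, hx, ⟨b⟩⟩ := hE x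
  exact ⟨U, n, hx, ⟨b.dualB⟩⟩

lemma DualSec.app_congr (φ : DualSec E U) {V : X.Opens} (h h' : V ≤ U) (x : Γ(E, V)) :
    φ.app h x = φ.app h' x := rfl

/-- Contraction with a form `φ` over `U`: `E ⊗ N ⟶ j_*(N|_U)`, on sections over `V ≤ U` a map
`Γ(E ⊗ N, V) ⟶ Γ(N, V)`. -/
lemma exists_contraction (φ : DualSec E U) (N : X.Modules) :
    ∃ c : ∀ (V : X.Opens), V ≤ U → Γ(CohB1.tensorMod E N, V) →+ Γ(N, V),
      (∀ V (h : V ≤ U) x n, c V h (tens x n) = φ.app h x • n) ∧
      ∀ V W (h : V ≤ U) (h' : W ≤ V) u,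
        rs N h' (c V h u) = c W (h'.trans h) (rs _ h' u) := by
  let J : X.Modules := (Scheme.Modules.pushforward U.ι).obj (N.restrict U.ι)
  have hV : ∀ V : X.Opens, U.ι ''ᵁ (U.ι ⁻¹ᵁ V) ≤ U := fun V => U.ι_image_le _
  have hV' : ∀ V : X.Opens, U.ι ''ᵁ (U.ι ⁻¹ᵁ V) ≤ V := fun V => U.ι.image_preimage_le V
  have hsmul : ∀ V (r : Γ(X, V)) (a : Γ(N, U.ι ''ᵁ (U.ι ⁻¹ᵁ V))),
      (r • (show Γ(J, V) from a) : Γ(J, V)) = (rf (hV' V) r • a : Γ(N, U.ι ''ᵁ (U.ι ⁻¹ᵁ V))) := by
    intro V r a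
    change ((U.ι.appIso (U.ι ⁻¹ᵁ V)).inv (U.ι.app V r) • a : Γ(N, U.ι ''ᵁ (U.ι ⁻¹ᵁ V))) = _
    rw [← ConcreteCategory.comp_apply, Scheme.Hom.app_appIso_inv]
    rfl
  obtain ⟨g, hg⟩ := Pullback.exists_hom_of_pairing (M := E) (N := N) (H := J)
    (fun V x m => (show Γ(J, V) from
      φ.app (hV V) (rs E (hV' V) x) • rs N (hV' V) m))
    (fun V x x' m => by
      change (φ.app (hV V) (rs E (hV' V) (x + x')) • rs N (hV' V) m : Γ(N, _)) =
        φ.app (hV V) (rs E (hV' V) x) • rs N (hV' V) m +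
          φ.app (hV V) (rs E (hV' V) x') • rs N (hV' V) m
      rw [rs_add, map_add, add_smul])
    (fun V x m m' => by
      change (φ.app (hV V) (rs E (hV' V) x) • rs N (hV' V) (m + m') : Γ(N, _)) =
        φ.app (hV V) (rs E (hV' V) x) • rs N (hV' V) m +
          φ.app (hV V) (rs E (hV' V) x) • rs N (hV' V) m'
      rw [rs_add, smul_add])
    (fun V r x m => by
      refine Eq.trans ?_ (hsmul V r _).symm
      change (φ.app (hV V) (rs E (hV' V) (r • x)) • rs N (hV' V) m : Γ(N, _)) = _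
      rw [rs_smul, map_smul, smul_eq_mul, mul_smul])
    (fun V r x m => by
      refine Eq.trans ?_ (hsmul V r _).symm
      change (φ.app (hV V) (rs E (hV' V) x) • rs N (hV' V) (r • m) : Γ(N, _)) = _
      rw [rs_smul, ← mul_smul, mul_comm, mul_smul])
    (fun V W i x m => by
      have hle : U.ι ''ᵁ (U.ι ⁻¹ᵁ V) ≤ U.ι ''ᵁ (U.ι ⁻¹ᵁ W) :=
        U.ι.image_mono (fun _ h => leOfHom i h)
      change rs N hle (φ.app (hV W) (rs E (hV' W) x) • rs N (hV' W) m) =
        φ.app (hV V) (rs E (hV' V) (rs E (leOfHom i) x)) •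
          rs N (hV' V) (rs N (leOfHom i) m)
      rw [rs_smul, DualSec.compat, rs_rs, rs_rs, rs_rs, rs_rs])
  have hle : ∀ V, V ≤ U → V ≤ U.ι ''ᵁ (U.ι ⁻¹ᵁ V) := fun V h x hx =>
    ⟨⟨x, h hx⟩, hx, rfl⟩
  refine ⟨fun V h => AddMonoidHom.mk'
    (fun u => rs N (hle V h) (show Γ(N, U.ι ''ᵁ (U.ι ⁻¹ᵁ V)) from g.app V u))
    (fun a b => by rw [map_add]; exact rs_add N _ _ _), fun V h x m => ?_,
    fun V W h h' u => ?_⟩
  · change rs N (hle V h) (g.app V (tens x m)) = _
    rw [app_tens, hg]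
    change rs N (hle V h) (φ.app (hV V) (rs E (hV' V) x) • rs N (hV' V) m) = _
    rw [rs_smul, DualSec.compat, rs_rs, rs_rs, rs_self, rs_self]
  · change rs N h' (rs N (hle V h) (g.app V u)) =
      rs N (hle W (h'.trans h)) (g.app W (rs _ h' u))
    rw [app_rs g h' u]
    change _ = rs N _ (rs N (U.ι.image_mono (fun _ hz => h' hz)) (g.app V u))
    rw [rs_rs, rs_rs]

/-- The contraction with a form. -/
noncomputable def contr (φ : DualSec E U) (N : X.Modules) {V : X.Opens} (h : V ≤ U) :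
    Γ(CohB1.tensorMod E N, V) →+ Γ(N, V) :=
  (exists_contraction φ N).choose V h

lemma contr_tens (φ : DualSec E U) (h : V ≤ U) (x : Γ(E, V)) (m : Γ(N, V)) :
    contr φ N h (tens x m) = φ.app h x • m :=
  (exists_contraction φ N).choose_spec.1 V h x m

lemma rs_contr (φ : DualSec E U) {W : X.Opens} (h : V ≤ U) (h' : W ≤ V)
    (u : Γ(CohB1.tensorMod E N, V)) :
    rs N h' (contr φ N h u) = contr φ N (h'.trans h) (rs _ h' u) :=
  (exists_contraction φ N).choose_spec.2 V W h h' u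

/-- Retraction: every section of `E ⊗ N` is `∑ e i ⊗ ⟨f i, u⟩`. -/
lemma sum_contr (b : DBasis E U n) (V : X.Opens) (h : V ≤ U) (u : Γ(CohB1.tensorMod E N, V)) :
    ∑ i, tens (rs E h (b.e i)) (contr (b.f i) N h u) = u := by
  refine TensorSec.induction_on (U := U)
    (P := fun V h a => ∑ i, tens (rs E h (b.e i)) (contr (b.f i) N h a) = a) ?_ ?_ ?_ ?_ V h u
  · intro V hV a ha
    refine section_ext _ _ _ fun x hx => ?_
    obtain ⟨W, hW, hxW, e⟩ := ha x hx
    refine ⟨W, hW, hxW, ?_⟩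
    conv_rhs => rw [← e]
    rw [rs_sum]
    refine Finset.sum_congr rfl fun i _ => ?_
    rw [rs_tens, rs_rs, rs_contr]
  · intro V hV
    exact Finset.sum_eq_zero fun i _ => by rw [map_zero, tens_zero_right]
  · intro V hV a c ha hc
    conv_rhs => rw [← ha, ← hc]
    rw [← Finset.sum_add_distrib]
    exact Finset.sum_congr rfl fun i _ => by rw [map_add, tens_add_right]
  · intro V hV x m
    conv_rhs => rw [← b.sum_eq V hV x]
    rw [tens_sum_left]
    refine Finset.sum_congr rfl fun i _ => ?_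
    rw [contr_tens, tens_smul_left, tens_smul_right]

/-- Contraction is natural in `N`. -/
lemma contr_natural {N' : X.Modules} (φ : DualSec E U) (a : N ⟶ N') (h : V ≤ U)
    (u : Γ(CohB1.tensorMod E N, V)) :
    contr φ N' h ((tmap (𝟙 E) a).app V u) = a.app V (contr φ N h u) := by
  refine TensorSec.induction_on (U := U)
    (P := fun V h w => contr φ N' h ((tmap (𝟙 E) a).app V w) = a.app V (contr φ N h w))
    ?_ ?_ ?_ ?_ V h u
  · intro V hV w hw
    refine section_ext _ _ _ fun x hx => ?_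
    obtain ⟨W, hW, hxW, e⟩ := hw x hx
    refine ⟨W, hW, hxW, ?_⟩
    rw [rs_contr, ← app_rs, e, ← app_rs, rs_contr]
  · intro V hV; simp only [map_zero]
  · intro V hV w w' h1 h2; simp only [map_add, h1, h2]
  · intro V hV x m
    rw [tmap_tens, contr_tens, contr_tens, Scheme.Modules.Hom.app_smul]
    rfl

/-- Tensoring with a module having local dual bases preserves monomorphisms. -/
lemma mono_tmap (hE : HasDBases E) {N' : X.Modules} (a : N ⟶ N') [Mono a] :
    Mono (tmap (𝟙 E) a) := by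
  rw [Stalk.mono_iff_app_injective]
  intro U u u' huu
  refine section_ext _ _ _ fun x hx => ?_
  obtain ⟨W, n, hxW, hWU, ⟨b⟩⟩ := exists_dBasis_le hE hx
  refine ⟨W, hWU, hxW, ?_⟩
  rw [← sum_contr b W le_rfl (rs _ hWU u), ← sum_contr b W le_rfl (rs _ hWU u')]
  refine Finset.sum_congr rfl fun i _ => congrArg _ ?_
  apply (Stalk.mono_iff_app_injective a).mp inferInstance W
  rw [← contr_natural, ← contr_natural, app_rs, app_rs, huu]

/-- A finite locally free module has local dual bases. -/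
lemma hasDBases_of_isFinLocFree (hE : FlatMod.IsFinLocFree E) : HasDBases E := by
  intro x
  obtain ⟨U, n, hxU, ⟨φ⟩⟩ := hE x
  have hle : ∀ V, V ≤ U → V ≤ U.ι ''ᵁ (U.ι ⁻¹ᵁ V) := fun V h x hx =>
    ⟨⟨x, h hx⟩, hx, rfl⟩
  have hle' : ∀ V : X.Opens, U.ι ''ᵁ (U.ι ⁻¹ᵁ V) ≤ V := fun V => U.ι.image_preimage_le V
  let cm : Fin n → (E.restrict U.ι ⟶ Coh.structureModule (U : Scheme.{u})) := fun i =>
    φ.hom ≫ Free.freeHom (M := Coh.structureModule (U : Scheme.{u}))
      (fun j => ((if j = i then 1 else 0 : Γ((U : Scheme.{u}), ⊤)) :))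
  let es : Fin n → Γ(E.restrict U.ι, ⊤) := fun i => φ.inv.app ⊤ (Free.gen _ i)
  have hid : ∑ i, cm i ≫ Free.unitHom (E.restrict U.ι) (es i) = 𝟙 _ := by
    rw [← cancel_epi φ.inv, Category.comp_id, Preadditive.comp_sum]
    refine Free.freeHom_ext fun j => ?_
    refine (map_sum (AddMonoidHom.mk' (fun ψ : FlatMod.freeMod (U : Scheme.{u}) n ⟶
      E.restrict U.ι => ψ.app ⊤ (Free.gen _ j)) fun a b => rfl) _ Finset.univ).trans ?_
    rw [Finset.sum_eq_single j]
    · rw [Category.assoc, Iso.inv_hom_id_assoc]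
      change (Free.unitHom (E.restrict U.ι) (es j)).app ⊤ ((Free.freeHom _).app ⊤ (Free.gen _ j))
        = _
      rw [Free.freeHom_app_gen, if_pos rfl, Free.unitHom_app_one]
    · intro i _ hij
      rw [Category.assoc, Iso.inv_hom_id_assoc]
      change (Free.unitHom (E.restrict U.ι) (es i)).app ⊤ ((Free.freeHom _).app ⊤ (Free.gen _ j))
        = _
      rw [Free.freeHom_app_gen, if_neg (Ne.symm hij)]
      exact map_zero _
    · exact fun h => absurd (Finset.mem_univ j) h
  let fi : Fin n → DualSec E U := fun i =>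
    ⟨fun V =>
      { toFun := fun y => rf (hle V.1 V.2)
          (show Γ(X, U.ι ''ᵁ (U.ι ⁻¹ᵁ V.1)) from
            (cm i).app (U.ι ⁻¹ᵁ V.1) (rs E (hle' V.1) y))
        map_add' := fun a b => by
          rw [rs_add]
          exact (congrArg _ (map_add _ _ _)).trans (map_add (X.presheaf.map _).hom _ _)
        map_smul' := fun r y => by
          rw [rs_smul]
          have h1 := Scheme.Modules.Hom.app_smul (cm i) (U := U.ι ⁻¹ᵁ V.1)
            ((U.ι.appIso _).hom (rf (hle' V.1) r)) (rs E (hle' V.1) y)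
          have h2 : ((U.ι.appIso (U.ι ⁻¹ᵁ V.1)).hom (rf (hle' V.1) r) •
              (show Γ(E.restrict U.ι, U.ι ⁻¹ᵁ V.1) from rs E (hle' V.1) y)) =
              (show Γ(E.restrict U.ι, U.ι ⁻¹ᵁ V.1) from rf (hle' V.1) r • rs E (hle' V.1) y) := by
            change ((U.ι.appIso (U.ι ⁻¹ᵁ V.1)).inv
              ((U.ι.appIso (U.ι ⁻¹ᵁ V.1)).hom (rf (hle' V.1) r)) • rs E (hle' V.1) y :
                Γ(E, U.ι ''ᵁ (U.ι ⁻¹ᵁ V.1))) = _
            rw [Iso.hom_inv_id_apply]
          rw [h2] at h1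
          refine (congrArg _ h1).trans ?_
          refine (map_mul (X.presheaf.map (homOfLE (hle V.1 V.2)).op).hom _ _).trans ?_
          rw [Scheme.Opens.ι_appIso]
          refine congrArg₂ (· * ·) ?_ rfl
          exact (rf_rf _ _ r).trans (Dual.rf_self _ r) },
      fun V W h y => by
        change rf h (rf (hle V.1 V.2) _) = rf (hle W.1 W.2) _
        have hWV : U.ι ⁻¹ᵁ W.1 ≤ U.ι ⁻¹ᵁ V.1 := fun _ hz => h hz
        have h3 : rs E (hle' W.1) (rs E h y) =
            rs (E.restrict U.ι) hWV (rs E (hle' V.1) y) :=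
          (rs_rs E _ _ y).trans (rs_rs E (hle' V.1) (U.ι.image_mono hWV) y).symm
        refine (rf_rf _ _ _).trans ?_
        refine Eq.trans ?_ (congrArg (fun z => rf (hle W.1 W.2)
          (show Γ(X, U.ι ''ᵁ (U.ι ⁻¹ᵁ W.1)) from (cm i).app (U.ι ⁻¹ᵁ W.1) z)) h3).symm
        refine Eq.trans ?_ (congrArg (fun z => rf (hle W.1 W.2)
          (show Γ(X, U.ι ''ᵁ (U.ι ⁻¹ᵁ W.1)) from z))
          (app_rs (cm i) hWV (rs E (hle' V.1) y))).symm
        exact (rf_rf (U.ι.image_mono hWV) (hle W.1 W.2) _).symm⟩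
  refine ⟨U, n, hxU, ⟨{ e := fun i => rs E (hle U le_rfl) (rs E (U.ι.image_mono le_top) (es i))
                        f := fi
                        sum_eq := fun V h y => ?_ }⟩⟩
  have h1 := congrArg (fun ψ : E.restrict U.ι ⟶ E.restrict U.ι =>
    ψ.app (U.ι ⁻¹ᵁ V) (rs E (hle' V) y)) hid
  replace h1 := ((map_sum (AddMonoidHom.mk' (fun ψ : E.restrict U.ι ⟶ E.restrict U.ι =>
    ψ.app (U.ι ⁻¹ᵁ V) (rs E (hle' V) y)) fun a b => rfl) _ Finset.univ).symm).trans h1
  have h2 := congrArg (rs E (hle V h)) h1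
  replace h2 := (rs_sum E Finset.univ (hle V h) _).symm.trans h2
  refine Eq.trans ?_ (h2.trans ((rs_rs E _ _ y).trans (rs_self E _ y)))
  refine Finset.sum_congr rfl fun i _ => ?_
  symm
  change rs E (hle V h) ((Free.unitHom (E.restrict U.ι) (es i)).app (U.ι ⁻¹ᵁ V)
    ((cm i).app (U.ι ⁻¹ᵁ V) (rs E (hle' V) y))) = _
  rw [Free.unitHom_app]
  change rs E (hle V h) ((U.ι.appIso _).inv ((cm i).app (U.ι ⁻¹ᵁ V) (rs E (hle' V) y)) •
    rs E (U.ι.image_mono le_top) (es i)) = _
  rw [rs_smul, rs_rs, rs_rs, rs_rs, Scheme.Opens.ι_appIso]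
  rfl

end Groth.Agent.Lib.Modules.DualBasis
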