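import Groth.Agent.Lib.Modules.BasisHom
import Groth.Agent.Lib.Modules.TensorGen
import Groth.Agent.Lib.Modules.AffineHom
import Groth.Agent.Lib.Modules.LocalSections
import Groth.Prelude.Def_ExtPow2

/-!
# Exterior powers of invertible twists
-/

set_option autoImplicit false
set_option linter.style.haveILetI false
universe u

open CategoryTheory CategoryTheory.Limits AlgebraicGeometry Opposite TopologicalSpace

namespace Groth.Agent.Lib.Modules.ExtPowTwist

open Groth.Agent.Lib Modules.TensorGen Modules.LocalSections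
open Groth.Agent.Lib.TensorMod.Dual (rs rf rs_smul rs_rs rf_rf rs_self rf_self)
open Groth.Agent.Lib.TensorMod.Gen (IsGen)
open Groth.Agent.Lib.Modules.TensorSec (app_rs)

variable {X : Scheme.{u}} {E L M N : X.Modules} {k : ℕ}
  (φM : ∀ U : X.affineOpens, Γ(M, U.1) ≃ₗ[Γ(X, U.1)] ↥(⋀[Γ(X, U.1)]^k Γ(CohB1.tensorMod E L, U.1)))
  (hM : ∀ (U V : X.affineOpens) (h : V.1 ≤ U.1) (e : Fin k → Γ(CohB1.tensorMod E L, U.1)),
    rs M h ((φM U).symm (exteriorPower.ιMulti _ k e)) =
      (φM V).symm (exteriorPower.ιMulti _ k fun j => rs _ h (e j)))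
  (φN : ∀ U : X.affineOpens, Γ(N, U.1) ≃ₗ[Γ(X, U.1)] ↥(⋀[Γ(X, U.1)]^k Γ(E, U.1)))
  (hN : ∀ (U V : X.affineOpens) (h : V.1 ≤ U.1) (e : Fin k → Γ(E, U.1)),
    rs N h ((φN U).symm (exteriorPower.ιMulti _ k e)) =
      (φN V).symm (exteriorPower.ιMulti _ k fun j => rs _ h (e j)))

/-- The constant power of a section. -/
noncomputable abbrev G {U : X.Opens} (k : ℕ) (a : Γ(L, U)) : Γ(CohB1.tensorPow L k, U) :=
  KoszTw.tprod L k U fun _ => a

theorem G_smul {U : X.Opens} (r : Γ(X, U)) (a : Γ(L, U)) : ∀ q, G q (r • a) = r ^ q • G q a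
  | 0 => by rw [pow_zero, one_smul]; rfl
  | q + 1 => by
    show (SecTwist.tmul _ _ U (G q (r • a)) (r • a) :
      Γ(CohB1.tensorMod (CohB1.tensorPow L q) L, U)) = _
    rw [G_smul r a q, Ample.GenLocus.tmul_smul, ← pow_succ]
    rfl

theorem tg_smul {P A : X.Modules} {U : X.Opens} (r : Γ(X, U)) (a : Γ(P, U)) : tg A (r • a) = r • tg A a := by
  refine LinearMap.ext fun m => ?_
  rw [LinearMap.smul_apply, tg_apply, tg_apply]
  conv_lhs => rw [← one_smul Γ(X, U) m]
  rw [Ample.GenLocus.tmul_smul, one_mul]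
  rfl

/-- `e ↦ e ⊗ a` on exterior powers. -/
noncomputable def val (U : X.affineOpens) (a : Γ(L, U.1)) : Γ(N, U.1) →ₗ[Γ(X, U.1)] Γ(M, U.1) :=
  (φM U).symm.toLinearMap ∘ₗ exteriorPower.map k (tg E a) ∘ₗ (φN U).toLinearMap

include hM hN in
theorem rs_val (U V : X.affineOpens) (h : V.1 ≤ U.1) (a : Γ(L, U.1)) (l : Γ(N, U.1)) :
    rs _ h (val φM φN U a l) = val φM φN V (rs _ h a) (rs N h l) := by
  obtain ⟨t, rfl⟩ := (φN U).symm.surjective l
  have ht : t ∈ Submodule.span Γ(X, U.1)
      (Set.range (exteriorPower.ιMulti Γ(X, U.1) k (M := Γ(E, U.1)))) := by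
    rw [exteriorPower.ιMulti_span]; trivial
  induction ht using Submodule.span_induction with
  | mem t ht =>
    obtain ⟨e, rfl⟩ := ht
    rw [hN U V h e]
    simp only [val, LinearMap.comp_apply, LinearEquiv.coe_coe, LinearEquiv.apply_symm_apply,
      exteriorPower.map_apply_ιMulti]
    refine (hM U V h _).trans ?_
    exact congrArg _ (congrArg _ (funext fun j => rs_tg h a (e j)))
  | zero => simp only [map_zero, Modules.TensorSec.rs_zero]
  | add a b _ _ ha hb => simp only [map_add, Modules.TensorSec.rs_add, ha, hb]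
  | smul r b _ hb => simp only [map_smul, rs_smul, hb]

theorem val_smul (U : X.affineOpens) (r : Γ(X, U.1)) (a : Γ(L, U.1)) :
    val φM φN U (r • a) = r ^ k • val φM φN U a := by
  have h : exteriorPower.map k (tg E (r • a)) = r ^ k • exteriorPower.map k (tg E a) := by
    refine exteriorPower.linearMap_ext ?_
    ext e
    simp only [LinearMap.compAlternatingMap_apply, LinearMap.smul_apply, exteriorPower.map_apply_ιMulti]
    rw [show ⇑(tg E (r • a)) ∘ e = fun i => r • (tg E a ∘ e) i from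
      funext fun i => by rw [Function.comp_apply, tg_smul]; rfl,
      AlternatingMap.map_smul_univ, Finset.prod_const, Finset.card_univ, Fintype.card_fin]
  refine LinearMap.ext fun l => ?_
  simp only [val, LinearMap.comp_apply, LinearEquiv.coe_coe, h, LinearMap.smul_apply, map_smul]

theorem val_bijective (U : X.affineOpens) {a : Γ(L, U.1)} (ha : IsGen L U.1 a) :
    Function.Bijective (val φM φN U a) := by
  let T := LinearEquiv.ofBijective (tg E a) (tg_bijective ha)
  have h1 : Function.Bijective (exteriorPower.map k (tg E a)) := by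
    constructor
    · refine Function.LeftInverse.injective (g := exteriorPower.map k T.symm.toLinearMap) fun w => ?_
      rw [← LinearMap.comp_apply, ← exteriorPower.map_comp,
        show T.symm.toLinearMap ∘ₗ tg E a = LinearMap.id from T.symm_comp, exteriorPower.map_id]
      rfl
    · refine Function.RightInverse.surjective (g := exteriorPower.map k T.symm.toLinearMap) fun w => ?_
      rw [← LinearMap.comp_apply, ← exteriorPower.map_comp,
        show tg E a ∘ₗ T.symm.toLinearMap = LinearMap.id from T.comp_symm, exteriorPower.map_id]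
      rfl
  exact ((φM U).symm.bijective.comp h1).comp (φN U).bijective

include hM hN in
theorem nonempty_iso (hL : PicF.IsInvertible L) :
    Nonempty (M ≅ CohB1.tensorMod N (CohB1.tensorPow L k)) := by
  let P : X.affineOpens → Prop := fun U => ∃ a, IsGen L U.1 a
  have hP : ∀ {V : X.Opens} {p : X}, p ∈ V → ∃ U : X.affineOpens, P U ∧ U.1 ≤ V ∧ p ∈ U.1 := fun {V p} hp => by
    obtain ⟨U₁, a, hp₁, ha⟩ := TensorMod.Gen.isInvertible_iff.1 hL p
    obtain ⟨U, hU, hpU⟩ := Modules.AffineHom.exists_affine (show p ∈ V ⊓ U₁ from ⟨hp, hp₁⟩)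
    exact ⟨U, ⟨_, ha.res (hU.trans inf_le_right)⟩, hU.trans inf_le_left, hpU⟩
  let T : ∀ (U : X.affineOpens) (hU : P U),
      Γ(N, U.1) ≃ₗ[Γ(X, U.1)] Γ(CohB1.tensorMod N (CohB1.tensorPow L k), U.1) :=
    fun U hU => LinearEquiv.ofBijective (tg N (G k hU.choose)) (tg_bijective (isGen_tprodConst hU.choose_spec k))
  have hT : ∀ (U : X.affineOpens) (hU : P U) (a : Γ(L, U.1)) (l : Γ(N, U.1)),
      val φM φN U hU.choose ((T U hU).symm (tg N (G k a) l)) = val φM φN U a l := by
    intro U hU a l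
    obtain ⟨r, hr⟩ := Ample.GenLocus.exists_coord hU.choose_spec a
    have : (T U hU).symm (tg N (G k a) l) = r ^ k • l := by
      rw [LinearEquiv.symm_apply_eq]
      show tg N (G k a) l = tg N (G k hU.choose) (r ^ k • l)
      rw [hr, G_smul, tg_smul, LinearMap.smul_apply, map_smul]
    rw [this, map_smul, hr, val_smul, LinearMap.smul_apply]
  obtain ⟨ψ, hψ⟩ := Modules.BasisHom.exists_hom_of_basis (P := P) hP
    (fun U hU => val φM φN U hU.choose ∘ₗ (T U hU).symm.toLinearMap) fun U V hU hV h m => by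
      obtain ⟨l, rfl⟩ := (T U hU).surjective m
      simp only [LinearMap.comp_apply, LinearEquiv.coe_coe, LinearEquiv.symm_apply_apply]
      rw [rs_val φM hM φN hN U V h, ← hT V hV (rs _ h hU.choose)]
      congr 2
      show _ = rs _ h (tg N (G k hU.choose) l)
      rw [rs_tg]
      exact congrArg (fun t => tg N t (rs N h l)) (KoszTw.map_tprod L k (homOfLE h) fun _ => hU.choose).symm
  have hbij : ∀ (U : X.affineOpens), P U → Function.Bijective (ψ.app U.1) := fun U hU => by
    rw [show ⇑(ψ.app U.1) = ⇑(val φM φN U hU.choose ∘ₗ (T U hU).symm.toLinearMap) from funext (hψ U hU)]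
    exact (val_bijective φM φN U hU.choose_spec).comp (T U hU).symm.bijective
  haveI : Mono ψ := mono_of_local fun V m hm p hp => by
    obtain ⟨U, hU, hUV, hpU⟩ := hP hp
    exact ⟨U.1, hUV, hpU, (hbij U hU).1 (by rw [app_rs, hm, Modules.TensorSec.rs_zero, map_zero])⟩
  haveI : Epi ψ := epi_of_local fun V m p hp => by
    obtain ⟨U, hU, hUV, hpU⟩ := hP hp
    obtain ⟨t, ht⟩ := (hbij U hU).2 (rs _ hUV m)
    exact ⟨U.1, hUV, t, hpU, ht⟩
  haveI := isIso_of_mono_of_epi ψ
  exact ⟨(asIso ψ).symm⟩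

end Groth.Agent.Lib.Modules.ExtPowTwist
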