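import Groth.Agent.Lib.Modules.SupportOps
import Groth.Agent.Lib.PushClosed.Torsion
import Groth.Agent.Lib.CohBasics.Affine
import Groth.Agent.Lib.QCoh.Localizing

/-!
# Modules living on a closed subscheme; scheme-theoretic support
-/

set_option autoImplicit false
universe u

open CategoryTheory Limits AlgebraicGeometry Opposite TopologicalSpace
open scoped TensorProduct

namespace Groth.Agent.Lib.Modules.ClosedUnit

open Groth.Agent.Lib

noncomputable section

variable {Z X : Scheme.{u}} (i : Z ⟶ X) [IsClosedImmersion i] (G : X.Modules)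

local notation "Adj" => Scheme.Modules.pullbackPushforwardAdjunction

/-- The unit is an isomorphism when the ideal kills the sections. -/
theorem isIso_unit (h : ∀ (U : X.affineOpens) (a : Γ(X, U.1)), a ∈ i.ker.ideal U →
      ∀ s : Γ(G, U.1), a • s = 0) :
    IsIso ((Adj i).unit.app G) := by
  rw [StalkModule.isIso_iff_stalkMapₗ_bijective]
  intro x
  refine ⟨?_, (StalkModule.epi_iff_stalkMapₗ_surjective _).mp (PushClosed.Unit.epi_unit i G) x⟩
  rw [injective_iff_map_eq_zero]
  intro a ha
  have hrep : ∀ b : G.presheaf.stalk x, ∃ (U : X.affineOpens) (hx : x ∈ U.1) (s : Γ(G, U.1)),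
      G.presheaf.germ U.1 x hx s = b := fun b => by
    obtain ⟨W, hxW, s, rfl⟩ := TopCat.Presheaf.exists_germ_eq G.presheaf b
    obtain ⟨U, hU, hxU, hUW⟩ := exists_isAffineOpen_mem_and_subset hxW
    exact ⟨⟨U, hU⟩, hxU, G.presheaf.map (homOfLE hUW).op s,
      TopCat.Presheaf.germ_res_apply _ _ _ _ _⟩
  by_cases hxZ : x ∈ Set.range i
  swap
  · obtain ⟨U, hx, s, rfl⟩ := hrep a
    exact PushClosed.Torsion.germ_eq_zero_of_notMem i U s (fun r hr => h U r hr s) hx hxZ
  obtain ⟨z, rfl⟩ := hxZ
  let φ := (i.stalkMap z).hom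
  letI : Algebra (X.presheaf.stalk (i.base z)) (Z.presheaf.stalk z) := φ.toAlgebra
  have hkill : ∀ c, φ c = 0 → ∀ b : G.presheaf.stalk (i.base z), c • b = 0 := fun c hc b => by
    obtain ⟨U, hx, s, rfl⟩ := hrep b
    exact PushClosed.Torsion.smul_germ_eq_zero_of_stalkMap i U s (fun r hr => h U r hr s) z hx c hc
  have hsurj : Function.Surjective φ := i.stalkMap_surjective z
  choose σ hσ using hsurj
  have heq : ∀ c c', φ c = φ c' → ∀ b : G.presheaf.stalk (i.base z), c • b = c' • b :=
    fun c c' e b => sub_eq_zero.mp (by rw [← sub_smul]; exact hkill _ (by rw [map_sub, e, sub_self]) b)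
  let β : Z.presheaf.stalk z →ₗ[X.presheaf.stalk (i.base z)]
      (G.presheaf.stalk (i.base z) →ₗ[X.presheaf.stalk (i.base z)] G.presheaf.stalk (i.base z)) :=
    { toFun := fun c => σ c • LinearMap.id
      map_add' := fun c c' => LinearMap.ext fun b => by
        simp only [LinearMap.smul_apply, LinearMap.id_apply, LinearMap.add_apply]
        rw [← add_smul]
        exact heq _ _ (by rw [map_add, hσ, hσ, hσ]) b
      map_smul' := fun r c => LinearMap.ext fun b => by
        simp only [LinearMap.smul_apply, LinearMap.id_apply, RingHom.id_apply, smul_smul]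
        exact heq _ _ (by rw [map_mul, hσ, hσ, Algebra.smul_def]; rfl) b }
  have h1 : TensorProduct.lift β ((1 : Z.presheaf.stalk z) ⊗ₜ a) = a := by
    rw [TensorProduct.lift.tmul]
    show σ 1 • a = a
    refine (heq _ 1 (by rw [hσ, map_one]) a).trans (one_smul _ _)
  rw [← h1]
  refine Eq.trans (congrArg _ ?_) (map_zero (TensorProduct.lift β))
  haveI := DerivedOX.PullbackStalk.isIso_comparison i z
  refine (ConcreteCategory.bijective_of_isIso
    ((DerivedOX.PullbackStalk.comparison i z).app G)).1 ?_
  refine (DerivedOX.PullbackStalk.comparison_one_tmul i z G a).trans ?_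
  rw [ha]
  exact (map_zero _).trans (map_zero ((DerivedOX.PullbackStalk.comparison i z).app G).hom).symm

/-- If the unit is an isomorphism then the ideal kills the sections. -/
theorem smul_eq_zero_of_isIso_unit [IsIso ((Adj i).unit.app G)] (U : X.affineOpens)
    (a : Γ(X, U.1)) (ha : a ∈ i.ker.ideal U) (s : Γ(G, U.1)) : a • s = 0 := by
  have hb := (Stalk.isIso_iff_app_bijective ((Adj i).unit.app G)).mp inferInstance U.1
  refine hb.1 ?_
  rw [map_zero, Scheme.Modules.Hom.app_smul]
  change (i.app U.1).hom a • (show Γ((Scheme.Modules.pullback i).obj G, i ⁻¹ᵁ U.1) from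
    ((Adj i).unit.app G).app U.1 s) = 0
  rw [Scheme.Hom.ker_apply, RingHom.mem_ker] at ha
  rw [ha, zero_smul]

theorem isIso_unit_iff :
    IsIso ((Adj i).unit.app G) ↔ ∀ (U : X.affineOpens) (a : Γ(X, U.1)), a ∈ i.ker.ideal U →
      ∀ s : Γ(G, U.1), a • s = 0 :=
  ⟨fun _ => smul_eq_zero_of_isIso_unit i G, isIso_unit i G⟩

section SupportIdeal

variable (F : X.Modules) [F.IsQuasicoherent] [SheafOfModules.IsFiniteType (R := X.ringCatSheaf) F]

/-- The annihilator ideal sheaf. -/
def annIdeal : X.IdealSheafData where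
  ideal U := Module.annihilator Γ(X, U.1) Γ(F, U.1)
  map_ideal_basicOpen U f := by
    classical
    have hloc := QCoh.Localizing.localizes_of_isAffineOpen F U.2 f
    have hu : IsUnit (QCoh.Localizing.resR (X.basicOpen_le f) f) :=
      RingedSpace.isUnit_res_basicOpen X.toRingedSpace f
    refine le_antisymm (Ideal.map_le_iff_le_comap.mpr fun a ha => ?_) fun b hb => ?_
    · refine Ideal.mem_comap.mpr (show (X.presheaf.map (homOfLE (X.basicOpen_le f)).op).hom a ∈
        Module.annihilator Γ(X, X.basicOpen f) Γ(F, X.basicOpen f) from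
        Module.mem_annihilator.mpr fun y => ?_)
      obtain ⟨n, t, ht⟩ := hloc.ext' y
      change QCoh.Localizing.resR (X.basicOpen_le f) a • (show Γ(F, X.basicOpen f) from y) = 0
      refine (hu.pow n).smul_eq_zero.mp ?_
      rw [smul_comm, ← ht, ← QCoh.Localizing.res_smul, Module.mem_annihilator.mp ha t, map_zero]
    · have inst := U.2.isLocalization_basicOpen f
      obtain ⟨⟨a, ⟨-, k, rfl⟩⟩, hk⟩ :=
        IsLocalization.surj (Submonoid.powers f) (show Γ(X, X.basicOpen f) from b)
      have hk' : (show Γ(X, X.basicOpen f) from b) * QCoh.Localizing.resR (X.basicOpen_le f) f ^ k =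
          QCoh.Localizing.resR (X.basicOpen_le f) a := by rw [← map_pow]; exact hk
      have hfin := CohBasics.Affine.finite_sections (M := F) U.2
      obtain ⟨S, hS⟩ := hfin.fg_top
      have hkill : ∀ t : Γ(F, U.1), ∃ n, f ^ n • a • t = 0 := fun t => hloc.sep (a • t) (by
        rw [QCoh.Localizing.res_smul, ← hk', mul_comm, mul_smul]
        have h0 : (show Γ(X, X.basicOpen f) from b) • QCoh.Localizing.res F (X.basicOpen_le f) t = 0 :=
          Module.mem_annihilator.mp (show _ ∈ Module.annihilator Γ(X, X.basicOpen f)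
            Γ(F, X.basicOpen f) from hb) _
        rw [h0, smul_zero])
      choose n hn using hkill
      have hann : f ^ S.sup n * a ∈ Module.annihilator Γ(X, U.1) Γ(F, U.1) := by
        rw [Module.mem_annihilator]
        intro t
        have ht : t ∈ Submodule.span Γ(X, U.1) (S : Set Γ(F, U.1)) := hS ▸ Submodule.mem_top
        induction ht using Submodule.span_induction with
        | mem t ht =>
          obtain ⟨d, hd⟩ := Nat.exists_eq_add_of_le (Finset.le_sup (f := n) ht)
          rw [hd, pow_add, mul_comm (f ^ n t), mul_assoc, mul_smul, mul_smul, hn t, smul_zero]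
        | zero => rw [smul_zero]
        | add x y _ _ hx hy => rw [smul_add, hx, hy, add_zero]
        | smul c x _ hx => rw [smul_comm, hx, smul_zero]
      have hm := Ideal.mem_map_of_mem (X.presheaf.map (homOfLE (X.basicOpen_le f)).op).hom hann
      have e : QCoh.Localizing.resR (X.basicOpen_le f) (f ^ S.sup n * a) =
          QCoh.Localizing.resR (X.basicOpen_le f) f ^ (S.sup n + k) *
            (show Γ(X, X.basicOpen f) from b) := by
        rw [map_mul, map_pow, ← hk', pow_add]; ring
      change QCoh.Localizing.resR (X.basicOpen_le f) (f ^ S.sup n * a) ∈ _ at hm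
      rw [e] at hm
      exact (Ideal.unit_mul_mem_iff_mem _ (hu.pow _)).mp hm

lemma annIdeal_ideal (U : X.affineOpens) :
    (annIdeal F).ideal U = Module.annihilator Γ(X, U.1) Γ(F, U.1) := rfl

theorem support_annIdeal : ((annIdeal F).support : Set X) = CohB1.support F := by
  classical
  ext x
  obtain ⟨U, hU, hx, -⟩ := exists_isAffineOpen_mem_and_subset (U := ⊤) (x := x) trivial
  rw [SetLike.mem_coe, Scheme.IdealSheafData.mem_support_iff_of_mem (U := ⟨U, hU⟩) hx,
    Scheme.mem_zeroLocus_iff]
  refine not_iff_not.mp ?_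
  rw [SupportOps.not_mem_support_iff_forall_smul F hU hx]
  push Not
  constructor
  · rintro ⟨a, ha, hxa⟩ s
    exact ⟨a, hxa, Module.mem_annihilator.mp ha s⟩
  · intro h
    choose f hf hfs using h
    obtain ⟨S, hS⟩ := (CohBasics.Affine.finite_sections (M := F) hU).fg_top
    refine ⟨∏ t ∈ S, f t, ?_, Finset.prod_induction _ (fun a => x ∈ X.basicOpen a)
      (fun a b ha hb => by rw [Scheme.basicOpen_mul]; exact ⟨ha, hb⟩)
      (by rw [Scheme.basicOpen_of_isUnit X isUnit_one]; exact hx) fun t _ => hf t⟩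
    change _ ∈ Module.annihilator _ _
    rw [Module.mem_annihilator]
    intro s
    have hs : s ∈ Submodule.span Γ(X, U) (S : Set Γ(F, U)) := hS ▸ Submodule.mem_top
    induction hs using Submodule.span_induction with
    | mem t ht => rw [← Finset.prod_erase_mul _ _ ht, mul_smul, hfs t, smul_zero]
    | zero => rw [smul_zero]
    | add a b _ _ ha hb => rw [smul_add, ha, hb, add_zero]
    | smul c a _ ha => rw [smul_comm, ha, smul_zero]

theorem isIso_unit_annIdeal : IsIso ((Adj (annIdeal F).subschemeι).unit.app F) :=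
  isIso_unit _ F fun U a ha s => by
    rw [Scheme.IdealSheafData.ker_subschemeι] at ha
    exact Module.mem_annihilator.mp ha s

theorem le_annIdeal (J : X.IdealSheafData) [IsIso ((Adj J.subschemeι).unit.app F)] :
    J ≤ annIdeal F := fun U a ha => Module.mem_annihilator.mpr fun s =>
  smul_eq_zero_of_isIso_unit J.subschemeι F U a (by rwa [Scheme.IdealSheafData.ker_subschemeι]) s

/-- A power of an ideal whose zero set contains the support kills the module. -/
theorem exists_pow_smul_eq_zero [IsLocallyNoetherian X] [CompactSpace X] (J : X.IdealSheafData)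
    (h : CohB1.support F ⊆ (J.support : Set X)) :
    ∃ n : ℕ, ∀ (U : X.affineOpens) (a : Γ(X, U.1)), a ∈ J.ideal U ^ n →
      ∀ s : Γ(F, U.1), a • s = 0 := by
  classical
  have hrad : ∀ V : X.affineOpens, ∃ n : ℕ, J.ideal V ^ n ≤ (annIdeal F).ideal V := by
    intro V
    haveI : IsNoetherianRing Γ(X, V.1) := IsLocallyNoetherian.component_noetherian V
    refine Ideal.exists_pow_le_of_le_radical_of_fg ?_ (IsNoetherian.noetherian _)
    rw [Ideal.radical_eq_sInf]
    refine le_sInf fun p hp => ?_
    obtain ⟨hle, hprime⟩ := hp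
    let q : Spec Γ(X, V.1) := ⟨p, hprime⟩
    have hqV : V.2.fromSpec q ∈ V.1 := by
      have : V.2.fromSpec q ∈ Set.range V.2.fromSpec := ⟨q, rfl⟩
      rwa [V.2.range_fromSpec] at this
    have key : ∀ a : Γ(X, V.1), V.2.fromSpec q ∈ X.basicOpen a ↔ a ∉ p := fun a => by
      show q ∈ V.2.fromSpec ⁻¹ᵁ X.basicOpen a ↔ _
      rw [V.2.fromSpec_preimage_basicOpen]
      rfl
    have hsupp : V.2.fromSpec q ∈ (annIdeal F).support := by
      rw [Scheme.IdealSheafData.mem_support_iff_of_mem (U := V) hqV, Scheme.mem_zeroLocus_iff]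
      exact fun a ha hq => (key a).mp hq (hle ha)
    have hJ : V.2.fromSpec q ∈ J.support := h (by rw [← support_annIdeal F]; exact hsupp)
    rw [Scheme.IdealSheafData.mem_support_iff_of_mem (U := V) hqV, Scheme.mem_zeroLocus_iff] at hJ
    intro a ha
    by_contra hap
    exact hJ a ha ((key a).mpr hap)
  choose n hn using hrad
  choose A hA hxA hAT using fun x : X =>
    exists_isAffineOpen_mem_and_subset (U := (⊤ : X.Opens)) (x := x) trivial
  obtain ⟨K, hK⟩ := isCompact_univ.elim_finite_subcover (fun x : X => (A x : Set X))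
    (fun x => (A x).2) fun y _ => Set.mem_iUnion.mpr ⟨y, hxA y⟩
  refine ⟨K.sup fun x => n ⟨A x, hA x⟩, fun U a ha s => ?_⟩
  refine Support.eq_zero_of_germ_eq_zero _ fun y hy _ => ?_
  obtain ⟨x, hxK, hyx⟩ := Set.mem_iUnion₂.mp (hK (Set.mem_univ y))
  obtain ⟨f, g, e, hyf⟩ := exists_basicOpen_le_affine_inter U.2 (hA x) y ⟨hy, hyx⟩
  have hD : X.affineBasicOpen f = X.affineBasicOpen (U := ⟨A x, hA x⟩) g := Subtype.ext e
  have hle : J.ideal (X.affineBasicOpen f) ^ (K.sup fun x => n ⟨A x, hA x⟩) ≤
      (annIdeal F).ideal (X.affineBasicOpen f) := by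
    rw [hD, ← J.map_ideal_basicOpen ⟨A x, hA x⟩ g, ← (annIdeal F).map_ideal_basicOpen ⟨A x, hA x⟩ g]
    refine le_of_eq_of_le (Ideal.map_pow _ _ _).symm ?_
    exact Ideal.map_mono
      ((Ideal.pow_le_pow_right (Finset.le_sup (f := fun x => n ⟨A x, hA x⟩) hxK)).trans (hn _))
  have hmem : QCoh.Localizing.resR (X.basicOpen_le f) a ∈
      (annIdeal F).ideal (X.affineBasicOpen f) := by
    refine hle ?_
    rw [← J.map_ideal_basicOpen U f]
    exact (Ideal.map_pow _ _ _).le (Ideal.mem_map_of_mem _ ha)
  have h0 : QCoh.Localizing.res F (X.basicOpen_le f) (a • s) = 0 := by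
    rw [QCoh.Localizing.res_smul]
    exact Module.mem_annihilator.mp (show _ ∈ Module.annihilator Γ(X, X.basicOpen f)
      Γ(F, X.basicOpen f) from hmem) _
  rw [← TopCat.Presheaf.germ_res_apply F.presheaf (homOfLE (X.basicOpen_le f)) y hyf (a • s)]
  exact (congrArg _ h0).trans (map_zero _)

end SupportIdeal

end

end Groth.Agent.Lib.Modules.ClosedUnit
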