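import Mathlib.CategoryTheory.Adjunction.Basic
import Mathlib.CategoryTheory.Adjunction.Additive
import Mathlib.CategoryTheory.Preadditive.Injective.Preserves
import Mathlib.Algebra.Homology.ShortComplex.ExactFunctor
import Groth.Agent.Lib.Modules.DualBasis
import Groth.Agent.Lib.TensorMod.Colimit

/-!
# `dual E ⊗ - ⊣ E ⊗ -` for finite locally free `E`; `E ⊗ -` is exact and preserves injectives
-/

universe u

open CategoryTheory Limits AlgebraicGeometry Opposite TopologicalSpace

namespace Groth.Agent.Lib.Modules.DualAdj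

open Groth.Agent.Lib.TensorMod
open Groth.Agent.Lib.TensorMod.Basic (tmap tensorFunctor)
open Groth.Agent.Lib.TensorMod.Free (pairM)
open Groth.Agent.Lib.TensorMod.Dual (rs rf DualSec dual dualRes rs_rs rf_rf rs_smul rs_self)
open Groth.Agent.Lib.Modules.TensorSec Groth.Agent.Lib.Modules.DualBasis

variable {X : Scheme.{u}} {E M M' N N' : X.Modules} {U V : X.Opens} {n : ℕ}

/-- A section of the dual, as a family of forms. -/
abbrev toForm (φ : Γ(dual E, U)) : DualSec E U := φ

/-- A family of forms, as a section of the dual. -/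
abbrev toSec (φ : DualSec E U) : Γ(dual E, U) := φ

lemma contr_add_left (φ ψ : DualSec E U) (h : V ≤ U) (u : Γ(CohB1.tensorMod E N, V)) :
    contr (φ + ψ) N h u = contr φ N h u + contr ψ N h u := by
  refine TensorSec.induction_on (U := U) (P := fun V h u =>
    contr (φ + ψ) N h u = contr φ N h u + contr ψ N h u) ?_ ?_ ?_ ?_ V h u
  · intro V hV w hw
    refine section_ext _ _ _ fun x hx => ?_
    obtain ⟨W, hW, hxW, e⟩ := hw x hx
    refine ⟨W, hW, hxW, ?_⟩
    simp only [rs_add, rs_contr]
    exact e
  · intro V hV; simp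
  · intro V hV a b ha hb; simp only [map_add, ha, hb]; abel
  · intro V hV x m; rw [contr_tens, contr_tens, contr_tens, Dual.add_app, add_smul]

lemma contr_smul_left (r : Γ(X, U)) (φ : DualSec E U) (h : V ≤ U)
    (u : Γ(CohB1.tensorMod E N, V)) :
    contr (r • φ) N h u = rf h r • contr φ N h u := by
  refine TensorSec.induction_on (U := U) (P := fun V h u =>
    contr (r • φ) N h u = rf h r • contr φ N h u) ?_ ?_ ?_ ?_ V h u
  · intro V hV w hw
    refine section_ext _ _ _ fun x hx => ?_
    obtain ⟨W, hW, hxW, e⟩ := hw x hx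
    refine ⟨W, hW, hxW, ?_⟩
    rw [rs_smul, rf_rf, rs_contr, rs_contr]
    exact e
  · intro V hV; simp
  · intro V hV a b ha hb; simp only [map_add, ha, hb, smul_add]
  · intro V hV x m; rw [contr_tens, contr_tens, Dual.smul_app, mul_smul]

lemma contr_smul (φ : DualSec E U) (h : V ≤ U) (r : Γ(X, V)) (u : Γ(CohB1.tensorMod E N, V)) :
    contr φ N h (r • u) = r • contr φ N h u := by
  refine TensorSec.induction_on (U := V) (P := fun W hW a =>
    contr φ N (hW.trans h) (rf hW r • a) = rf hW r • contr φ N (hW.trans h) a)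
    ?_ ?_ ?_ ?_ V le_rfl u |> fun e => by simpa only [Dual.rf_self] using e
  · intro W hW w hw
    refine section_ext _ _ _ fun x hx => ?_
    obtain ⟨W', hW', hxW, e⟩ := hw x hx
    refine ⟨W', hW', hxW, ?_⟩
    rw [rs_contr, rs_smul, rs_smul, rf_rf, rs_contr]
    exact e
  · intro W hW; rw [smul_zero, map_zero, smul_zero]
  · intro W hW a b ha hb; simp only [smul_add, map_add, ha, hb]
  · intro W hW x m; rw [← tens_smul_right, contr_tens, contr_tens, smul_comm]

lemma contr_dualRes {W : X.Opens} (φ : DualSec E U) (h : V ≤ U) (h' : W ≤ V)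
    (u : Γ(CohB1.tensorMod E N, W)) :
    contr (dualRes E h φ) N h' u = contr φ N (h'.trans h) u := by
  refine TensorSec.induction_on (U := W) (P := fun W' hW' u =>
    contr (dualRes E h φ) N (hW'.trans h') u = contr φ N ((hW'.trans h').trans h) u)
    ?_ ?_ ?_ ?_ W le_rfl u
  · intro W' hW' w hw
    refine section_ext _ _ _ fun x hx => ?_
    obtain ⟨W'', hW'', hxW, e⟩ := hw x hx
    refine ⟨W'', hW'', hxW, ?_⟩
    rw [rs_contr, rs_contr]
    exact e
  · intro W' hW'; simp
  · intro W' hW' a b ha hb; simp only [map_add, ha, hb]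
  · intro W' hW' x m; rw [contr_tens, contr_tens]; rfl

lemma exists_counit (E N : X.Modules) :
    ∃ g : CohB1.tensorMod (dual E) (CohB1.tensorMod E N) ⟶ N,
      ∀ U (φ : Γ(dual E, U)) u, pairM g φ u = contr (toForm φ) N le_rfl u :=
  Pullback.exists_hom_of_pairing (M := dual E) (N := CohB1.tensorMod E N) (H := N)
    (fun U φ u => contr (toForm φ) N le_rfl u)
    (fun U φ ψ u => contr_add_left (toForm φ) ψ le_rfl u)
    (fun U φ u u' => map_add _ u u')
    (fun U r φ u => (contr_smul_left r (toForm φ) le_rfl u).trans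
      (by rw [Dual.rf_self]))
    (fun U r φ u => contr_smul _ le_rfl r u)
    (fun U W i φ u => (rs_contr (toForm φ) le_rfl (leOfHom i) u).trans
      (contr_dualRes _ (leOfHom i) le_rfl _).symm)

/-- The contraction `dual E ⊗ (E ⊗ N) ⟶ N`. -/
noncomputable def counit (E N : X.Modules) :
    CohB1.tensorMod (dual E) (CohB1.tensorMod E N) ⟶ N :=
  (exists_counit E N).choose

lemma counit_tens (φ : Γ(dual E, U)) (u : Γ(CohB1.tensorMod E N, U)) :
    (counit E N).app U (tens φ u) = contr (toForm φ) N le_rfl u := by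
  rw [app_tens]
  exact (exists_counit E N).choose_spec U φ u

/-- The value of the unit computed with a dual basis. -/
noncomputable def etaVal (b : DBasis E U n) (m : Γ(M, U)) :
    Γ(CohB1.tensorMod E (CohB1.tensorMod (dual E) M), U) :=
  ∑ i, tens (b.e i) (tens (toSec (b.f i)) m)

lemma etaVal_res (b : DBasis E U n) (m : Γ(M, U)) (h : V ≤ U) :
    rs _ h (etaVal b m) = etaVal (b.res h) (rs M h m) := by
  rw [etaVal, rs_sum]
  refine Finset.sum_congr rfl fun i _ => ?_
  rw [rs_tens, rs_tens]
  rfl

lemma etaVal_indep {n' : ℕ} (b : DBasis E U n) (c : DBasis E U n') (m : Γ(M, U)) :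
    etaVal b m = etaVal c m := by
  have hc : ∀ j, ∑ i, (b.f i).app le_rfl (c.e j) • b.e i = c.e j := fun j => by
    have := b.sum_eq U le_rfl (c.e j)
    simpa only [rs_self] using this
  have hb : ∀ i, (toSec (b.f i)) =
      ∑ j, (b.f i).app le_rfl (c.e j) • (toSec (c.f j)) := fun i =>
    (sum_dual c (b.f i)).symm
  simp only [etaVal]
  conv_lhs => enter [2, i]; rw [hb i, tens_sum_left, tens_sum_right]
  rw [Finset.sum_comm]
  refine Finset.sum_congr rfl fun j _ => ?_
  conv_rhs => rw [← hc j, tens_sum_left]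
  exact Finset.sum_congr rfl fun i _ => by
    rw [tens_smul_left, tens_smul_right, tens_smul_left]

variable (hE : HasDBases E)

/-- The property defining the unit. -/
def IsEta (m : Γ(M, U)) (s : Γ(CohB1.tensorMod E (CohB1.tensorMod (dual E) M), U)) : Prop :=
  ∀ (W : X.Opens) (hW : W ≤ U) (k : ℕ) (b : DBasis E W k),
    rs _ hW s = etaVal b (rs M hW m)

include hE in
lemma isEta_unique {m : Γ(M, U)} {s t : Γ(CohB1.tensorMod E (CohB1.tensorMod (dual E) M), U)}
    (hs : IsEta m s) (ht : IsEta m t) : s = t := by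
  refine section_ext _ _ _ fun x hx => ?_
  obtain ⟨W, k, hxW, hWU, ⟨b⟩⟩ := exists_dBasis_le hE hx
  exact ⟨W, hWU, hxW, (hs W hWU k b).trans (ht W hWU k b).symm⟩

include hE in
lemma exists_isEta (m : Γ(M, U)) :
    ∃ s : Γ(CohB1.tensorMod E (CohB1.tensorMod (dual E) M), U), IsEta m s := by
  choose W k hxW hWU b using fun x : U => exists_dBasis_le hE x.2
  let F : TopCat.Sheaf AddCommGrpCat.{u} X :=
    ⟨(CohB1.tensorMod E (CohB1.tensorMod (dual E) M)).presheaf,
      (CohB1.tensorMod E (CohB1.tensorMod (dual E) M)).isSheaf⟩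
  let sf : ∀ x : U, Γ(CohB1.tensorMod E (CohB1.tensorMod (dual E) M), W x) := fun x =>
    etaVal (b x).some (rs M (hWU x) m)
  obtain ⟨s, hs, -⟩ := F.existsUnique_gluing' W U (fun x => homOfLE (hWU x))
    (fun x hx => Opens.mem_iSup.mpr ⟨⟨x, hx⟩, hxW _⟩) sf fun x y => by
      change rs _ (inf_le_left : W x ⊓ W y ≤ W x) (sf x) = rs _ inf_le_right (sf y)
      rw [etaVal_res, etaVal_res, rs_rs, rs_rs]
      exact etaVal_indep _ _ _
  refine ⟨s, fun V hV l c => section_ext _ _ _ fun x hx => ?_⟩
  let x' : U := ⟨x, hV hx⟩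
  refine ⟨V ⊓ W x', inf_le_left, ⟨hx, hxW x'⟩, ?_⟩
  rw [etaVal_res, rs_rs, rs_rs, ← rs_rs (CohB1.tensorMod E (CohB1.tensorMod (dual E) M)) (hWU x')
    (inf_le_right : V ⊓ W x' ≤ W x') s, show rs _ (hWU x') s = sf x' from hs x']
  rw [etaVal_res, rs_rs]
  exact etaVal_indep _ _ _

/-- The sectionwise unit. -/
noncomputable def etaSec (m : Γ(M, U)) :
    Γ(CohB1.tensorMod E (CohB1.tensorMod (dual E) M), U) :=
  (exists_isEta hE m).choose

lemma etaSec_spec (m : Γ(M, U)) : IsEta m (etaSec hE m) := (exists_isEta hE m).choose_spec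

lemma etaSec_add (m m' : Γ(M, U)) : etaSec hE (m + m') = etaSec hE m + etaSec hE m' := by
  refine isEta_unique hE (etaSec_spec hE _) fun W hW k b => ?_
  rw [rs_add, etaSec_spec hE m W hW k b, etaSec_spec hE m' W hW k b, rs_add, etaVal, etaVal,
    etaVal, ← Finset.sum_add_distrib]
  exact Finset.sum_congr rfl fun i _ => by rw [tens_add_right, tens_add_right]

lemma etaSec_smul (r : Γ(X, U)) (m : Γ(M, U)) : etaSec hE (r • m) = r • etaSec hE m := by
  refine isEta_unique hE (etaSec_spec hE _) fun W hW k b => ?_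
  rw [rs_smul, etaSec_spec hE m W hW k b, rs_smul, etaVal, etaVal, Finset.smul_sum]
  exact Finset.sum_congr rfl fun i _ => by rw [tens_smul_right, tens_smul_right]

lemma rs_etaSec (h : V ≤ U) (m : Γ(M, U)) : rs _ h (etaSec hE m) = etaSec hE (rs M h m) := by
  refine isEta_unique hE (fun W hW k b => ?_) (etaSec_spec hE _)
  rw [rs_rs, rs_rs]
  exact etaSec_spec hE m W (hW.trans h) k b

/-- The unit `M ⟶ E ⊗ (dual E ⊗ M)`. -/
noncomputable def unit (M : X.Modules) :
    M ⟶ CohB1.tensorMod E (CohB1.tensorMod (dual E) M) :=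
  ⟨{ app := fun W => ModuleCat.ofHom
      (X := M.val.obj W) (Y := (CohB1.tensorMod E (CohB1.tensorMod (dual E) M)).val.obj W)
      { toFun := fun m => etaSec hE (U := W.unop) m
        map_add' := etaSec_add hE
        map_smul' := etaSec_smul hE }
     naturality := fun {W W'} i => by
       ext m
       exact (rs_etaSec hE (leOfHom i.unop) m).symm }⟩

lemma unit_app (m : Γ(M, U)) : (unit hE M).app U m = etaSec hE m := rfl

/-- The functor `E ⊗ -`. -/
noncomputable abbrev tensorL (E : X.Modules) : X.Modules ⥤ X.Modules := (tensorFunctor X).obj E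

lemma tensorL_map (a : M ⟶ M') : (tensorL E).map a = tmap (𝟙 E) a := rfl

include hE in
/-- Two morphisms agree if they agree on opens with dual bases. -/
lemma app_ext_of_dBasis {P Q : X.Modules} {a c : P ⟶ Q}
    (h : ∀ W (k : ℕ) (_ : DBasis E W k) (z : Γ(P, W)), a.app W z = c.app W z) : a = c := by
  ext U z
  refine section_ext _ _ _ fun x hx => ?_
  obtain ⟨W, k, hxW, hWU, ⟨b⟩⟩ := exists_dBasis_le hE hx
  exact ⟨W, hWU, hxW, by rw [← app_rs, ← app_rs, h W k b]⟩

lemma unit_app_of_dBasis (b : DBasis E U n) (m : Γ(M, U)) :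
    (unit hE M).app U m = etaVal b m := by
  rw [unit_app, ← rs_self (CohB1.tensorMod E (CohB1.tensorMod (dual E) M)) le_rfl (etaSec hE m),
    etaSec_spec hE m U le_rfl n b, rs_self]

/-- `dual E ⊗ - ⊣ E ⊗ -`. -/
noncomputable def adjunction : tensorL (dual E) ⊣ tensorL E :=
  Adjunction.mkOfUnitCounit
    { unit :=
        { app := unit hE
          naturality := fun M M' a => by
            refine app_ext_of_dBasis hE fun W k b z => ?_
            change (unit hE M').app W (a.app W z) =
              ((tensorL E).map ((tensorL (dual E)).map a)).app W ((unit hE M).app W z)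
            rw [unit_app_of_dBasis hE b, unit_app_of_dBasis hE b, etaVal, etaVal]
            refine Eq.trans ?_ (map_sum _ _ _).symm
            refine Finset.sum_congr rfl fun i _ => ?_
            exact ((tmap_tens (𝟙 E) (tmap (𝟙 (dual E)) a) (b.e i) (tens (toSec (b.f i)) z)).trans
              (congrArg (tens (b.e i)) (tmap_tens (𝟙 (dual E)) a (toSec (b.f i)) z))).symm }
      counit :=
        { app := counit E
          naturality := fun N N' a => by
            refine Free.hom_ext_pairM fun W φ u => ?_
            change pairM (tmap (𝟙 (dual E)) (tmap (𝟙 E) a) ≫ counit E N') φ u =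
              pairM (counit E N ≫ a) φ u
            rw [← app_tens, ← app_tens, Scheme.Modules.Hom.comp_app, Scheme.Modules.Hom.comp_app,
              CategoryTheory.comp_apply, CategoryTheory.comp_apply, tmap_tens, counit_tens,
              counit_tens, ← contr_natural]
            rfl }
      left_triangle := by
        ext M : 2
        refine Free.hom_ext_pairM fun U φ m => ?_
        change pairM ((tmap (𝟙 (dual E)) (unit hE M) ≫ 𝟙 _) ≫
          counit E (CohB1.tensorMod (dual E) M)) φ m = pairM (𝟙 _) φ m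
        rw [Category.comp_id, ← app_tens, ← app_tens, Scheme.Modules.Hom.comp_app,
          CategoryTheory.comp_apply, tmap_tens, counit_tens]
        refine section_ext _ _ _ fun x hx => ?_
        obtain ⟨W, k, hxW, hWU, ⟨b⟩⟩ := exists_dBasis_le hE hx
        refine ⟨W, hWU, hxW, ?_⟩
        rw [rs_contr, ← app_rs (unit hE M) hWU m, unit_app_of_dBasis hE b, etaVal, map_sum]
        change _ = rs _ hWU (tens φ m)
        rw [rs_tens]
        have hφ : rs (dual E) hWU φ = ∑ i, (dualRes E hWU (toForm φ)).app le_rfl (b.e i) •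
            toSec (b.f i) := (sum_dual b (dualRes E hWU (toForm φ))).symm
        rw [hφ, tens_sum_left]
        refine Finset.sum_congr rfl fun i _ => ?_
        rw [contr_tens]
        exact (tens_smul_left _ _ _).symm
      right_triangle := by
        ext N : 2
        refine app_ext_of_dBasis hE fun W k b u => ?_
        change ((unit hE (CohB1.tensorMod E N) ≫ 𝟙 _) ≫ tmap (𝟙 E) (counit E N)).app W u = u
        rw [Category.comp_id, Scheme.Modules.Hom.comp_app, CategoryTheory.comp_apply,
          unit_app_of_dBasis hE b, etaVal, map_sum]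
        refine Eq.trans ?_ (sum_contr b W le_rfl u)
        refine Finset.sum_congr rfl fun i _ => ?_
        rw [tmap_tens, counit_tens, rs_self]
        rfl }

include hE in
lemma tensorL_isLeftAdjoint' : (tensorL (dual E)).IsLeftAdjoint := (adjunction hE).isLeftAdjoint

include hE in
lemma tensorL_preservesMono : (tensorL E).PreservesMonomorphisms :=
  ⟨fun a _ => mono_tmap hE a⟩

instance tensorL_additive (E : X.Modules) : (tensorL E).Additive where
  map_add {M M' a b} := by
    refine Free.hom_ext_pairM fun U e m => ?_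
    change pairM (tmap (𝟙 E) (a + b)) e m = pairM (tmap (𝟙 E) a + tmap (𝟙 E) b) e m
    rw [← app_tens, ← app_tens, Scheme.Modules.Hom.add_app]
    change _ = (tmap (𝟙 E) a).app U (tens e m) + (tmap (𝟙 E) b).app U (tens e m)
    rw [tmap_tens, tmap_tens, tmap_tens, Scheme.Modules.Hom.add_app]
    exact tens_add_right _ (a.app U m) (b.app U m)

include hE in
/-- `E ⊗ -` is exact. -/
lemma tensorL_preservesHomology : (tensorL E).PreservesHomology := by
  haveI : PreservesLimitsOfSize.{0, 0} (tensorL E) := (adjunction hE).rightAdjoint_preservesLimits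
  haveI : PreservesFiniteLimits (tensorL E) := PreservesLimitsOfSize0.preservesFiniteLimits _
  haveI : PreservesColimitsOfSize.{0, 0} (tensorL E) := preservesColimitsOfSize_shrink _
  haveI : PreservesFiniteColimits (tensorL E) := PreservesColimitsOfSize0.preservesFiniteColimits _
  infer_instance

include hE in
/-- `E ⊗ -` preserves injectives. -/
lemma tensorL_preservesInjective : (tensorL E).PreservesInjectiveObjects := by
  haveI := tensorL_preservesMono hE.dual
  exact Functor.preservesInjectiveObjects_of_adjunction_of_preservesMonomorphisms (adjunction hE)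

end Groth.Agent.Lib.Modules.DualAdj
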