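import Groth.Agent.Lib.DescAlg.PbSec
import Groth.Agent.Lib.Modules.LocalSections

/-!
# Sections of inverse images along open immersions; quotients with the same kernel
-/

set_option autoImplicit false
set_option linter.style.haveILetI false
set_option backward.isDefEq.respectTransparency false
set_option backward.isDefEq.respectTransparency.types false
universe u

open CategoryTheory CategoryTheory.Limits AlgebraicGeometry Opposite TopologicalSpace
open ZarCoh.FlatBC.PullbackSections (pbRes)

namespace Groth.Agent.Lib.Modules.OpenRes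

open Groth.Agent.Lib
open Groth.Agent.Lib.TensorMod.Dual (rs rs_rs rs_self)
open Groth.Agent.Lib.Modules.TensorSec (app_rs)

variable {X Y Z : Scheme.{u}}

theorem bijective_rs_of_eq (M : X.Modules) {U V : X.Opens} (h : V ≤ U) (e : V = U) :
    Function.Bijective (rs M h) := by
  subst e
  rw [show (rs M h : Γ(M, V) → Γ(M, V)) = id from funext fun m => rs_self M h m]
  exact Function.bijective_id

/-- The unit is bijective on sections in the range of an open immersion. -/
theorem bijective_unit (j : Y ⟶ X) [IsOpenImmersion j] (M : X.Modules) {W : X.Opens} (hW : W ≤ j.opensRange) :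
    Function.Bijective (((Scheme.Modules.pullbackPushforwardAdjunction j).unit.app M).app W) := by
  have key := Adjunction.unit_leftAdjointUniq_hom_app (Scheme.Modules.restrictAdjunction j)
    (Scheme.Modules.pullbackPushforwardAdjunction j) M
  rw [← key]
  refine Function.Bijective.comp
    (g := ((Scheme.Modules.pushforward j).map (((Scheme.Modules.restrictAdjunction j).leftAdjointUniq
      (Scheme.Modules.pullbackPushforwardAdjunction j)).hom.app M)).app W)
    (f := ((Scheme.Modules.restrictAdjunction j).unit.app M).app W) ?_ ?_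
  · exact ConcreteCategory.bijective_of_isIso
      (((Scheme.Modules.restrictFunctorIsoPullback j).hom.app M).app (j ⁻¹ᵁ W))
  · exact bijective_rs_of_eq M (j.image_preimage_le W)
      (by rw [Scheme.Hom.image_preimage_eq_opensRange_inf]; exact inf_eq_right.2 hW)

/-- Pulling back sections along an open immersion is bijective within its range. -/
theorem bijective_pbRes (j : Y ⟶ X) [IsOpenImmersion j] (M : X.Modules) {W : X.Opens} (hW : W ≤ j.opensRange)
    {W' : Y.Opens} (e : W' ≤ j ⁻¹ᵁ W) (he : W' = j ⁻¹ᵁ W) : Function.Bijective (pbRes j M e) :=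
  (bijective_rs_of_eq _ e he).comp (bijective_unit j M hW)

theorem pbRes_natural (f : Y ⟶ X) {M N : X.Modules} (φ : M ⟶ N) {U : X.Opens} {V : Y.Opens}
    (e : V ≤ f ⁻¹ᵁ U) (m : Γ(M, U)) :
    ((Scheme.Modules.pullback f).map φ).app V (pbRes f M e m) = pbRes f N e (φ.app U m) := by
  have h := congr(($((Scheme.Modules.pullbackPushforwardAdjunction f).unit.naturality φ)).app U m)
  show ((Scheme.Modules.pullback f).map φ).app V (rs _ e _) = rs _ e _
  rw [app_rs]
  exact congrArg (rs _ e) h.symm

/-- Pulling back sections of inverse images along an open immersion is bijective within its range. -/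
theorem bijective_R (j : Z ⟶ Y) [IsOpenImmersion j] {u : Y ⟶ X} {v : Z ⟶ X} (h : j ≫ u = v) (E : X.Modules)
    {W : Y.Opens} (hW : W ≤ j.opensRange) :
    Function.Bijective (DescAlg.PbSec.R j h E (le_refl (j ⁻¹ᵁ W))) := by
  rw [show ⇑(DescAlg.PbSec.R j h E (le_refl (j ⁻¹ᵁ W))) =
    ((DescAlg.PbSec.tr j h E).hom.app (j ⁻¹ᵁ W)) ∘ pbRes j ((Scheme.Modules.pullback u).obj E) le_rfl from
      funext fun x => DescAlg.PbSec.R_eq j h E le_rfl x]
  exact (ConcreteCategory.bijective_of_isIso ((DescAlg.PbSec.tr j h E).hom.app (j ⁻¹ᵁ W))).comp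
    (bijective_pbRes j _ hW le_rfl rfl)

/-- Epimorphisms killing the same sections differ by an isomorphism. -/
theorem exists_iso_of_kills {A B B' : X.Modules} (f : A ⟶ B) (g : A ⟶ B') [Epi f] [Epi g]
    (h₁ : ∀ (U : X.Opens) (m : Γ(A, U)), f.app U m = 0 → ∀ p ∈ U, ∃ (W : X.Opens) (h : W ≤ U),
      p ∈ W ∧ g.app W (rs A h m) = 0)
    (h₂ : ∀ (U : X.Opens) (m : Γ(A, U)), g.app U m = 0 → ∀ p ∈ U, ∃ (W : X.Opens) (h : W ≤ U),
      p ∈ W ∧ f.app W (rs A h m) = 0) : ∃ i : B ≅ B', f ≫ i.hom = g := by
  have key : ∀ {C C' : X.Modules} (f : A ⟶ C) (g : A ⟶ C'), (∀ (U : X.Opens) (m : Γ(A, U)), f.app U m = 0 →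
      ∀ p ∈ U, ∃ (W : X.Opens) (h : W ≤ U), p ∈ W ∧ g.app W (rs A h m) = 0) → kernel.ι f ≫ g = 0 := by
    intro C C' f g h
    refine LocalSections.hom_eq_zero fun U m p hp => ?_
    obtain ⟨W, hW, hpW, e⟩ := h U _ (ClSub.Sections.app_kernel_ι_app f U m) p hp
    refine ⟨W, hW, hpW, ?_⟩
    rw [Scheme.Modules.Hom.comp_app, CategoryTheory.comp_apply, app_rs]
    exact e
  refine ⟨⟨Abelian.epiDesc f g (key f g h₁), Abelian.epiDesc g f (key g f h₂), ?_, ?_⟩, Abelian.comp_epiDesc _ _ _⟩
  · rw [← cancel_epi f, Abelian.comp_epiDesc_assoc, Abelian.comp_epiDesc, Category.comp_id]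
  · rw [← cancel_epi g, Abelian.comp_epiDesc_assoc, Abelian.comp_epiDesc, Category.comp_id]

theorem kills_of_iso {A B B' : X.Modules} {f : A ⟶ B} {g : A ⟶ B'} (i : B ≅ B') (h : f ≫ i.hom = g)
    {U : X.Opens} (m : Γ(A, U)) : f.app U m = 0 ↔ g.app U m = 0 := by
  subst h
  rw [Scheme.Modules.Hom.comp_app, CategoryTheory.comp_apply,
    map_eq_zero_iff _ (LocalSections.app_injective i.hom U)]

end Groth.Agent.Lib.Modules.OpenRes
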