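import Groth.Agent.Lib.Modules.ToSheaf
import Groth.Agent.Lib.QCoh.Closure
import Groth.Agent.Lib.CohBasics.Affine

/-!
# Modules over a sheaf of algebras on a scheme

For `α : O_X ⟶ R'` with `R'` quasi-coherent, modules over `R'` are quasi-coherent iff they are so
over `O_X`; on affine opens they are then presented through their sections.
-/

set_option autoImplicit false
universe u

open CategoryTheory Limits AlgebraicGeometry Opposite TopologicalSpace

namespace Groth.Agent.Lib.Modules.AlgMod

open Groth.Agent.Lib

noncomputable section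

variable {X : Scheme.{u}} {R' : Sheaf (Opens.grothendieckTopology X) RingCat.{u}}
  (α : X.ringCatSheaf ⟶ R') (U : X.Opens)

/-- `α` over `U`. -/
abbrev αOver : X.ringCatSheaf.over U ⟶ R'.over U :=
  ((Opens.grothendieckTopology X).overPullback RingCat.{u} U).map α

/-- Modules over `R'|_U` as modules on the scheme `U`. -/
def G : SheafOfModules.{u} (R'.over U) ⥤ (U : Scheme.{u}).Modules :=
  SheafOfModules.restrictScalars (αOver α U) ⋙ (Scheme.Modules.overEquiv U).functor

/-- Restriction of scalars to `O_X`. -/
abbrev res (F : SheafOfModules.{u} R') : X.Modules := (SheafOfModules.restrictScalars α).obj F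

/-- `G` of a restriction. -/
def overIso (F : SheafOfModules.{u} R') :
    (G α U).obj (F.over U) ≅ (res α F).restrict U.ι :=
  (Scheme.Modules.overFunctorEquiv U).app (res α F)

lemma qcoh_of_iso {Y : Scheme.{u}} {M N : Y.Modules} (e : M ≅ N) (h : M.IsQuasicoherent) :
    N.IsQuasicoherent :=
  (SheafOfModules.isQuasicoherent.{u} Y.ringCatSheaf).prop_of_iso e h

section restrictScalars

variable {C : Type u} [Category.{u} C] {J : GrothendieckTopology C} {S S' : Sheaf J RingCat.{u}}
  (β : S ⟶ S') [HasSheafify J AddCommGrpCat.{u}] [J.WEqualsLocallyBijective AddCommGrpCat.{u}]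

lemma restrictScalars_faithful : (SheafOfModules.restrictScalars.{u} β).Faithful :=
  Functor.Faithful.of_comp_iso (G := SheafOfModules.toSheaf S) (H := SheafOfModules.toSheaf S')
    (Iso.refl _)

lemma restrictScalars_preservesColimitsOfShape (K : Type u) [SmallCategory K] :
    PreservesColimitsOfShape K (SheafOfModules.restrictScalars.{u} β) := by
  haveI : PreservesColimitsOfShape K
      (SheafOfModules.restrictScalars.{u} β ⋙ SheafOfModules.toSheaf.{u} S) :=
    inferInstanceAs (PreservesColimitsOfShape K (SheafOfModules.toSheaf.{u} S'))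
  haveI : ReflectsColimitsOfShape K (SheafOfModules.toSheaf.{u} S) :=
    reflectsColimitsOfShape_of_reflectsIsomorphisms
  exact preservesColimitsOfShape_of_reflects_of_preserves _ (SheafOfModules.toSheaf.{u} S)

lemma restrictScalars_preservesColimitsOfSize :
    PreservesColimitsOfSize.{u, u} (SheafOfModules.restrictScalars.{u} β) :=
  ⟨fun {K} _ => restrictScalars_preservesColimitsOfShape β K⟩

lemma restrictScalars_preservesFiniteLimits :
    PreservesFiniteLimits (SheafOfModules.restrictScalars.{u} β) := by
  refine ⟨fun K _ _ => ?_⟩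
  haveI : PreservesLimitsOfShape K
      (SheafOfModules.restrictScalars.{u} β ⋙ SheafOfModules.toSheaf.{u} S) :=
    inferInstanceAs (PreservesLimitsOfShape K (SheafOfModules.toSheaf.{u} S'))
  haveI : ReflectsLimitsOfShape K (SheafOfModules.toSheaf.{u} S) :=
    reflectsLimitsOfShape_of_reflectsIsomorphisms
  exact preservesLimitsOfShape_of_reflects_of_preserves _ (SheafOfModules.toSheaf.{u} S)

end restrictScalars

instance G_preservesColimitsOfSize : PreservesColimitsOfSize.{u, u} (G α U) := by
  haveI := restrictScalars_preservesColimitsOfSize (αOver α U)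
  exact comp_preservesColimits _ _

instance G_preservesFiniteLimits : PreservesFiniteLimits (G α U) := by
  haveI := restrictScalars_preservesFiniteLimits (αOver α U)
  exact comp_preservesFiniteLimits _ _

instance G_faithful : (G α U).Faithful := by
  haveI := restrictScalars_faithful (αOver α U)
  exact Functor.Faithful.comp _ _

instance G_preservesFiniteColimits : PreservesFiniteColimits (G α U) :=
  PreservesColimitsOfSize.preservesFiniteColimits _

variable (hB : (res α (SheafOfModules.unit R')).IsQuasicoherent)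

include hB in
lemma isQCoh_G_unit : ((G α U).obj (SheafOfModules.unit (R'.over U))).IsQuasicoherent := by
  haveI := hB
  exact qcoh_of_iso
    (overIso α U (SheafOfModules.unit R')).symm inferInstance

include hB in
lemma isQCoh_G_free (I : Type u) :
    ((G α U).obj (SheafOfModules.free (R := R'.over U) I)).IsQuasicoherent := by
  refine QCoh.Closure.isQCoh_of_isColimit
    (isColimitOfPreserves (G α U) (SheafOfModules.isColimitFreeCofan (R := R'.over U) I)) ?_
  rintro ⟨i⟩
  exact isQCoh_G_unit α U hB

include hB in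
lemma isQCoh_G_of_presentation {M : SheafOfModules.{u} (R'.over U)} (P : M.Presentation) :
    ((G α U).obj M).IsQuasicoherent := by
  refine QCoh.Closure.isQCoh_of_isColimit (isColimitOfPreserves (G α U) P.isColimit) ?_
  rintro (_ | _)
  · exact isQCoh_G_free α U hB _
  · exact isQCoh_G_free α U hB _

/-- Quasi-coherence is local. -/
lemma isQCoh_of_restrict {M : X.Modules}
    (h : ∀ x : X, ∃ W : X.Opens, x ∈ W ∧ (M.restrict W.ι).IsQuasicoherent) :
    M.IsQuasicoherent := by
  refine QCoh.Localizing.isQCoh_of_forall_exists_localizes fun x => ?_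
  obtain ⟨W, hxW, hW⟩ := h x
  obtain ⟨A, hA, hxA, -⟩ :=
    exists_isAffineOpen_mem_and_subset (U := (⊤ : (W : Scheme.{u}).Opens)) (x := (⟨x, hxW⟩ : W)) trivial
  exact ⟨W.ι ''ᵁ A, hA.image_of_isOpenImmersion _, ⟨(⟨x, hxW⟩ : W), hxA, rfl⟩,
    (QCoh.Localizing.forall_localizes_image_iff W.ι).mpr fun g =>
      QCoh.Localizing.localizes_of_isAffineOpen (M.restrict W.ι) hA g⟩

include hB in
theorem isQCoh_restrictScalars {F : SheafOfModules.{u} R'} (hF : F.IsQuasicoherent) :
    (res α F).IsQuasicoherent := by
  obtain ⟨q⟩ := hF.nonempty_quasicoherentData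
  refine isQCoh_of_restrict fun x => ?_
  obtain ⟨i, hi⟩ : ∃ i, x ∈ q.X i := by
    obtain ⟨W, f, ⟨i, ⟨g⟩⟩, hW⟩ := q.coversTop ⊤ x trivial
    exact ⟨i, leOfHom g hW⟩
  exact ⟨q.X i, hi, qcoh_of_iso (overIso α (q.X i) F)
    (isQCoh_G_of_presentation α (q.X i) hB (q.presentation i))⟩

section Generators

/-- The object of `Over U` seen by global sections of `G`. -/
abbrev W₀ : Over U := U.overEquivalence.inverse.obj ⊤

variable {U} {M : SheafOfModules.{u} (R'.over U)}

/-- Morphisms to `W₀`. -/
def toW₀ (Y : Over U) : Y ⟶ W₀ U :=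
  Over.homMk (homOfLE ((leOfHom Y.hom).trans U.ι_image_top.ge))

/-- A section over `U` as a section of the sheaf. -/
def mkSection (t : M.val.obj (op (W₀ U))) : M.sections :=
  M.val.sectionsMk (fun Y => M.val.map (toW₀ Y.unop).op t) fun Y Z f => by
    rw [← PresheafOfModules.map_comp_apply]
    rw [show (toW₀ Y.unop).op ≫ f = (toW₀ Z.unop).op from
      Quiver.Hom.unop_inj (Over.OverMorphism.ext (Subsingleton.elim _ _))]

lemma mkSection_W₀ (t : M.val.obj (op (W₀ U))) : (mkSection t).1 (op (W₀ U)) = t := by
  show M.val.map (toW₀ (W₀ U)).op t = t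
  rw [show (toW₀ (W₀ U)).op = 𝟙 (op (W₀ U)) from
      Quiver.Hom.unop_inj (Over.OverMorphism.ext (Subsingleton.elim _ _)),
    PresheafOfModules.map_id]
  rfl

/-- The morphism out of a free module given by sections over `U`. -/
def fromFree {I : Type u} (t : I → M.val.obj (op (W₀ U))) :
    SheafOfModules.free (R := R'.over U) I ⟶ M :=
  M.freeHomEquiv.symm fun i => mkSection (t i)

lemma exists_fromFree_eq {I : Type u} (t : I → M.val.obj (op (W₀ U))) (i : I) :
    ∃ a, (fromFree t).val.app (op (W₀ U)) a = t i := by
  refine ⟨(SheafOfModules.ιFree (R := R'.over U) i).val.app (op (W₀ U))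
    (1 : (R'.over U).obj.obj (op (W₀ U))), ?_⟩
  refine Eq.trans ?_ (mkSection_W₀ (t i))
  exact congrArg (fun s => s.1 (op (W₀ U)))
    (congrFun (M.freeHomEquiv.apply_symm_apply fun i => mkSection (t i)) i)

/-- Surjectivity on global sections gives an epimorphism, over an affine open. -/
lemma epi_of_surjective (hU : IsAffineOpen U) {P : SheafOfModules.{u} (R'.over U)} (π : P ⟶ M)
    (hM : ((G α U).obj M).IsQuasicoherent)
    (h : Function.Surjective (π.val.app (op (W₀ U)))) : Epi π := by
  haveI : IsAffine (U : Scheme.{u}) := hU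
  haveI := hM
  refine (G α U).epi_of_epi_map ?_
  refine (Modules.StalkModule.epi_iff_stalkMapₗ_surjective _).mpr fun x => ?_
  rw [← LinearMap.range_eq_top, eq_top_iff,
    ← CohBasics.Affine.germ_span_eq_top (M := (G α U).obj M) (isAffineOpen_top (U : Scheme.{u}))
      Set.univ Submodule.span_univ (x := x) trivial, Submodule.span_le]
  rintro _ ⟨t, -, rfl⟩
  obtain ⟨a, ha⟩ := h t
  refine ⟨((G α U).obj P).presheaf.germ ⊤ x trivial (show Γ((G α U).obj P, ⊤) from a), ?_⟩
  rw [Modules.StalkModule.stalkMapₗ_germ]
  exact congrArg _ ha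

/-- Generating sections from sections over `U`. -/
lemma exists_generatingSections (hU : IsAffineOpen U) (hM : ((G α U).obj M).IsQuasicoherent)
    {I : Type u} (t : I → M.val.obj (op (W₀ U)))
    (ht : Submodule.span ((R'.over U).obj.obj (op (W₀ U))) (Set.range t) = ⊤) :
    ∃ σ : M.GeneratingSections, σ.I = I := by
  have hepi : Epi (fromFree t) := by
    refine epi_of_surjective α hU _ hM ?_
    refine LinearMap.range_eq_top.mp (eq_top_iff.mpr ?_)
    rw [← ht, Submodule.span_le]
    rintro _ ⟨i, rfl⟩
    obtain ⟨a, ha⟩ := exists_fromFree_eq t i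
    exact ⟨a, ha⟩
  exact ⟨⟨I, fun i => mkSection (t i), hepi⟩, rfl⟩

include hB in
lemma isQCoh_G_kernel (σ : M.GeneratingSections) (hM : ((G α U).obj M).IsQuasicoherent) :
    ((G α U).obj (kernel σ.π)).IsQuasicoherent := by
  haveI := hM
  haveI := isQCoh_G_free α U hB σ.I
  exact qcoh_of_iso
    (PreservesKernel.iso (G α U) σ.π).symm (QCoh.Closure.isQCoh_kernel _)

include hB in
lemma nonempty_presentation (hU : IsAffineOpen U) (hM : ((G α U).obj M).IsQuasicoherent) :
    Nonempty M.Presentation := by
  obtain ⟨σ, -⟩ := exists_generatingSections α hU hM (fun t : M.val.obj (op (W₀ U)) => t)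
    (by rw [Set.range_id', Submodule.span_univ])
  obtain ⟨τ, -⟩ := exists_generatingSections α hU (isQCoh_G_kernel α hB σ hM)
    (fun t : (kernel σ.π).val.obj (op (W₀ U)) => t) (by rw [Set.range_id', Submodule.span_univ])
  exact ⟨⟨σ, τ⟩⟩

end Generators

include hB in
theorem isQuasicoherent_of_restrictScalars {F : SheafOfModules.{u} R'}
    (hF : (res α F).IsQuasicoherent) :
    F.IsQuasicoherent := by
  haveI := hF
  have h : ∀ x : X, ∃ A : X.Opens, x ∈ A ∧ Nonempty (F.over A).Presentation := fun x => by
    obtain ⟨A, hA, hxA, -⟩ := exists_isAffineOpen_mem_and_subset (U := ⊤) (x := x) trivial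
    refine ⟨A, hxA, nonempty_presentation α hB hA ?_⟩
    exact qcoh_of_iso (overIso α A F).symm inferInstance
  choose A hA P using h
  exact SheafOfModules.QuasicoherentData.isQuasicoherent (M := F) (R := R')
    { I := X
      X := A
      coversTop := (Opens.coversTop_iff _ _).mpr
        (eq_top_iff.mpr fun x _ => Opens.mem_iSup.mpr ⟨x, hA x⟩)
      presentation := fun x => (P x).some } 

end

end Groth.Agent.Lib.Modules.AlgMod
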