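import Groth.Agent.Lib.PushClosed.Unit
import Groth.Agent.Lib.RefHull.SubStalk
import Groth.Agent.Lib.Modules.LocalSections

/-!
# The unit `M ⟶ i_* i^* M` of an effective divisor on sections
-/

set_option autoImplicit false
set_option linter.style.haveILetI false
universe u

open CategoryTheory CategoryTheory.Limits AlgebraicGeometry Opposite TopologicalSpace
open scoped TensorProduct

namespace Groth.Agent.Lib.Modules.UnitKer

open Groth.Agent.Lib Modules.StalkModule DerivedOX.PullbackStalk
open Groth.Agent.Lib.TensorMod.Dual (rs rf rs_smul)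

theorem exists_smul_of_one_tmul {R : Type u} [CommRing R] {S : Type u} [CommRing S] [Algebra R S]
    (hS : Function.Surjective (algebraMap R S)) {x : R} (hk : RingHom.ker (algebraMap R S) = Ideal.span {x})
    {M : Type u} [AddCommGroup M] [Module R M] (a : M) (h : (1 : S) ⊗ₜ[R] a = 0) : ∃ b : M, a = x • b := by
  have hex : Function.Exact (LinearMap.lsmul R R x) (Algebra.linearMap R S) := fun r => by
    rw [show Algebra.linearMap R S r = 0 ↔ r ∈ RingHom.ker (algebraMap R S) from Iff.rfl, hk,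
      Ideal.mem_span_singleton']
    exact ⟨fun ⟨c, hc⟩ => ⟨c, (mul_comm x c).trans hc⟩, fun ⟨c, hc⟩ => ⟨c, (mul_comm c x).trans hc⟩⟩
  obtain ⟨t, ht⟩ := (rTensor_exact M hex hS ((1 : R) ⊗ₜ[R] a)).1
    (by rw [LinearMap.rTensor_tmul, Algebra.linearMap_apply, map_one]; exact h)
  refine ⟨TensorProduct.lid R M t, ?_⟩
  rw [← one_smul R a, ← TensorProduct.lid_tmul, ← ht]
  clear ht
  induction t using TensorProduct.induction_on with
  | zero => simp
  | tmul r m => simp [mul_smul]
  | add s t hs ht => rw [map_add, map_add, hs, ht, map_add, smul_add]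

variable {X : Scheme.{u}} (I : X.IdealSheafData)

/-- The functor `M ↦ M|_D`. -/
noncomputable abbrev onD : X.Modules ⥤ X.Modules :=
  Scheme.Modules.pullback I.subschemeι ⋙ Scheme.Modules.pushforward I.subschemeι

/-- `M → M|_D`. -/
noncomputable abbrev η (M : X.Modules) : M ⟶ (onD I).obj M :=
  (Scheme.Modules.pullbackPushforwardAdjunction I.subschemeι).unit.app M

instance epi_η (M : X.Modules) : Epi (η I M) := PushClosed.Unit.epi_unit I.subschemeι M

variable {I} {U : X.affineOpens} {x : Γ(X, U.1)}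

theorem app_smul_eq_zero (hx : I.ideal U = Ideal.span {x}) {W : X.Opens} (h : W ≤ U.1) (M : X.Modules)
    (m : Γ(M, W)) : (η I M).app W (rf h x • m) = 0 := by
  rw [Scheme.Modules.Hom.app_smul]
  show I.subschemeι.app W (X.presheaf.map (homOfLE h).op x) •
    (show Γ((Scheme.Modules.pullback I.subschemeι).obj M, I.subschemeι ⁻¹ᵁ W) from (η I M).app W m) = 0
  have hx0 : I.subschemeι.app U.1 x = 0 := by
    rw [← RingHom.mem_ker, I.ker_subschemeι_app U, hx]; exact Ideal.mem_span_singleton_self x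
  have : I.subschemeι.app W (X.presheaf.map (homOfLE h).op x) = 0 := by
    rw [← CommRingCat.comp_apply, Scheme.Hom.naturality, CommRingCat.comp_apply, hx0, map_zero]
  rw [this, zero_smul]

theorem exists_germ_eq_smul (hx : I.ideal U = Ideal.span {x}) {W : X.Opens} {M : X.Modules} (m : Γ(M, W))
    (hm : (η I M).app W m = 0) {p : X} (hp : p ∈ W) (hpU : p ∈ U.1) :
    ∃ b : M.presheaf.stalk p, M.presheaf.germ W p hp m = X.presheaf.germ U.1 p hpU x • b := by
  by_cases hD : p ∈ Set.range I.subschemeι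
  · obtain ⟨z, rfl⟩ := hD
    letI : Algebra (X.presheaf.stalk (I.subschemeι z)) (I.subscheme.presheaf.stalk z) :=
      (I.subschemeι.stalkMap z).hom.toAlgebra
    refine exists_smul_of_one_tmul (S := I.subscheme.presheaf.stalk z)
      (RefHull.SubStalk.stalkMap_surjective I z)
      ((RefHull.SubStalk.ker_stalkMap I hx z hpU).trans (by rw [Set.image_singleton])) _ ?_
    haveI := isIso_comparison I.subschemeι z
    refine (ConcreteCategory.bijective_of_isIso ((comparison I.subschemeι z).app M)).1 ?_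
    refine (comparison_one_tmul I.subschemeι z M _).trans (Eq.trans ?_ (map_zero _).symm)
    rw [show stalkMapₗ ((Scheme.Modules.pullbackPushforwardAdjunction I.subschemeι).unit.app M)
      (I.subschemeι z) (M.presheaf.germ W (I.subschemeι z) hp m) = 0 from
        (stalkMapₗ_germ _ hp m).trans (by rw [hm, map_zero]), map_zero]
    rfl
  · have hu : IsUnit (X.presheaf.germ U.1 p hpU x) := by
      rw [← X.mem_basicOpen x p hpU]
      rw [Scheme.IdealSheafData.range_subschemeι] at hD
      by_contra hb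
      refine hD ?_
      have : p ∈ X.zeroLocus (I.ideal U : Set Γ(X, U.1)) ∩ U.1 := by
        refine ⟨?_, hpU⟩
        rw [hx, Scheme.zeroLocus_span, Scheme.mem_zeroLocus_iff]
        rintro f rfl
        exact hb
      rw [← I.coe_support_inter U] at this
      exact this.1
    exact ⟨(↑hu.unit⁻¹ : X.presheaf.stalk p) • M.presheaf.germ W p hp m, by
      rw [← mul_smul, IsUnit.mul_val_inv, one_smul]⟩

/-- The kernel of `M → M|_D` is, locally, `x M`. -/
theorem exists_eq_smul (hx : I.ideal U = Ideal.span {x}) {W : X.Opens} (hW : W ≤ U.1) {M : X.Modules}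
    (m : Γ(M, W)) (hm : (η I M).app W m = 0) {p : X} (hp : p ∈ W) :
    ∃ (V : X.Opens) (h : V ≤ W) (z : Γ(M, V)), p ∈ V ∧ rs M h m = rf (h.trans hW) x • z := by
  obtain ⟨b, hb⟩ := exists_germ_eq_smul hx m hm hp (hW hp)
  obtain ⟨O, hpO, z, rfl⟩ := TopCat.Presheaf.exists_germ_eq M.presheaf b
  have hle : O ⊓ W ≤ U.1 := inf_le_right.trans hW
  have h2 : M.presheaf.germ W p hp m =
      M.presheaf.germ (O ⊓ W) p ⟨hpO, hp⟩ (rf hle x • rs M (inf_le_left : O ⊓ W ≤ O) z) := by
    rw [hb, germ_smul]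
    exact congrArg₂ (· • ·)
      (TopCat.Presheaf.germ_res_apply X.presheaf (homOfLE hle) p ⟨hpO, hp⟩ x).symm
      (TopCat.Presheaf.germ_res_apply M.presheaf (homOfLE (inf_le_left : O ⊓ W ≤ O)) p ⟨hpO, hp⟩ z).symm
  obtain ⟨V, hpV, i₁, i₂, hV⟩ := TopCat.Presheaf.germ_eq M.presheaf p hp (show p ∈ O ⊓ W from ⟨hpO, hp⟩) _ _ h2
  refine ⟨V, i₁.le, rs M i₂.le (rs M inf_le_left z), hpV, ?_⟩
  refine hV.trans ((rs_smul M i₂.le (rf hle x) _).trans ?_)
  rw [TensorMod.Dual.rf_rf]

end Groth.Agent.Lib.Modules.UnitKer
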