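import Groth.Agent.Lib.Modules.UnitKer
import Groth.Agent.Lib.Modules.TensorGen
import Groth.Agent.Lib.Modules.AffineHom
import Groth.Prelude.Def_BlowUp2

/-!
# Restriction to a divisor commutes with invertible twists
-/

set_option autoImplicit false
set_option linter.style.haveILetI false
universe u

open CategoryTheory CategoryTheory.Limits AlgebraicGeometry Opposite TopologicalSpace

namespace Groth.Agent.Lib.Modules.OnDTensor

open Groth.Agent.Lib Modules.UnitKer Modules.LocalSections Modules.TensorGen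
open Groth.Agent.Lib.TensorMod.Dual (rs rf rs_smul rs_rs rf_rf rs_self rf_self)
open Groth.Agent.Lib.TensorMod.Gen (IsGen)
open Groth.Agent.Lib.Modules.TensorSec (app_rs)

variable {X : Scheme.{u}}

/-- Epimorphisms with the same kernel have isomorphic targets. -/
theorem nonempty_iso_of_kernel {A B B' : X.Modules} (f : A ⟶ B) (g : A ⟶ B') [Epi f] [Epi g]
    (h₁ : ∀ (U : X.Opens) (m : Γ(A, U)), f.app U m = 0 → ∀ p ∈ U, ∃ (W : X.Opens) (h : W ≤ U),
      p ∈ W ∧ g.app W (rs A h m) = 0)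
    (h₂ : ∀ (U : X.Opens) (m : Γ(A, U)), g.app U m = 0 → ∀ p ∈ U, ∃ (W : X.Opens) (h : W ≤ U),
      p ∈ W ∧ f.app W (rs A h m) = 0) : Nonempty (B ≅ B') := by
  have key : ∀ {C C' : X.Modules} (f : A ⟶ C) (g : A ⟶ C'), (∀ (U : X.Opens) (m : Γ(A, U)), f.app U m = 0 →
      ∀ p ∈ U, ∃ (W : X.Opens) (h : W ≤ U), p ∈ W ∧ g.app W (rs A h m) = 0) → kernel.ι f ≫ g = 0 := by
    intro C C' f g h
    refine LocalSections.hom_eq_zero fun U m p hp => ?_
    obtain ⟨W, hW, hpW, e⟩ := h U _ (ClSub.Sections.app_kernel_ι_app f U m) p hp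
    refine ⟨W, hW, hpW, ?_⟩
    rw [Scheme.Modules.Hom.comp_app, CategoryTheory.comp_apply, app_rs]
    exact e
  refine ⟨⟨Abelian.epiDesc f g (key f g h₁), Abelian.epiDesc g f (key g f h₂), ?_, ?_⟩⟩
  · rw [← cancel_epi f, Abelian.comp_epiDesc_assoc, Abelian.comp_epiDesc, Category.comp_id]
  · rw [← cancel_epi g, Abelian.comp_epiDesc_assoc, Abelian.comp_epiDesc, Category.comp_id]

variable {I : X.IdealSheafData}

theorem exists_eqn_gen (hI : BlowUp.IsEffCartierIdeal I) {P : X.Modules}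
    (hP : PicF.IsInvertible P) {V : X.Opens} {p : X} (hp : p ∈ V) :
    ∃ (W U : X.affineOpens) (x : Γ(X, U.1)) (a : Γ(P, W.1)), p ∈ W.1 ∧ W.1 ≤ V ∧ W.1 ≤ U.1 ∧
      I.ideal U = Ideal.span {x} ∧ IsGen P W.1 a := by
  obtain ⟨U, hpU, x, -, hx⟩ := hI p
  obtain ⟨U₁, a, hp₁, ha⟩ := TensorMod.Gen.isInvertible_iff.1 hP p
  obtain ⟨W, hW, hpW⟩ := AffineHom.exists_affine (show p ∈ V ⊓ (U.1 ⊓ U₁) from ⟨hp, hpU, hp₁⟩)
  exact ⟨W, U, x, rs P (hW.trans (inf_le_right.trans inf_le_right)) a, hpW, hW.trans inf_le_left,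
    hW.trans (inf_le_right.trans inf_le_left), hx, ha.res _⟩

/-- `(M ⊗ P)|_D ≅ M|_D ⊗ P`. -/
theorem nonempty_iso (hI : BlowUp.IsEffCartierIdeal I) (M P : X.Modules) (hP : PicF.IsInvertible P) :
    Nonempty ((onD I).obj (CohB1.tensorMod M P) ≅ CohB1.tensorMod ((onD I).obj M) P) := by
  haveI : Epi (KoszTw.tensorMap (η I M) (𝟙 P)) := epi_of_local fun V n p hp => by
    obtain ⟨W, U, x, a, hpW, hWV, -, -, ha⟩ := exists_eqn_gen hI hP hp
    obtain ⟨v, hv⟩ := tg_surjective ha (rs _ hWV n)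
    obtain ⟨W', hW', m, hpW', hm⟩ := exists_preimage (η I M) v hpW
    refine ⟨W', hW'.trans hWV, tg M (rs P hW' a) m, hpW', ?_⟩
    rw [tg_apply, KoszTw.tensorMap_tmul, hm, ← rs_rs _ hWV hW', ← hv, rs_tg]
    rfl
  refine nonempty_iso_of_kernel (η I (CohB1.tensorMod M P)) (KoszTw.tensorMap (η I M) (𝟙 P))
    (fun V m hm p hp => ?_) (fun V m hm p hp => ?_)
  · obtain ⟨W₀, U, x, a, hpW, hWV, hWU, hx, ha⟩ := exists_eqn_gen hI hP hp
    obtain ⟨W, hW, z, hpW', hz⟩ := UnitKer.exists_eq_smul hx hWU (rs _ hWV m)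
      (by rw [app_rs, hm]; exact map_zero _) hpW
    obtain ⟨u, rfl⟩ := tg_surjective (ha.res hW) z
    refine ⟨W, hW.trans hWV, hpW', ?_⟩
    rw [← rs_rs _ hWV hW, hz, Scheme.Modules.Hom.app_smul, tg_apply, KoszTw.tensorMap_tmul, ← tg_apply,
      ← map_smul, ← Scheme.Modules.Hom.app_smul, app_smul_eq_zero hx, map_zero]
  · obtain ⟨W₀, U, x, a, hpW, hWV, hWU, hx, ha⟩ := exists_eqn_gen hI hP hp
    obtain ⟨v, hv⟩ := tg_surjective ha (rs _ hWV m)
    have h0 : (η I M).app W₀.1 v = 0 := by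
      refine tg_injective ha ?_
      rw [map_zero]
      have : (KoszTw.tensorMap (η I M) (𝟙 P)).app W₀.1 (tg M a v) = 0 := by
        rw [hv, app_rs, hm]; exact map_zero _
      rw [tg_apply, KoszTw.tensorMap_tmul] at this
      exact this
    obtain ⟨W, hW, z, hpW', hz⟩ := UnitKer.exists_eq_smul hx hWU v h0 hpW
    refine ⟨W, hW.trans hWV, hpW', ?_⟩
    rw [← rs_rs _ hWV hW, ← hv, rs_tg, hz, map_smul, app_smul_eq_zero hx]

end Groth.Agent.Lib.Modules.OnDTensor
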